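import Cfsg.Agent.Lib.SubfieldMax.LinearTools
import Cfsg.Agent.Lib.MaxClass.NotTop

/-!
Transvections with a full set of axes, and a criterion for a subgroup to be all of `SL₃`.
-/

set_option autoImplicit false
set_option linter.unusedSectionVars false

namespace Cfsg.Agent.Lib.SLThree78

open Matrix
open Cfsg.Agent.Lib.SubfieldMax (InTr Tr_mul_left)

variable {ι : Type} [Fintype ι] [DecidableEq ι] {F : Type*} [Field F]

theorem InTr.addCentre {H : Subgroup (GL ι F)} {x x' a : ι → F} (h : InTr H x a) (h' : InTr H x' a) :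
    InTr H (x + x') a := by
  obtain ⟨hd, hm⟩ := h
  obtain ⟨hd', hm'⟩ := h'
  exact ⟨_, Tr_mul_left x x' a hd hd' ▸ H.mul_mem hm hm'⟩

theorem InTr.scale {H : Subgroup (GL ι F)} {x a : ι → F} {c d : F} (hcd : c * d = 1) (h : InTr H x a) :
    InTr H (c • x) (d • a) := by
  obtain ⟨hd, hm⟩ := h
  refine ⟨by rw [smul_dotProduct, dotProduct_smul, hd, smul_zero, smul_zero], ?_⟩
  convert hm using 1
  refine FormMax.gl_ext fun z => ?_
  rw [FormMax.Tr_mulVec, FormMax.Tr_mulVec, smul_dotProduct, smul_eq_mul, smul_smul, mul_right_comm,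
    mul_comm d c, hcd, one_mul]

/-- Every transvection with centre `x` lies in `H`. -/
def FullC (H : Subgroup (GL ι F)) (x : ι → F) : Prop := ∀ a : ι → F, a ⬝ᵥ x = 0 → InTr H x a

theorem FullC.conj {H : Subgroup (GL ι F)} {x : ι → F} (hx : FullC H x) {g : GL ι F} (hg : g ∈ H) :
    FullC H ((g : Matrix ι ι F) *ᵥ x) := by
  intro a ha
  have ha' : (a ᵥ* (g : Matrix ι ι F)) ⬝ᵥ x = 0 := by rw [← dotProduct_mulVec, ha]
  refine ((hx _ ha').conj hg).congr rfl ?_
  rw [vecMul_vecMul, ← Units.val_mul, mul_inv_cancel, Units.val_one, vecMul_one]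

theorem FullC.smul {H : Subgroup (GL ι F)} {x : ι → F} (hx : FullC H x) (c : F) : FullC H (c • x) := by
  intro a ha
  by_cases hc : c = 0
  · subst hc; rw [zero_smul]; exact InTr.zero_left _
  rw [dotProduct_smul, smul_eq_mul] at ha
  have h := InTr.scale (c := c) (d := c⁻¹) (mul_inv_cancel₀ hc)
    (hx (c • a) (by rw [smul_dotProduct, smul_eq_mul, ha]))
  rwa [smul_smul, inv_mul_cancel₀ hc, one_smul] at h

theorem FullC.add {H : Subgroup (GL ι F)} {x y : ι → F} (hx : FullC H x) (hy : FullC H y) :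
    FullC H (x + y) := by
  by_cases hyx : y ∈ Submodule.span F {x}
  · obtain ⟨c, rfl⟩ := Submodule.mem_span_singleton.mp hyx
    rw [show x + c • x = (1 + c) • x by rw [add_smul, one_smul]]
    exact hx.smul _
  obtain ⟨b, hby, hb⟩ := MaxClass.exists_dot hyx
  have hbx : b ⬝ᵥ x = 0 := hb x (Submodule.mem_span_singleton_self x)
  obtain ⟨hd, hm⟩ := hx b hbx
  have e : (FormMax.Tr x b hd : Matrix ι ι F) *ᵥ y = x + y := by
    rw [FormMax.Tr_mulVec, hby, one_smul, add_comm]
  exact e ▸ hy.conj hm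

/-- The centres with a full set of axes form a subspace. -/
def fullSub (H : Subgroup (GL ι F)) : Submodule F (ι → F) where
  carrier := {x | FullC H x}
  add_mem' := FullC.add
  zero_mem' := fun a _ => InTr.zero_left a
  smul_mem' := fun c _ hx => hx.smul c

theorem eq_SL_of_fullSub {H : Subgroup (GL ι F)} (hH : H ≤ Cfsg.Geo.specialLinear ι F)
    (h : fullSub H = ⊤) : H = Cfsg.Geo.specialLinear ι F := by
  refine FormMax.eq_SL H hH fun v a ha => ?_
  have hv : v ∈ fullSub H := h ▸ Submodule.mem_top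
  obtain ⟨_, hm⟩ := (show FullC H v from hv) a ha
  exact hm

/-- An irreducible subgroup with one full centre is the special linear group. -/
theorem eq_SL_of_fullC {H : Subgroup (GL ι F)} (hH : H ≤ Cfsg.Geo.specialLinear ι F)
    (hirr : ∀ W : Submodule F (ι → F), W ≠ ⊥ →
      (∀ g ∈ H, ∀ x ∈ W, (g : Matrix ι ι F) *ᵥ x ∈ W) → W = ⊤)
    {v : ι → F} (hv0 : v ≠ 0) (hv : FullC H v) : H = Cfsg.Geo.specialLinear ι F :=
  eq_SL_of_fullSub hH (hirr _ (fun e => hv0 (by
    have : v ∈ fullSub H := hv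
    rwa [e, Submodule.mem_bot] at this)) fun _ hg _ hx => FullC.conj hx hg)

theorem single_dot (i : ι) (c : F) (x : ι → F) : (Pi.single i c : ι → F) ⬝ᵥ x = c * x i :=
  single_dotProduct _ _ _

theorem eq_three {i j k : Fin 3} (hij : i ≠ j) (hik : i ≠ k) (hjk : j ≠ k) (l : Fin 3) :
    l = i ∨ l = j ∨ l = k := by omega

theorem exists_other {i j : Fin 3} (hij : i ≠ j) : ∃ k, i ≠ k ∧ j ≠ k := by
  revert hij; revert i j; decide

theorem sum_three {M : Type*} [AddCommMonoid M] {i j k : Fin 3} (hij : i ≠ j) (hik : i ≠ k) (hjk : j ≠ k)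
    (f : Fin 3 → M) : ∑ l, f l = f i + f j + f k := by
  have h : (Finset.univ : Finset (Fin 3)) = {i, j, k} := by
    ext l
    simpa using eq_three hij hik hjk l
  rw [h, Finset.sum_insert (by simp [hij, hik]), Finset.sum_insert (by simp [hjk]), Finset.sum_singleton,
    add_assoc]

theorem dot_three {i j k : Fin 3} (hij : i ≠ j) (hik : i ≠ k) (hjk : j ≠ k) (a b : Fin 3 → F) :
    a ⬝ᵥ b = a i * b i + a j * b j + a k * b k := sum_three hij hik hjk fun l => a l * b l

end Cfsg.Agent.Lib.SLThree78
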