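import Cfsg.Agent.Lib.SLThree78.ExtraSpec22
import Cfsg.Agent.Lib.ExtraNine17.Frame
import Cfsg.Agent.Lib.ExtraNine17.Three
import Cfsg.Agent.Lib.GeoTypesSL.Basic

/-!
The normaliser of a group of symplectic type of order 27 in three variables over a prime field is a change of basis
of the standard one.
-/

set_option autoImplicit false
set_option linter.unusedSectionVars false

namespace Cfsg.Agent.Lib.SLThree78.Extra22

open Matrix Cfsg.Geo
open Cfsg.Agent.Lib.ExtraNine17

universe u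

variable {F : Type u} [Field F] {w : F}

theorem ch_inj_std (hw : IsPrimitiveRoot w 3) {a b : ZMod 3} (h : ch w a = ch w b) : a = b :=
  ZMod.val_injective 3 (hw.pow_inj (ZMod.val_lt a) (ZMod.val_lt b) h)

theorem em_cube_std (hw : IsPrimitiveRoot w 3) (e : ZMod 3 × ZMod 3) :
    em w e * em w e * em w e = 1 := by
  rw [em_mul hw, Matrix.smul_mul, em_mul hw, smul_smul, ← ch_add hw,
    show e + e + e = 0 from by
      ext <;> simp <;> ring_nf <;> simp [show (3 : ZMod 3) = 0 from rfl], em_zero,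
    show e.2 * e.1 + (e + e).2 * e.1 = 0 by
      simp; ring_nf; simp [show (3 : ZMod 3) = 0 from rfl], ch_zero, one_smul]

/-- The standard group of order 27. -/
def rthree (hw : IsPrimitiveRoot w 3) : Subgroup (GL I₃ F) where
  carrier := {g | ∃ (a : ZMod 3) (e : ZMod 3 × ZMod 3), (g : Matrix I₃ I₃ F) = ch w a • em w e}
  one_mem' := ⟨0, 0, by rw [ch_zero, em_zero, one_smul]; rfl⟩
  mul_mem' := by
    rintro g h ⟨a, v, hg⟩ ⟨b, u, hh⟩
    refine ⟨a + b + v.2 * u.1, v + u, ?_⟩
    rw [Units.val_mul, hg, hh, Matrix.smul_mul, Matrix.mul_smul, em_mul hw, smul_smul, smul_smul,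
      ch_add hw, ch_add hw]
  inv_mem' := by
    rintro g ⟨a, v, hg⟩
    refine ⟨-a + v.2 * v.1, -v, ?_⟩
    refine Units.inv_eq_of_mul_eq_one_right ?_
    rw [hg, Matrix.smul_mul, Matrix.mul_smul, em_mul hw, smul_smul, smul_smul, add_neg_cancel, em_zero,
      ← ch_add hw, ← ch_add hw, show a + (-a + v.2 * v.1) + v.2 * (-v).1 = 0 by simp,
      ch_zero, one_smul]

theorem conj_mem_rthree (hw : IsPrimitiveRoot w 3) {g : GL I₃ F} (hg : MemN3 w (g : Matrix I₃ I₃ F))
    {x : GL I₃ F} (hx : x ∈ rthree hw) : g * x * g⁻¹ ∈ rthree hw := by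
  obtain ⟨a, v, hxv⟩ := hx
  obtain ⟨c, v', hc⟩ := hg v
  have hgu : ((g * eu hw v * g⁻¹ : GL I₃ F) : Matrix I₃ I₃ F) = c • em w v' := by
    rw [Units.val_mul, Units.val_mul, eu_coe, hc, Matrix.smul_mul, Matrix.mul_assoc, Units.mul_inv,
      Matrix.mul_one]
  have h3 : c ^ 3 = 1 := by
    have e1 : ((g * eu hw v * g⁻¹ : GL I₃ F) ^ 3 : GL I₃ F) = 1 := by
      have hv : eu hw v ^ 3 = 1 := Units.ext (by
        rw [pow_three, ← mul_assoc, Units.val_mul, Units.val_mul, eu_coe, em_cube_std hw, Units.val_one])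
      rw [conj_pow, hv, mul_one, mul_inv_cancel]
    have e2 := congrArg (fun z : GL I₃ F => (z : Matrix I₃ I₃ F)) e1
    simp only [Units.val_pow_eq_pow_val, hgu, smul_pow, Units.val_one] at e2
    rw [pow_three (em w v'), ← mul_assoc, em_cube_std hw] at e2
    have := congrFun (congrFun e2 0) 0
    simpa using this
  obtain ⟨i, hi, rfl⟩ := hw.eq_pow_of_pow_eq_one h3
  refine ⟨a + (i : ZMod 3), v', ?_⟩
  have hsplit : ((g * x * g⁻¹ : GL I₃ F) : Matrix I₃ I₃ F) =
      ch w a • ((g * eu hw v * g⁻¹ : GL I₃ F) : Matrix I₃ I₃ F) := by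
    simp only [Units.val_mul, hxv, eu_coe, Matrix.mul_smul, Matrix.smul_mul]
  rw [hsplit, hgu, smul_smul, ch_add hw, show ch w ((i : ℕ) : ZMod 3) = w ^ i by
    rw [ch, ZMod.val_natCast, Nat.mod_eq_of_lt hi]]

theorem mem_normalizer_rthree [Finite F] (hw : IsPrimitiveRoot w 3) {g : GL I₃ F} :
    g ∈ subgroupNormalizer (rthree hw) ↔ MemN3 w (g : Matrix I₃ I₃ F) := by
  constructor
  · intro hg v
    obtain ⟨a, u, hu⟩ := ((Subgroup.mem_normalizer_iff).1 hg (eu hw v)).1
      ⟨0, v, by rw [ch_zero, one_smul, eu_coe]⟩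
    refine ⟨ch w a, u, ?_⟩
    rw [← Matrix.smul_mul, ← hu, Units.val_mul, Units.val_mul, eu_coe, Matrix.mul_assoc, Units.inv_mul,
      Matrix.mul_one]
  · intro hg
    have hmap : (rthree hw).map (MulAut.conj g).toMonoidHom = rthree hw := by
      refine Subgroup.eq_of_le_of_card_ge ?_ (le_of_eq ?_)
      · rintro _ ⟨x, hx, rfl⟩
        exact conj_mem_rthree hw hg hx
      · exact (Subgroup.card_map_of_injective (MulEquiv.injective _)).symm
    rw [subgroupNormalizer, Subgroup.mem_normalizer_iff]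
    intro x
    refine ⟨conj_mem_rthree hw hg, fun hx => ?_⟩
    obtain ⟨y, hy, hyx⟩ := hmap.ge hx
    exact (MulAut.conj g).injective hyx ▸ hy

theorem mem_sl_std {ι : Type} [Fintype ι] [DecidableEq ι] {g : GL ι F} :
    g ∈ specialLinear ι F ↔ (g : Matrix ι ι F).det = 1 := by
  change Matrix.GeneralLinearGroup.det g = 1 ↔ _
  rw [← Units.val_eq_one, Matrix.GeneralLinearGroup.val_det_apply]

theorem mem_stdSet_iff [Finite F] (hw : IsPrimitiveRoot w 3) {g : GL I₃ F} :
    g ∈ subgroupNormalizer (rthree hw) ⊓ specialLinear I₃ F ↔ g ∈ stdSet w := by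
  rw [Subgroup.mem_inf, mem_normalizer_rthree hw, mem_sl_std]
  exact and_comm

theorem exists_not_stdSet (hw : IsPrimitiveRoot w 3) :
    ∃ g ∈ specialLinear I₃ F, g ∉ stdSet w := by
  have hne : (0 : I₃) ≠ 1 := by decide
  refine ⟨tvu 0 1 hne 1, ?_, fun hmem => ?_⟩
  · rw [mem_sl_std, tvu_coe, Matrix.det_transvection_of_ne _ _ hne]
  obtain ⟨c, u, hc⟩ := hmem.2 (0, 1)
  rw [tvu_coe, Matrix.transvection, add_mul, one_mul, mul_add, mul_one] at hc
  have e1 := congrFun (congrFun hc (0 : I₃)) (0 : I₃)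
  have e2 := congrFun (congrFun hc (0 : I₃)) (1 : I₃)
  simp only [Matrix.add_apply, Matrix.smul_apply, smul_eq_mul, Matrix.single_mul_apply_same,
    Matrix.mul_single_apply_same, Matrix.mul_single_apply_of_ne (hbj := hne), one_mul, mul_one] at e1 e2
  simp only [em_apply, zero_add, mul_zero, add_zero, mul_one, one_mul, ch_zero, if_true,
    show ((0 : ZMod 3) = 1) = False from eq_false (by decide),
    show ((1 : ZMod 3) = 0) = False from eq_false (by decide), if_false, ch_one] at e1 e2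
  by_cases h1 : (0 : ZMod 3) = u.1
  · rw [if_pos h1] at e1 e2
    rw [if_neg (show ¬ (0 : ZMod 3) = 1 + u.1 by rw [← h1]; decide), zero_add, mul_one] at e2
    rw [mul_one] at e1
    rw [← e1] at e2
    exact hw.ne_one (by norm_num) e2
  · rw [if_neg h1, mul_zero] at e1
    exact one_ne_zero e1

/-- The twisting of a group of symplectic type of exponent three in three variables, and its order. -/
theorem exists_twisted_three [Fintype F] {p : ℕ} [CharP F p] (h3 : 3 ≠ p)
    {R : Subgroup (GL (Fin 3) F)} (hS : Cfsg.Geo.IsSymplecticTypeGroup 3 R)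
    (hirr : Cfsg.Geo.ActsAbsolutelyIrreducibly (Cfsg.Geo.matrixSet R))
    (hZ : Nat.card (Subgroup.center R) = 3) {m : ℕ} (hcard : Nat.card R = 3 ^ (1 + 2 * m)) :
    ∃ (w : F) (B : R → R → ZMod 3), Twisted w R B ∧ Nat.card R = 27 := by
  classical
  haveI := Fact.mk (by norm_num : Nat.Prime 3)
  have hexp : Monoid.exponent R = 3 := by
    rw [hS.exponent_eq]
    norm_num
  have hdeg := MaxClass.symplecticType_degree h3 hS hirr hZ (dvd_of_eq hexp) (m := m)
    (by rw [hcard, pow_add, pow_one])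
  rw [Fintype.card_fin] at hdeg
  have hm : m = 1 := Nat.pow_right_injective (by norm_num) (show 3 ^ m = 3 ^ 1 by rw [← hdeg, pow_one])
  have hclass := MaxClass.commutator_le_center_of_exponent hS.pGroup hS.cyclic_of_characteristic
    (by rw [hexp, hZ])
  have hcube : ∀ x : R, x ^ 3 = 1 := fun x =>
    (congrArg (fun n => x ^ n) hexp).symm.trans (Monoid.pow_exponent_eq_one x)
  have hsc : ∀ x : R, x ∈ Subgroup.center R → ∃ k : F, k ^ 3 = 1 ∧ mat R x = k • (1 : Matrix _ _ F) := by
    intro x hx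
    obtain ⟨k, hk⟩ := hirr.2 (mat R x) (by
      rintro _ ⟨g, hg, rfl⟩
      exact congrArg (mat R) ((Subgroup.mem_center_iff.1 hx ⟨g, hg⟩).symm))
    refine ⟨k, ?_, hk⟩
    have h := congrArg (mat R) (hcube x)
    rw [map_pow, hk, map_one, smul_pow, one_pow] at h
    simpa using congrFun (congrFun h 0) 0
  haveI : Nontrivial (Subgroup.center R) :=
    Finite.one_lt_card_iff_nontrivial.1 (by rw [hZ]; norm_num)
  obtain ⟨z, hz1⟩ := exists_ne (1 : Subgroup.center R)
  obtain ⟨w, hw3, hzw⟩ := hsc z.1 z.2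
  have hw1 : w ≠ 1 := fun h =>
    hz1 (Subtype.ext (mat_injective R (by rw [hzw, h, one_smul]; exact (map_one _).symm)))
  have hw : IsPrimitiveRoot w 3 := by
    rw [← orderOf_eq_prime hw3 hw1]
    exact IsPrimitiveRoot.orderOf w
  have hcen : ∀ x : R, x ∈ Subgroup.center R → ∃ t : ZMod 3, mat R x = ch w t • (1 : Matrix _ _ F) := by
    intro x hx
    obtain ⟨k, hk3, hk⟩ := hsc x hx
    obtain ⟨i, hi, rfl⟩ := hw.eq_pow_of_pow_eq_one hk3
    exact ⟨(i : ZMod 3), by rw [hk, ch, ZMod.val_natCast, Nat.mod_eq_of_lt hi]⟩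
  choose B hB using fun x y : R => hcen (x * y * x⁻¹ * y⁻¹)
    (hclass (Subgroup.commutator_mem_commutator (Subgroup.mem_top x) (Subgroup.mem_top y)))
  have hswap : ∀ x y : R, mat R x * mat R y = ch w (B x y) • (mat R y * mat R x) := fun x y => by
    have h : x * y = x * y * x⁻¹ * y⁻¹ * (y * x) := by group
    rw [← map_mul, h, map_mul, hB, map_mul, Matrix.smul_mul, one_mul]
  refine ⟨w, B, ⟨hw, hcube, hswap, ⟨z.1, hzw⟩, fun x hx => hcen x ?_⟩, by rw [hcard, hm]; norm_num⟩
  refine Subgroup.mem_center_iff.2 fun y => mat_injective R ?_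
  have h := hswap x y
  rw [hx, ch_zero, one_smul] at h
  rw [map_mul, map_mul, h]

/-- Two twisted matrices of order three in three variables are a change of basis of the standard ones. -/
theorem exists_frame_three (hw : IsPrimitiveRoot w 3) (h3 : (3 : F) ≠ 0) (e : I₃ ≃ Fin 3)
    {A B : Matrix (Fin 3) (Fin 3) F} (hA : A ^ 3 = 1) (hB : B ^ 3 = 1) (hBA : B * A = w • (A * B)) :
    ∃ C : GL (Fin 3) F, ∀ v, (C : Matrix (Fin 3) (Fin 3) F) * Matrix.reindexAlgEquiv F F e (em w v) =
      pp A B v * C := by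
  classical
  have hUA : A * A ^ 2 = 1 := by rw [← pow_succ', hA]
  have hUA' : A ^ 2 * A = 1 := by rw [← pow_succ, hA]
  have htr : B.trace = 0 := by
    have h1 : A ^ 2 * (B * A) = w • B := by rw [hBA, Matrix.mul_smul, ← mul_assoc, hUA', one_mul]
    have h2 := congrArg Matrix.trace h1
    rw [Matrix.trace_mul_comm, mul_assoc, hUA, mul_one, Matrix.trace_smul, smul_eq_mul] at h2
    by_contra h
    exact hw.ne_one (by norm_num) ((mul_eq_right₀ h).1 h2.symm)
  have htr2 : (B * B).trace = 0 := by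
    have hBB : B * B * A = (w ^ 2) • (A * (B * B)) := by
      rw [mul_assoc, hBA, Matrix.mul_smul, ← mul_assoc, hBA, Matrix.smul_mul, smul_smul, mul_assoc, pow_two]
    have h1 : A ^ 2 * (B * B * A) = (w ^ 2) • (B * B) := by
      rw [hBB, Matrix.mul_smul, ← mul_assoc (A ^ 2), hUA', one_mul]
    have h2 := congrArg Matrix.trace h1
    rw [Matrix.trace_mul_comm, mul_assoc, hUA, mul_one, Matrix.trace_smul, smul_eq_mul] at h2
    by_contra h
    exact hw.pow_ne_one_of_pos_of_lt (by norm_num) (by norm_num : 2 < 3) ((mul_eq_right₀ h).1 h2.symm)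
  set S : Matrix (Fin 3) (Fin 3) F := 1 + B + B * B with hS
  have hS0 : S ≠ 0 := fun h => by
    have h2 := congrArg Matrix.trace h
    rw [hS, Matrix.trace_add, Matrix.trace_add, htr, htr2, Matrix.trace_one, Matrix.trace_zero] at h2
    simp at h2
    exact h3 (by simpa using h2)
  obtain ⟨u, hu⟩ : ∃ u, S *ᵥ u ≠ 0 := by
    by_contra hn
    push Not at hn
    exact hS0 (Matrix.ext_of_mulVec_single fun i => by rw [hn, Matrix.zero_mulVec])
  set v0 : Fin 3 → F := S *ᵥ u with hv0
  have hBv : B *ᵥ v0 = v0 := by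
    rw [hv0, Matrix.mulVec_mulVec]
    congr 1
    rw [hS, mul_add, mul_add, mul_one, ← mul_assoc, show B * B * B = 1 by rw [← hB, pow_three, mul_assoc]]
    abel
  let col : I₃ → (Fin 3 → F) := fun j => A ^ j.val *ᵥ v0
  have hcolA : ∀ a j : ZMod 3, A ^ a.val *ᵥ col j = col (j + a) := fun a j => by
    show A ^ a.val *ᵥ (A ^ j.val *ᵥ v0) = A ^ (j + a).val *ᵥ v0
    rw [Matrix.mulVec_mulVec, ← pow_val_add hA, add_comm a j]
  have hcolB : ∀ b j : ZMod 3, B ^ b.val *ᵥ col j = ch w (b * j) • col j := fun b j => by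
    show B ^ b.val *ᵥ (A ^ j.val *ᵥ v0) = ch w (b * j) • (A ^ j.val *ᵥ v0)
    rw [Matrix.mulVec_mulVec, pow_swap hBA, ← ch_mul_val hw, Matrix.smul_mulVec, ← Matrix.mulVec_mulVec]
    congr 2
    generalize b.val = n
    induction n with
    | zero => simp
    | succ n ih => rw [pow_succ, ← Matrix.mulVec_mulVec, hBv, ih]
  have hv0ne : v0 ≠ 0 := hu
  have hcolne : ∀ j : I₃, col j ≠ 0 := fun j h => by
    have h1 := hcolA (-j) j
    rw [h, Matrix.mulVec_zero, add_neg_cancel] at h1
    exact hv0ne (by simpa [col] using h1.symm)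
  have hli : LinearIndependent F col := by
    refine Module.End.eigenvectors_linearIndependent' (Matrix.toLin' B) (fun j : I₃ => ch w j)
      (fun a b h => ch_inj_std hw h) col fun j => ?_
    refine ⟨?_, hcolne j⟩
    rw [Module.End.mem_eigenspace_iff, Matrix.toLin'_apply]
    have := hcolB 1 j
    rwa [show (1 : ZMod 3).val = 1 from rfl, pow_one, one_mul] at this
  let P : Matrix (Fin 3) (Fin 3) F := Matrix.of fun i k => col (e.symm k) i
  have hP : IsUnit P := by
    rw [← Matrix.linearIndependent_cols_iff_isUnit]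
    exact hli.comp e.symm e.symm.injective
  refine ⟨hP.unit, fun v => ?_⟩
  rw [IsUnit.unit_spec]
  ext i k
  rw [Matrix.mul_apply, Matrix.reindexAlgEquiv_apply]
  simp only [Matrix.reindex_apply, Matrix.submatrix_apply, em_apply]
  rw [Finset.sum_eq_single (e (e.symm k + v.1))]
  · rw [Equiv.symm_apply_apply, if_pos rfl]
    show col (e.symm (e (e.symm k + v.1))) i * ch w (v.2 * e.symm k) = (pp A B v *ᵥ col (e.symm k)) i
    rw [Equiv.symm_apply_apply, pp, ← Matrix.mulVec_mulVec, hcolB, Matrix.mulVec_smul, hcolA, Pi.smul_apply,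
      smul_eq_mul, mul_comm]
  · intro l _ hl
    rw [if_neg (fun h => hl (by rw [← h, Equiv.apply_symm_apply])), mul_zero]
  · intro h
    exact absurd (Finset.mem_univ _) h

/-- A group of symplectic type of order 27 is a standard one. -/
theorem exists_map_three [Finite F] {w : F} (hw : IsPrimitiveRoot w 3) (h3 : (3 : F) ≠ 0)
    {R : Subgroup (GL (Fin 3) F)} {B : R → R → ZMod 3} (hB : Twisted w R B) (hcard : Nat.card R = 27) :
    ∃ Φ : GL I₃ F ≃* GL (Fin 3) F,
      (∀ x, Matrix.GeneralLinearGroup.det (Φ x) = Matrix.GeneralLinearGroup.det x) ∧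
      (rthree hw).map Φ.toMonoidHom = R := by
  classical
  haveI : Finite R := Nat.finite_of_card_ne_zero (by omega)
  obtain ⟨z, hz⟩ := hB.scal
  have hzt : ∀ t : ZMod 3, mat R (z ^ t.val) = ch w t • (1 : Matrix (Fin 3) (Fin 3) F) := fun t => by
    rw [map_pow, hz, smul_pow, one_pow]
    rfl
  obtain ⟨a, ha⟩ : ∃ a : R, ∃ y, B a y ≠ 0 := by
    by_contra hno
    push Not at hno
    have hle := Nat.card_le_card_of_surjective (fun t : ZMod 3 => z ^ t.val) (fun x => by
      obtain ⟨t, ht⟩ := hB.central x (hno x)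
      exact ⟨t, (mat_injective R (ht.trans (hzt t).symm)).symm⟩)
    rw [Nat.card_zmod] at hle
    omega
  obtain ⟨b, hba⟩ := hB.exists_pair ha
  have hA : ∀ x : R, mat R x ^ 3 = 1 := fun x => by rw [← map_pow, hB.cube, map_one]
  have hba' : mat R b * mat R a = w • (mat R a * mat R b) := by rw [hB.swap b a, hba, ch_one]
  let e : I₃ ≃ Fin 3 := Fintype.equivFinOfCardEq (by simp [I₃])
  obtain ⟨C, hC⟩ := exists_frame_three hw h3 e (hA a) (hA b) hba'
  let Φ : GL I₃ F ≃* GL (Fin 3) F := (Cfsg.Geo.glReindex e).trans (MulAut.conj C)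
  have hΦ : ∀ g : GL I₃ F, ((Φ g : GL (Fin 3) F) : Matrix (Fin 3) (Fin 3) F) =
      (C : Matrix (Fin 3) (Fin 3) F) * Matrix.reindexAlgEquiv F F e (g : Matrix I₃ I₃ F) *
        ((C⁻¹ : GL (Fin 3) F) : Matrix (Fin 3) (Fin 3) F) := fun g => rfl
  let u : ZMod 3 × ZMod 3 × ZMod 3 → R := fun t => z ^ t.1.val * (a ^ t.2.1.val * b ^ t.2.2.val)
  have hu : ∀ t, mat R (u t) = ch w t.1 • pp (mat R a) (mat R b) t.2 := fun t => by
    simp only [u, pp, map_mul, map_pow]
    rw [← map_pow, hzt, Matrix.smul_mul, one_mul]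
  have hkey : ∀ (g : GL I₃ F) (t : ZMod 3) (v : ZMod 3 × ZMod 3), (g : Matrix I₃ I₃ F) = ch w t • em w v →
      Φ g = ((u (t, v) : R) : GL (Fin 3) F) := fun g t v hg => by
    refine Units.ext ?_
    rw [hΦ, hg, map_smul, Matrix.mul_smul, hC, Matrix.smul_mul, Matrix.mul_assoc, Units.mul_inv,
      Matrix.mul_one, ← mat_apply, hu]
  have hzB : ∀ y, B z y = 0 := fun y => hB.uniq (by
    rw [hz, ch_zero, one_smul, Matrix.smul_mul, Matrix.mul_smul, one_mul, mul_one])
  have huB : ∀ t y, B (u t) y = t.2.1 * B a y + t.2.2 * B b y := fun t y => by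
    simp only [u]
    rw [hB.mul_left, hB.mul_left, hB.pow_val_left, hB.pow_val_left, hB.pow_val_left, hzB, mul_zero, zero_add]
  have hinj : Function.Injective u := by
    intro s t hst
    have e1 := huB s a
    rw [hst, huB t a, hB.self, hba] at e1
    have e2 := huB s b
    rw [hst, huB t b, hB.self, hB.swap' b a, hba] at e2
    simp only [mul_zero, zero_add, add_zero, mul_one, mul_neg, neg_inj] at e1 e2
    have h2 : s.2 = t.2 := Prod.ext e2.symm e1.symm
    simp only [u, h2] at hst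
    have h1 := congrArg (mat R) (mul_right_cancel hst)
    rw [hzt, hzt] at h1
    have h0 := congrFun (congrFun h1 0) 0
    simp at h0
    exact Prod.ext (ch_inj_std hw h0) h2
  have hsurj : Function.Surjective u := by
    haveI := Fintype.ofFinite R
    refine ((Fintype.bijective_iff_injective_and_card u).2 ⟨hinj, ?_⟩).2
    rw [← Nat.card_eq_fintype_card (α := R), hcard]
    simp
  refine ⟨Φ, fun x => ?_, le_antisymm ?_ fun x hx => ?_⟩
  · show Matrix.GeneralLinearGroup.det (C * _ * C⁻¹) = _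
    rw [map_mul, map_mul, map_inv, mul_right_comm, mul_inv_cancel, one_mul]
    apply Units.ext
    rw [Matrix.GeneralLinearGroup.val_det_apply, Matrix.GeneralLinearGroup.val_det_apply]
    exact Matrix.det_reindex_self e (x : Matrix I₃ I₃ F)
  · rintro _ ⟨g, ⟨t, v, hg⟩, rfl⟩
    show Φ g ∈ R
    rw [hkey g t v hg]
    exact (u (t, v)).2
  · obtain ⟨t, ht⟩ := hsurj ⟨x, hx⟩
    refine ⟨sc (Units.mk0 _ (ch_ne_zero hw t.1)) * eu hw t.2, ⟨t.1, t.2, ?_⟩, ?_⟩
    · rw [Units.val_mul, sc_coe, eu_coe, Units.val_mk0, Matrix.smul_mul, one_mul]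
    · show Φ _ = x
      rw [hkey _ t.1 t.2 (by rw [Units.val_mul, sc_coe, eu_coe, Units.val_mk0, Matrix.smul_mul, one_mul]), ht]

/-- Reduction of the clause to the standard group. -/
theorem std : StdStmt.{u} := by
  intro F _ _ p R hp hF h3 hR hcore
  haveI := Fact.mk hp
  haveI : CharP F p := charP_of_card_eq_prime hF
  have h3p : 3 ≠ p := by omega
  obtain ⟨q, k, -, -, hcases⟩ := hR.field
  obtain ⟨-, -, hZ, m, -, hm⟩ | ⟨h2, -⟩ | ⟨h2, -⟩ := hcases
  · have h3F : (3 : F) ≠ 0 := by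
      intro h
      have h' : ((3 : ℕ) : F) = 0 := by exact_mod_cast h
      rw [CharP.cast_eq_zero_iff F p, Nat.prime_dvd_prime_iff_eq hp Nat.prime_three] at h'
      omega
    obtain ⟨w, B, hB, hcard⟩ := exists_twisted_three h3p hR.symplecticType hR.absIrred hZ hm
    have hw := hB.prim
    obtain ⟨Φ, hdet, hmap⟩ := exists_map_three hw h3F hB hcard
    have hmax : IsMaximalIn (specialLinear I₃ F) (subgroupNormalizer (rthree hw) ⊓ specialLinear I₃ F) := by
      refine ⟨lt_of_le_of_ne inf_le_right fun hEq => ?_, fun M hNM hMS => ?_⟩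
      · obtain ⟨g, hg, hgn⟩ := exists_not_stdSet hw
        rw [← hEq] at hg
        exact hgn ((mem_stdSet_iff hw).1 hg)
      by_cases hex : ∃ g ∈ M, g ∉ stdSet w
      · exact Or.inr (hcore w hw M hMS (fun g hg => hNM ((mem_stdSet_iff hw).2 hg)) hex)
      · push Not at hex
        exact Or.inl (le_antisymm (fun g hg => (mem_stdSet_iff hw).2 (hex g hg)) hNM)
    have h := GeoTypesSL.isMaximalIn_map Φ hmax
    have hSL : (specialLinear I₃ F).map Φ.toMonoidHom = specialLinear (Fin 3) F := by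
      ext g
      refine ⟨?_, fun hg => ⟨Φ.symm g, ?_, Φ.apply_symm_apply g⟩⟩
      · rintro ⟨x, hx, rfl⟩
        show Matrix.GeneralLinearGroup.det (Φ x) = 1
        rw [hdet]
        exact hx
      · show Matrix.GeneralLinearGroup.det (Φ.symm g) = 1
        rw [← hdet, Φ.apply_symm_apply]
        exact hg
    rwa [Subgroup.map_inf _ _ _ Φ.injective, hSL, subgroupNormalizer, Subgroup.map_equiv_normalizer_eq, hmap] at h
  · exact absurd h2 (by norm_num)
  · exact absurd h2 (by norm_num)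

end Cfsg.Agent.Lib.SLThree78.Extra22
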