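import Cfsg.Agent.Lib.SLThree78.ExtraQuot22
import Cfsg.Agent.Lib.SLThree78.ExtraStd22

/-!
The normaliser of an extraspecial group of order 27 is maximal in `SL₃(p)`.
-/

set_option autoImplicit false

namespace Cfsg.Agent.Lib.SLThree78

theorem isMaximalIn_extra_three {F : Type*} [Field F] [Fintype F] (p : ℕ)
    (R : Subgroup (Matrix.GeneralLinearGroup (Fin 3) F)) (hp : p.Prime) (hcard : Fintype.card F = p)
    (hmod : p % 3 = 1) (hR : Cfsg.Geo.IsLinearSymplecticTypeData 3 R) :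
    Cfsg.Geo.IsMaximalIn (Cfsg.Geo.specialLinear (Fin 3) F)
      (Cfsg.Geo.subgroupNormalizer R ⊓ Cfsg.Geo.specialLinear (Fin 3) F) :=
  Extra22.std F p R hp hcard hmod hR (Extra22.stdCore p hp hcard hmod)

end Cfsg.Agent.Lib.SLThree78
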