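import Cfsg.Agent.Lib.SLThree78.ExtraSpec22
import Mathlib

/-!
No extension of the alternating group of degree six by two in the configuration (helper9).
-/

set_option autoImplicit false

namespace Cfsg.Agent.Lib.SLThree78.Extra22

universe u

namespace AltAux

theorem six_no_ten : ∀ σ : alternatingGroup (Fin 6), σ ^ 10 = 1 → σ ^ 5 = 1 ∨ σ ^ 2 = 1 := by
  decide +kernel

variable {G : Type u} [Group G] [Finite G]

theorem mem_of_odd_pow {T : Subgroup G} (hT : T.index = 2) {x : G} (hx : x ^ 5 = 1) : x ∈ T := by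
  haveI := Subgroup.normal_of_index_eq_two hT
  rw [← QuotientGroup.eq_one_iff, ← orderOf_eq_one_iff]
  refine Nat.eq_one_of_dvd_coprimes (show Nat.Coprime 5 2 by norm_num)
    (orderOf_dvd_of_pow_eq_one (by rw [← QuotientGroup.mk_pow, hx, QuotientGroup.mk_one])) ?_
  exact (orderOf_dvd_natCard _).trans (by rw [← hT, Subgroup.index])

end AltAux

open AltAux in
theorem altKill : AltKillStmt.{u} := by
  intro G _ _ E i j z hd hsyl T hTn hT hiso hinv
  classical
  obtain ⟨e⟩ := hiso
  haveI : Fact (Nat.Prime 2) := ⟨Nat.prime_two⟩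
  haveI : Fact (Nat.Prime 3) := ⟨Nat.prime_three⟩
  haveI : Fact (Nat.Prime 5) := ⟨by norm_num⟩
  have hcard : Nat.card G = 720 := by
    rw [← T.card_mul_index, hT, Nat.card_congr e.toEquiv, nat_card_alternatingGroup, Nat.card_fin]
    rfl
  obtain ⟨x, hx⟩ := exists_prime_orderOf_dvd_card' (G := G) 5 (by rw [hcard]; norm_num)
  have hx5 : x ^ 5 = 1 := hx ▸ pow_orderOf_eq_one x
  have hxne : x ≠ 1 := fun h => by rw [h, orderOf_one] at hx; norm_num at hx
  have hxT : x ∈ T := mem_of_odd_pow hT hx5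
  have two : ∀ g : G, g * g = 1 → Commute g x → g = 1 := by
    intro g hg hgx
    have hgT := hinv g hg
    let σ : alternatingGroup (Fin 6) := e ⟨g * x, mul_mem hgT hxT⟩
    have hσ : ∀ n : ℕ, σ ^ n = 1 ↔ (g * x) ^ n = 1 := fun n => by
      rw [← map_pow, e.map_eq_one_iff, Subtype.ext_iff, Subgroup.coe_pow, Subgroup.coe_one]
    have hg2 : g ^ 2 = 1 := by rw [pow_two, hg]
    rcases six_no_ten σ ((hσ 10).2 (by
        rw [hgx.mul_pow, show g ^ 10 = (g ^ 2) ^ 5 from pow_mul g 2 5, hg2, one_pow, one_mul,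
          show x ^ 10 = (x ^ 5) ^ 2 from pow_mul x 5 2, hx5, one_pow])) with h | h
    · have h' := (hσ 5).1 h
      rw [hgx.mul_pow, hx5, mul_one, show g ^ 5 = (g ^ 2) ^ 2 * g from by rw [← pow_mul, ← pow_succ], hg2,
        one_pow, one_mul] at h'
      exact h'
    · have h' := (hσ 2).1 h
      rw [hgx.mul_pow, hg2, one_mul] at h'
      exact absurd (by rw [show x ^ 5 = (x ^ 2) ^ 2 * x from by rw [← pow_mul, ← pow_succ], h', one_pow,
        one_mul] at hx5; exact hx5) hxne
  have hE : IsPGroup 3 E := IsPGroup.of_card (n := 2) (by rw [hd.cardE]; norm_num)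
  obtain ⟨S, hS⟩ := hE.exists_le_sylow
  have hSE : (S : Subgroup G) = E := hsyl _ S.2 hS
  have three : ∀ g : G, g ^ 3 = 1 → Commute g x → g = 1 := by
    intro g hg hgx
    by_contra hne
    have hp : IsPGroup 3 (Subgroup.zpowers g) := IsPGroup.of_card (n := 1) (by
      rw [Nat.card_zpowers, orderOf_eq_prime hg hne, pow_one])
    obtain ⟨Q, hQ⟩ := hp.exists_le_sylow
    obtain ⟨h, hh⟩ := MulAction.exists_smul_eq G Q S
    have hgE : h * g * h⁻¹ ∈ E := by
      rw [← hSE, ← hh]
      exact Subgroup.smul_mem_pointwise_smul g (MulAut.conj h) _ (hQ (Subgroup.mem_zpowers g))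
    have hxE : h * x * h⁻¹ ∈ E := hd.cc _ hgE (fun h0 => hne (conj_eq_one_iff.1 h0)) _ (by
      have := hgx.eq
      calc h * x * h⁻¹ * (h * g * h⁻¹) = h * (x * g) * h⁻¹ := by group
        _ = h * (g * x) * h⁻¹ := by rw [this]
        _ = h * g * h⁻¹ * (h * x * h⁻¹) := by group)
    have h3 := hd.cube _ hxE
    rw [conj_pow, conj_eq_one_iff] at h3
    have : x ^ 5 = x ^ 3 * x ^ 2 := pow_add x 3 2
    rw [hx5, h3, one_mul] at this
    exact hxne (by
      have h2 : x ^ 3 = x ^ 2 * x := pow_succ x 2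
      rw [h3, ← this, one_mul] at h2
      exact h2.symm)
  set P := Subgroup.zpowers x with hP
  have hPc : Nat.card P = 5 := by rw [hP, Nat.card_zpowers, hx]
  let PS : Sylow 5 G := Sylow.ofCard P (by
    rw [hPc, hcard, show (720 : ℕ) = 5 * 144 by norm_num, Nat.factorization_mul (by norm_num) (by norm_num),
      Finsupp.add_apply, (by norm_num : Nat.Prime 5).factorization_self,
      Nat.factorization_eq_zero_of_not_dvd (by norm_num)]
    rfl)
  set C := Subgroup.centralizer (P : Set G) with hC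
  have hcomm : ∀ g ∈ C, Commute g x := fun g hg =>
    (Subgroup.mem_centralizer_iff.1 hg x (Subgroup.mem_zpowers x)).symm
  have hCP : C = P := by
    have hle : P ≤ C := by
      intro a ha
      obtain ⟨n, rfl⟩ := Subgroup.mem_zpowers_iff.1 ha
      rw [hC, Subgroup.mem_centralizer_iff]
      rintro b hb
      obtain ⟨m, rfl⟩ := Subgroup.mem_zpowers_iff.1 hb
      exact zpow_mul_comm x m n
    refine (Subgroup.eq_of_le_of_card_ge hle ?_).symm
    have hd720 : Nat.card C ∣ 720 := hcard ▸ Subgroup.card_subgroup_dvd_card C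
    have h2 : ¬ 2 ∣ Nat.card C := fun h => by
      obtain ⟨g, hg⟩ := exists_prime_orderOf_dvd_card' (G := C) 2 h
      have hg2 : g ^ 2 = 1 := hg ▸ pow_orderOf_eq_one g
      have : (g : G) = 1 := two _ (by rw [← pow_two, ← Subgroup.coe_pow, hg2, Subgroup.coe_one]) (hcomm _ g.2)
      rw [show g = 1 from Subtype.ext this, orderOf_one] at hg
      norm_num at hg
    have h3 : ¬ 3 ∣ Nat.card C := fun h => by
      obtain ⟨g, hg⟩ := exists_prime_orderOf_dvd_card' (G := C) 3 h
      have hg3 : g ^ 3 = 1 := hg ▸ pow_orderOf_eq_one g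
      have : (g : G) = 1 := three _ (by rw [← Subgroup.coe_pow, hg3, Subgroup.coe_one]) (hcomm _ g.2)
      rw [show g = 1 from Subtype.ext this, orderOf_one] at hg
      norm_num at hg
    have h5 : Nat.card C ∣ 5 := by
      refine (Nat.Coprime.dvd_mul_right ?_).1 (show Nat.card C ∣ 5 * (2 ^ 4 * 3 ^ 2) by simpa using hd720)
      exact Nat.Coprime.mul_right (Nat.Coprime.pow_right _ (Nat.prime_two.coprime_iff_not_dvd.2 h2).symm)
        (Nat.Coprime.pow_right _ (Nat.prime_three.coprime_iff_not_dvd.2 h3).symm)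
    rw [hPc]
    exact Nat.le_of_dvd (by norm_num) h5
  set N := Subgroup.normalizer (P : Set G) with hN
  have hkc : Nat.card P.normalizerMonoidHom.ker = 5 := by
    rw [Subgroup.normalizerMonoidHom_ker]
    refine (Nat.card_congr (Subgroup.subgroupOfEquivOfLe (H := C) (K := N) ?_).toEquiv).trans ?_
    · rw [hCP]; exact Subgroup.le_normalizer
    · rw [hCP, hPc]
  haveI : IsCyclic P := Subgroup.isCyclic_zpowers x
  have haut : Nat.card (MulAut P) = 4 := by
    rw [IsCyclic.card_mulAut, hPc, Nat.totient_prime (by norm_num)]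
  have hNk : Nat.card N = 5 * Nat.card P.normalizerMonoidHom.range := by
    rw [← Subgroup.index_ker, ← hkc, Subgroup.card_mul_index]
  have hr : Nat.card P.normalizerMonoidHom.range ∣ 4 := haut ▸ Subgroup.card_subgroup_dvd_card _
  have hsyl5 := card_sylow_modEq_one 5 G
  rw [PS.card_eq_index_normalizer] at hsyl5
  have hmi : Nat.card N * N.index = 720 := hcard ▸ N.card_mul_index
  have hmi' : Subgroup.index (Subgroup.normalizer (PS : Set G)) = N.index := rfl
  rw [hmi'] at hsyl5
  have hr4 : Nat.card P.normalizerMonoidHom.range = 4 := by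
    obtain ⟨k, hk, hr'⟩ := (Nat.dvd_prime_pow Nat.prime_two).1
      (show Nat.card P.normalizerMonoidHom.range ∣ 2 ^ 2 from hr)
    rw [hNk, hr'] at hmi
    rw [hr']
    interval_cases k <;> norm_num at hmi ⊢ <;> unfold Nat.ModEq at hsyl5 <;> omega
  have htop : P.normalizerMonoidHom.range = ⊤ := Subgroup.eq_top_of_card_eq _ (hr4.trans haut.symm)
  have hc2 : (Nat.card P).Coprime 2 := by rw [hPc]; norm_num
  let α : MulAut P :=
    { powCoprime hc2 with
      map_mul' := fun a b => Subtype.ext (by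
        show ((a * b) ^ 2 : P).1 = ((a ^ 2 * b ^ 2 : P)).1
        rw [Commute.mul_pow (IsMulCommutative.is_comm.comm a b)]) }
  obtain ⟨g, hg⟩ : α ∈ P.normalizerMonoidHom.range := htop ▸ Subgroup.mem_top α
  have h' : (g : G) * x * (g : G)⁻¹ = x ^ 2 :=
    congrArg Subtype.val (DFunLike.congr_fun hg (⟨x, Subgroup.mem_zpowers x⟩ : P))
  exact hxne (hd.five x g hx5 h')

end Cfsg.Agent.Lib.SLThree78.Extra22
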