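import Cfsg.Agent.Lib.SLThree78.ExtraSpec22
import Cfsg.Agent.S0058
import Cfsg.Agent.S0215
import Cfsg.Agent.S3341

/-!
An elementary group of order nine containing the centralisers of its elements, with a quaternion group
acting transitively, in a group whose involution centraliser is two-dimensional linear, is normal.
-/

set_option autoImplicit false
set_option linter.style.haveILetI false
set_option linter.unusedSectionVars false

namespace Cfsg.Agent.Lib.SLThree78.Extra22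

open Subgroup
open scoped Pointwise

universe u

namespace CCData

variable {G : Type u} [Group G] [Finite G] {E : Subgroup G} {i j z : G}

theorem exists_ne_one (D : CCData E i j z) : ∃ e ∈ E, e ≠ 1 := by
  by_contra h
  push Not at h
  have : E = ⊥ := (eq_bot_iff_forall E).2 h
  have h9 := D.cardE
  rw [this, Subgroup.card_bot] at h9
  omega

theorem commE (D : CCData E i j z) : ∀ a ∈ E, ∀ b ∈ E, a * b = b * a := by
  haveI : Fact (Nat.Prime 3) := ⟨Nat.prime_three⟩
  haveI : IsMulCommutative E :=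
    IsPGroup.isMulCommutative_of_card_eq_prime_sq (p := 3) (D.cardE.trans (by norm_num))
  exact fun a ha b hb => congrArg Subtype.val (mul_comm' (⟨a, ha⟩ : E) ⟨b, hb⟩)

theorem le_normalizerE (D : CCData E i j z) : E ≤ normalizer (E : Set G) := le_normalizer

theorem card_normalizer (D : CCData E i j z) :
    Nat.card (normalizer (E : Set G)) = 72 := by
  classical
  obtain ⟨e, he, he1⟩ := D.exists_ne_one
  set N := normalizer (E : Set G) with hN
  letI : MulAction N G := MulAction.compHom G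
    ((MulAut.conj : G →* MulAut G).comp N.subtype)
  have hsmul : ∀ (n : N) (x : G), n • x = (n : G) * x * (n : G)⁻¹ := fun n x => rfl
  have hst : MulAction.stabilizer N e = E.subgroupOf N := by
    ext n
    rw [MulAction.mem_stabilizer_iff, hsmul, Subgroup.mem_subgroupOf, mul_inv_eq_iff_eq_mul]
    exact ⟨fun h => D.cc e he he1 _ h, fun h => D.commE _ h _ he⟩
  have horb : MulAction.orbit N e = (E : Set G) \ {1} := by
    ext x
    constructor
    · rintro ⟨n, rfl⟩
      show n • e ∈ (E : Set G) \ {1}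
      rw [hsmul]
      refine ⟨((mem_normalizer_iff.1 n.2) e).1 he, fun h => he1 ?_⟩
      exact conj_eq_one_iff.1 (Set.mem_singleton_iff.1 h)
    · rintro ⟨hx, hx1⟩
      obtain ⟨g, hg, hge⟩ := D.trans e he x hx he1 (fun h => hx1 (Set.mem_singleton_iff.2 h))
      exact ⟨⟨g, hg⟩, (hsmul _ _).trans hge⟩
  have h1 : (E.subgroupOf N).index = 8 := by
    rw [← hst, MulAction.index_stabilizer, horb,
      Set.ncard_sdiff_singleton_of_mem (one_mem E), ← Nat.card_coe_set_eq]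
    show Nat.card E - 1 = 8
    rw [D.cardE]
  have h2 := Subgroup.card_mul_index (E.subgroupOf N)
  rw [h1, Nat.card_congr (Subgroup.subgroupOfEquivOfLe D.le_normalizerE).toEquiv, D.cardE] at h2
  omega

theorem sylow_eq (D : CCData E i j z) (P : Subgroup G) (hP : IsPGroup 3 P) (hle : E ≤ P) : P = E := by
  haveI : Fact (Nat.Prime 3) := ⟨Nat.prime_three⟩
  obtain ⟨k, hk⟩ := IsPGroup.iff_card.1 hP
  refine (eq_of_le_of_card_ge hle ?_).symm
  rw [hk, D.cardE]
  by_contra hlt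
  have hk3 : 3 ≤ k := by
    by_contra hk'
    exact hlt (le_trans (Nat.pow_le_pow_right (by norm_num) (by omega : k ≤ 2)) (by norm_num))
  have h27 : 3 ^ (2 + 1) ∣ Nat.card G :=
    (pow_dvd_pow 3 hk3).trans (hk ▸ Subgroup.card_subgroup_dvd_card P)
  have := Sylow.prime_pow_dvd_card_normalizer (p := 3) h27 (D.cardE.trans (by norm_num))
  rw [D.card_normalizer] at this
  norm_num at this

theorem isPGroup (D : CCData E i j z) : IsPGroup 3 E :=
  IsPGroup.of_card (n := 2) (D.cardE.trans (by norm_num))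

/-- The Sylow 3-subgroup. -/
def syl (D : CCData E i j z) : Sylow 3 G where
  toSubgroup := E
  isPGroup' := D.isPGroup
  is_maximal' := fun {Q} hQ hle => D.sylow_eq Q hQ hle

theorem exists_conj_mem (D : CCData E i j z) {x : G} (hx : x ^ 3 = 1) : ∃ g : G, g * x * g⁻¹ ∈ E := by
  haveI : Fact (Nat.Prime 3) := ⟨Nat.prime_three⟩
  have hp : IsPGroup 3 (zpowers x) := by
    obtain ⟨m, -, hm⟩ := (Nat.dvd_prime_pow Nat.prime_three).1
      (show orderOf x ∣ 3 ^ 1 by rw [pow_one]; exact orderOf_dvd_of_pow_eq_one hx)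
    exact IsPGroup.of_card (n := m) (by rw [Nat.card_zpowers, hm])
  obtain ⟨Q, hQ⟩ := hp.exists_le_sylow
  obtain ⟨g, hg⟩ := MulAction.exists_smul_eq G D.syl Q
  refine ⟨g⁻¹, ?_⟩
  have hxQ : x ∈ ((g • D.syl : Sylow 3 G) : Subgroup G) := hg ▸ hQ (mem_zpowers x)
  rw [Sylow.coe_subgroup_smul, Subgroup.mem_pointwise_smul_iff_inv_smul_mem] at hxQ
  simpa [MulAut.smul_def, syl] using hxQ

theorem three_free (D : CCData E i j z) (x : G) (hx : x ^ 3 = 1) (hxz : x * z = z * x) : x = 1 := by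
  obtain ⟨g, hg⟩ := D.exists_conj_mem hx
  by_contra hx1
  have h1 : g * z * g⁻¹ ∈ E := by
    refine D.cc _ hg (fun h => hx1 (conj_eq_one_iff.1 h)) _ ?_
    calc g * z * g⁻¹ * (g * x * g⁻¹) = g * (z * x) * g⁻¹ := by group
      _ = g * (x * z) * g⁻¹ := by rw [hxz]
      _ = g * x * g⁻¹ * (g * z * g⁻¹) := by group
  have h3 := D.cube _ h1
  rw [conj_pow, conj_eq_one_iff, pow_three, D.z_sq, mul_one] at h3
  exact D.z_ne h3

theorem not_cyclic (D : CCData E i j z) : ¬ IsCyclic E := by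
  intro hc
  obtain ⟨g, hg⟩ := hc.exists_ofOrder_eq_natCard
  have h3 : g ^ 3 = 1 := Subtype.ext (by simpa using D.cube g g.2)
  have := orderOf_dvd_of_pow_eq_one h3
  rw [hg, D.cardE] at this
  norm_num at this

theorem coprime_eq_bot (D : CCData E i j z) {U : Subgroup G} (hEU : E ≤ normalizer (U : Set G))
    (hU : ¬ 3 ∣ Nat.card U) : U = ⊥ := by
  haveI : IsMulCommutative E := ⟨⟨fun a b => Subtype.ext (D.commE _ a.2 _ b.2)⟩⟩
  have hcop : (Nat.card E).Coprime (Nat.card U) := by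
    rw [D.cardE, show (9 : ℕ) = 3 ^ 2 by norm_num]
    exact Nat.Coprime.pow_left 2 ((Nat.Prime.coprime_iff_not_dvd Nat.prime_three).2 hU)
  have h := Cfsg.Agent.S0058.result E U D.not_cyclic hEU hcop
  rw [← h]
  refine eq_bot_iff.2 (iSup₂_le fun a ha => ?_)
  intro x hx
  obtain ⟨hxU, hxa⟩ := Subgroup.mem_inf.1 hx
  have hxE : x ∈ E := D.cc a ha.1 ha.2 x (mem_centralizer_singleton_iff.1 hxa)
  have h1 := Subgroup.orderOf_dvd_natCard _ hxE
  have h2 := Subgroup.orderOf_dvd_natCard _ hxU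
  exact Subgroup.mem_bot.2 (orderOf_eq_one_iff.1 (Nat.eq_one_of_dvd_coprimes hcop h1 h2))

theorem exists_order_three (D : CCData E i j z) {U : Subgroup G} (hne : U ≠ ⊥)
    (hEU : E ≤ normalizer (U : Set G)) : ∃ x ∈ U, x ≠ 1 ∧ x ^ 3 = 1 := by
  haveI : Fact (Nat.Prime 3) := ⟨Nat.prime_three⟩
  have h3 : 3 ∣ Nat.card U := by
    by_contra h
    exact hne (D.coprime_eq_bot hEU h)
  obtain ⟨x, hx⟩ := exists_prime_orderOf_dvd_card' 3 h3
  refine ⟨x, x.2, fun h => ?_, ?_⟩
  · rw [show x = 1 from Subtype.ext h, orderOf_one] at hx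
    omega
  · rw [← hx, ← orderOf_submonoid, pow_orderOf_eq_one]

theorem le_of_normal (D : CCData E i j z) {U : Subgroup G} [hU : U.Normal] (hne : U ≠ ⊥) : E ≤ U := by
  obtain ⟨x, hx, hx1, hx3⟩ := D.exists_order_three hne (by rw [normalizer_eq_top U]; exact le_top)
  obtain ⟨g, hg⟩ := D.exists_conj_mem hx3
  have hgU : g * x * g⁻¹ ∈ U := hU.conj_mem x hx g
  intro e he
  by_cases he1 : e = 1
  · exact he1 ▸ one_mem U
  obtain ⟨n, -, hn⟩ := D.trans _ hg e he (fun h => hx1 (conj_eq_one_iff.1 h)) he1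
  exact hn ▸ hU.conj_mem _ hgU n

theorem exists_least (D : CCData E i j z) :
    ∃ T : Subgroup G, T.Normal ∧ T ≠ ⊥ ∧ ∀ U : Subgroup G, U.Normal → U ≠ ⊥ → T ≤ U := by
  obtain ⟨e, he, he1⟩ := D.exists_ne_one
  let 𝒩 : Set (Subgroup G) := {U | U.Normal ∧ U ≠ ⊥}
  have hne : 𝒩.Nonempty := by
    refine ⟨⊤, inferInstance, fun h => he1 ?_⟩
    exact Subgroup.mem_bot.1 (h ▸ Subgroup.mem_top e)
  obtain ⟨T, hT⟩ := (Set.toFinite 𝒩).exists_minimal hne
  refine ⟨T, hT.1.1, hT.1.2, fun U hU hU1 => ?_⟩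
  haveI := hU
  haveI := hT.1.1
  have hmem : T ⊓ U ∈ 𝒩 := ⟨inferInstance, fun h => he1 (Subgroup.mem_bot.1
    (h ▸ Subgroup.mem_inf.2 ⟨D.le_of_normal hT.1.2 he, D.le_of_normal hU1 he⟩))⟩
  exact (hT.2 hmem inf_le_left).trans inf_le_right

variable {T : Subgroup G}

theorem exists_factor (D : CCData E i j z) [hT : T.Normal] (hE : E ≤ T) (g : G) :
    ∃ n ∈ normalizer (E : Set G), ∃ t ∈ T, g = n * t := by
  haveI : Fact (Nat.Prime 3) := ⟨Nat.prime_three⟩
  have h : normalizer (E : Set G) ⊔ T = ⊤ := Sylow.normalizer_sup_eq_top' D.syl hE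
  have hg : g ∈ (normalizer (E : Set G) : Set G) * (T : Set G) := by
    rw [← Subgroup.mul_normal, h]
    trivial
  obtain ⟨n, hn, t, ht, rfl⟩ := Set.mem_mul.1 hg
  exact ⟨n, hn, t, ht, rfl⟩

theorem mem_normalizer_of_conj (D : CCData E i j z) {e t : G} (he : e ∈ E) (he1 : e ≠ 1)
    (h : t * e * t⁻¹ ∈ E) : t ∈ normalizer (E : Set G) := by
  refine mem_normalizer_iff.2 fun x => ⟨fun hx => ?_, fun hx => ?_⟩
  · refine D.cc _ h (fun h' => he1 (conj_eq_one_iff.1 h')) _ ?_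
    calc t * x * t⁻¹ * (t * e * t⁻¹) = t * (x * e) * t⁻¹ := by group
      _ = t * (e * x) * t⁻¹ := by rw [D.commE x hx e he]
      _ = t * e * t⁻¹ * (t * x * t⁻¹) := by group
  · refine D.cc e he he1 x ?_
    have := D.commE _ hx _ h
    calc x * e = t⁻¹ * (t * x * t⁻¹ * (t * e * t⁻¹)) * t := by group
      _ = t⁻¹ * (t * e * t⁻¹ * (t * x * t⁻¹)) * t := by rw [this]
      _ = e * x := by group

theorem exists_meet (D : CCData E i j z) [hT : T.Normal] (hE : E ≤ T) {U : Subgroup G}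
    (hUT : U ≤ T) (hTU : T ≤ normalizer (U : Set G)) (hne : U ≠ ⊥) : ∃ e ∈ U, e ∈ E ∧ e ≠ 1 := by
  obtain ⟨x, hx, hx1, hx3⟩ := D.exists_order_three hne (hE.trans hTU)
  obtain ⟨g, hg⟩ := D.exists_conj_mem hx3
  obtain ⟨n, hn, t, ht, rfl⟩ := D.exists_factor hE g
  refine ⟨t * x * t⁻¹, ((mem_normalizer_iff.1 (hTU ht)) x).1 hx, ?_,
    fun h => hx1 (conj_eq_one_iff.1 h)⟩
  refine ((mem_normalizer_iff.1 hn) _).2 ?_
  simpa only [_root_.mul_inv_rev, mul_assoc] using hg

theorem isSimpleGroup (D : CCData E i j z) [hT : T.Normal] (hne : T ≠ ⊥) (hE : E ≤ T)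
    (hleast : ∀ U : Subgroup G, U.Normal → U ≠ ⊥ → T ≤ U)
    (hTE : ¬ T ≤ normalizer (E : Set G)) : IsSimpleGroup T := by
  let 𝒮 : Set (Subgroup G) := {U | U ≤ T ∧ T ≤ normalizer (U : Set G) ∧ U ≠ ⊥}
  have hmeet : ∀ U ∈ 𝒮, ∀ V ∈ 𝒮, U ⊓ V ≠ ⊥ := by
    intro U hU V hV hbot
    obtain ⟨e, heU, heE, he1⟩ := D.exists_meet hE hU.1 hU.2.1 hU.2.2
    obtain ⟨f, hfV, hfE, hf1⟩ := D.exists_meet hE hV.1 hV.2.1 hV.2.2
    have hVE : V ≤ E := by
      intro v hv
      refine D.cc e heE he1 v ?_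
      have h1 : v * e * v⁻¹ * e⁻¹ ∈ U :=
        mul_mem (((mem_normalizer_iff.1 (hU.2.1 (hV.1 hv))) e).1 heU) (inv_mem heU)
      have h2 : v * e * v⁻¹ * e⁻¹ ∈ V := by
        rw [show v * e * v⁻¹ * e⁻¹ = v * (e * v⁻¹ * e⁻¹) by group]
        exact mul_mem hv (((mem_normalizer_iff.1 (hV.2.1 (hU.1 heU))) _).1 (inv_mem hv))
      have h3 : v * e * v⁻¹ * e⁻¹ = 1 := Subgroup.mem_bot.1 (hbot ▸ Subgroup.mem_inf.2 ⟨h1, h2⟩)
      rwa [mul_inv_eq_one, mul_inv_eq_iff_eq_mul] at h3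
    exact hTE fun t ht =>
      D.mem_normalizer_of_conj hfE hf1 (hVE (((mem_normalizer_iff.1 (hV.2.1 ht)) f).1 hfV))
  have hkey : ∀ U ∈ 𝒮, U = T := by
    intro U hU
    obtain ⟨W, hWU, hW⟩ := (Set.toFinite 𝒮).exists_le_minimal hU
    suffices W = T from le_antisymm hU.1 (this ▸ hWU)
    have hnorm : W.Normal := by
      refine ⟨fun x hx g => ?_⟩
      let W' := W.comap (MulAut.conj g).toMonoidHom
      have hW' : W' ∈ 𝒮 := by
        refine ⟨fun y hy => ?_, fun t ht => mem_normalizer_iff.2 fun y => ?_, fun h => ?_⟩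
        · have : g * y * g⁻¹ ∈ T := hW.1.1 hy
          simpa [mul_assoc] using hT.conj_mem _ this g⁻¹
        · show g * y * g⁻¹ ∈ W ↔ g * (t * y * t⁻¹) * g⁻¹ ∈ W
          rw [(mem_normalizer_iff.1 (hW.1.2.1 (hT.conj_mem t ht g))) (g * y * g⁻¹),
            show g * (t * y * t⁻¹) * g⁻¹ = g * t * g⁻¹ * (g * y * g⁻¹) * (g * t * g⁻¹)⁻¹ by group]
        · obtain ⟨w, hw, hw1⟩ := (Subgroup.bot_or_exists_ne_one W).resolve_left hW.1.2.2
          have hmem : g⁻¹ * w * g ∈ W' := by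
            show g * (g⁻¹ * w * g) * g⁻¹ ∈ W
            simpa [mul_assoc] using hw
          have h1 : g⁻¹ * w * g = 1 := Subgroup.mem_bot.1 (h ▸ hmem)
          exact hw1 (by
            calc w = g * (g⁻¹ * w * g) * g⁻¹ := by group
              _ = 1 := by rw [h1]; group)
      have hmem : W ⊓ W' ∈ 𝒮 := ⟨inf_le_left.trans hW.1.1,
        fun t ht => mem_normalizer_iff.2 fun y => by
          rw [Subgroup.mem_inf, Subgroup.mem_inf, (mem_normalizer_iff.1 (hW.1.2.1 ht)) y,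
            (mem_normalizer_iff.1 (hW'.2.1 ht)) y],
        hmeet W hW.1 W' hW'⟩
      exact (Subgroup.mem_inf.1 (hW.2 hmem inf_le_left hx)).2
    exact le_antisymm hW.1.1 (hleast W hnorm hW.1.2.2)
  haveI : Nontrivial T := (Subgroup.nontrivial_iff_ne_bot T).2 hne
  refine ⟨fun H hH => ?_⟩
  by_cases hb : H = ⊥
  · exact Or.inl hb
  refine Or.inr ?_
  have hm : H.map T.subtype ∈ 𝒮 := by
    refine ⟨Subgroup.map_subtype_le H, fun t ht => mem_normalizer_iff.2 fun y => ⟨?_, ?_⟩,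
      fun h => hb ((Subgroup.map_eq_bot_iff_of_injective H T.subtype_injective).1 h)⟩
    · rintro ⟨h, hh, rfl⟩
      exact ⟨_, hH.conj_mem h hh ⟨t, ht⟩, rfl⟩
    · rintro ⟨h, hh, he⟩
      refine ⟨_, hH.conj_mem h hh ⟨t⁻¹, inv_mem ht⟩, ?_⟩
      simp only [Subgroup.subtype_apply, Subgroup.coe_mul, InvMemClass.coe_inv] at he ⊢
      rw [he]
      group
  have h := hkey _ hm
  exact Subgroup.map_injective T.subtype_injective
    (h.trans ((MonoidHom.range_eq_map _).symm.trans T.range_subtype).symm)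

theorem inter_normalizer_ne (D : CCData E i j z) [hT : T.Normal] (hE : E ≤ T) [IsSimpleGroup T]
    (hTE : ¬ T ≤ normalizer (E : Set G)) : ¬ T ⊓ normalizer (E : Set G) ≤ E := by
  intro hle
  haveI : Fact (Nat.Prime 3) := ⟨Nat.prime_three⟩
  let P : Sylow 3 T := D.syl.subtype hE
  have hPc : (P : Subgroup T) = E.subgroupOf T := rfl
  have hP : normalizer ((P : Subgroup T) : Set T) ≤ centralizer ((P : Subgroup T) : Set T) := by
    intro n hn
    have hn' : (n : G) ∈ normalizer (E : Set G) := mem_normalizer_iff.2 fun y => by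
      constructor
      · intro hy
        have := ((mem_normalizer_iff.1 hn) ⟨y, hE hy⟩).1 (by simpa [hPc, Subgroup.mem_subgroupOf] using hy)
        simpa [hPc, Subgroup.mem_subgroupOf] using this
      · intro hy
        have hyT : y ∈ T := by
          have := hT.conj_mem _ (hE hy) (n : G)⁻¹
          simpa [mul_assoc] using this
        have := ((mem_normalizer_iff.1 hn) ⟨y, hyT⟩).2 (by simpa [hPc, Subgroup.mem_subgroupOf] using hy)
        simpa [hPc, Subgroup.mem_subgroupOf] using this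
    have hnE : (n : G) ∈ E := hle (Subgroup.mem_inf.2 ⟨n.2, hn'⟩)
    exact mem_centralizer_iff.2 fun y hy => Subtype.ext (D.commE _ hy _ hnE)
  have hc := MonoidHom.ker_transferSylow_isComplement' P hP
  rcases (MonoidHom.normal_ker (MonoidHom.transferSylow P hP)).eq_bot_or_eq_top with h | h
  · rw [h, Subgroup.isComplement'_bot_left] at hc
    refine hTE fun t ht => D.le_normalizerE ?_
    have : (⟨t, ht⟩ : T) ∈ (P : Subgroup T) := hc ▸ Subgroup.mem_top _
    simpa [hPc, Subgroup.mem_subgroupOf] using this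
  · rw [h, Subgroup.isComplement'_top_left] at hc
    obtain ⟨e, he, he1⟩ := D.exists_ne_one
    have : (⟨e, hE he⟩ : T) ∈ (P : Subgroup T) := by simpa [hPc, Subgroup.mem_subgroupOf] using he
    rw [hc, Subgroup.mem_bot] at this
    exact he1 (congrArg Subtype.val this)

theorem eq_or_eq_of_odd (D : CCData E i j z) [hT : T.Normal] (hE : E ≤ T) (hodd : Odd (Nat.card T)) :
    T ⊓ normalizer (E : Set G) ≤ E := by
  have hle : E ≤ T ⊓ normalizer (E : Set G) := le_inf hE D.le_normalizerE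
  refine (eq_of_le_of_card_ge hle ?_).ge
  have h1 : Nat.card (T ⊓ normalizer (E : Set G) : Subgroup G) ∣ 72 :=
    D.card_normalizer ▸ Subgroup.card_dvd_of_le inf_le_right
  have h2 : Odd (Nat.card (T ⊓ normalizer (E : Set G) : Subgroup G)) :=
    Odd.of_dvd_nat hodd (Subgroup.card_dvd_of_le inf_le_left)
  rw [D.cardE]
  exact Nat.le_of_dvd (by norm_num) ((Nat.Coprime.dvd_mul_left
    (Nat.Coprime.pow_right 3 (Nat.coprime_two_right.2 h2))).1 (by simpa using h1))

theorem unique_involution_case (D : CCData E i j z) (S : Sylow 2 G) (hzS : z ∈ (S : Subgroup G))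
    (huniq : ∀ u ∈ (S : Subgroup G), u * u = 1 → u = 1 ∨ u = z)
    [hT : T.Normal] (hE : E ≤ T) [IsSimpleGroup T]
    (hleast : ∀ U : Subgroup G, U.Normal → U ≠ ⊥ → T ≤ U)
    (hTE : ¬ T ≤ normalizer (E : Set G)) : False := by
  have hz2 : orderOf z = 2 := orderOf_eq_prime (by rw [pow_two, D.z_sq]) D.z_ne
  obtain ⟨N, hN, hodd, hcomm⟩ := Cfsg.Agent.S0215.result S z hz2 hzS fun g hg =>
    (huniq _ hg (by rw [← pow_two, conj_pow, pow_two, D.z_sq]; group)).resolve_left
      fun h => D.z_ne (conj_eq_one_iff.1 h)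
  have hne : N ≠ ⊥ := by
    intro hb
    obtain ⟨e, he, he1⟩ := D.exists_ne_one
    have h := Subgroup.mem_bot.1 (hb ▸ hcomm e)
    rw [mul_inv_eq_one, mul_inv_eq_iff_eq_mul] at h
    have h3 := D.cube z (D.cc e he he1 z h)
    rw [pow_three, D.z_sq, mul_one] at h3
    exact D.z_ne h3
  exact D.inter_normalizer_ne hE hTE
    (D.eq_or_eq_of_odd hE (Odd.of_dvd_nat hodd (Subgroup.card_dvd_of_le (hleast N hN hne))))

theorem not_all_conj (D : CCData E i j z) (hE : E ≤ T) (hj : j ∉ T) :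
    ∃ e ∈ E, ∃ f ∈ E, e ≠ 1 ∧ f ≠ 1 ∧ ∀ t ∈ T, t * e * t⁻¹ ≠ f := by
  obtain ⟨e, he, he1⟩ := D.exists_ne_one
  have hje : j * e * j⁻¹ ∈ E := ((mem_normalizer_iff.1 D.jN) e).1 he
  refine ⟨e, he, j * e * j⁻¹, hje, he1, fun h => he1 (conj_eq_one_iff.1 h), fun t ht h => hj ?_⟩
  have hmem : t⁻¹ * j ∈ E := D.cc e he he1 _ (by
    calc t⁻¹ * j * e = t⁻¹ * (j * e * j⁻¹) * j := by group
      _ = t⁻¹ * (t * e * t⁻¹) * j := by rw [h]
      _ = e * (t⁻¹ * j) := by group)
  simpa using mul_mem ht (hE hmem)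

theorem isAltSix (D : CCData E i j z) [hT : T.Normal] (hE : E ≤ T) [IsSimpleGroup T] (hj : j ∉ T) :
    Nonempty (T ≃* alternatingGroup (Fin 6)) := by
  let P : Sylow 3 T := D.syl.subtype hE
  have hPc : ∀ x : T, x ∈ (P : Subgroup T) ↔ (x : G) ∈ E := fun x => Iff.rfl
  obtain ⟨e, he, f, hf, he1, hf1, hne⟩ := D.not_all_conj hE hj
  have hord : ∀ x : G, ∀ hx : x ∈ E, x ≠ 1 → orderOf (⟨x, hE hx⟩ : T) = 3 := fun x hx hx1 =>
    orderOf_eq_prime (Subtype.ext (D.cube x hx)) fun h => hx1 (congrArg Subtype.val h)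
  refine Cfsg.Agent.S3341.result P P rfl ⟨⟨fun a b => Subtype.ext (Subtype.ext (D.commE _ a.2 _ b.2))⟩⟩
    (fun a ha => Subtype.ext (D.cube _ ((hPc a).1 ha))) ?_
    ⟨⟨e, hE he⟩, ⟨f, hE hf⟩, hord e he he1, hord f hf hf1,
      fun g h => hne g g.2 (congrArg Subtype.val h)⟩ ?_
  · exact (Nat.card_congr (Subgroup.subgroupOfEquivOfLe hE).toEquiv).trans D.cardE
  · intro s hs hs1
    ext y
    rw [mem_centralizer_singleton_iff]
    exact ⟨fun h => (hPc y).2 (D.cc s ((hPc s).1 hs) (fun h' => hs1 (Subtype.ext h')) y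
        (congrArg Subtype.val h)),
      fun h => Subtype.ext (D.commE _ ((hPc y).1 h) _ ((hPc s).1 hs))⟩

theorem index_eq_two (D : CCData E i j z) [hT : T.Normal] (hE : E ≤ T) [IsSimpleGroup T]
    (hTE : ¬ T ≤ normalizer (E : Set G)) (hj : j ∉ T) (e : T ≃* alternatingGroup (Fin 6)) :
    T.index = 2 := by
  haveI : Fact (Nat.Prime 3) := ⟨Nat.prime_three⟩
  set N := normalizer (E : Set G) with hN
  have hT360 : Nat.card T = 360 := by
    rw [Nat.card_congr e.toEquiv, nat_card_alternatingGroup, Nat.card_fin]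
    rfl
  have hidx : T.index = T.relIndex N := by
    rw [← Subgroup.relIndex_sup_right (K := T) N,
      show N ⊔ T = ⊤ from Sylow.normalizer_sup_eq_top' D.syl hE, Subgroup.relIndex_top_right]
  have hprod : T.relIndex N * Nat.card (T ⊓ N : Subgroup G) = 72 := by
    rw [← D.card_normalizer, ← Subgroup.inf_relIndex_right, mul_comm,
      Subgroup.relIndex, ← Nat.card_congr (Subgroup.subgroupOfEquivOfLe (inf_le_right : T ⊓ N ≤ N)).toEquiv,
      Subgroup.card_mul_index]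
  let P : Sylow 3 T := D.syl.subtype hE
  have hnP : normalizer (P : Set T) = (T ⊓ N).subgroupOf T := by
    rw [Subgroup.inf_subgroupOf_left]
    exact (Subgroup.subgroupOf_normalizer_eq hE).symm
  have h3 : Nat.card (Sylow 3 T) * Nat.card (T ⊓ N : Subgroup G) = 360 := by
    rw [P.card_eq_index_normalizer, hnP, mul_comm,
      ← Nat.card_congr (Subgroup.subgroupOfEquivOfLe (inf_le_left : T ⊓ N ≤ T)).toEquiv,
      Subgroup.card_mul_index, hT360]
  have hmod := card_sylow_modEq_one 3 T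
  have hne9 : Nat.card (T ⊓ N : Subgroup G) ≠ 9 := fun h =>
    D.inter_normalizer_ne hE hTE (eq_of_le_of_card_ge (le_inf hE D.le_normalizerE)
      (by rw [h, D.cardE])).ge
  have hne72 : Nat.card (T ⊓ N : Subgroup G) ≠ 72 := fun h => hj (inf_le_left (b := N)
    ((eq_of_le_of_card_ge (inf_le_right : T ⊓ N ≤ N) (by rw [h, D.card_normalizer])).ge D.jN))
  obtain ⟨a, ha⟩ : 9 ∣ Nat.card (T ⊓ N : Subgroup G) :=
    D.cardE ▸ Subgroup.card_dvd_of_le (le_inf hE D.le_normalizerE)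
  rw [hidx]
  rw [ha] at hprod h3 hne9 hne72
  generalize T.relIndex N = r at hprod ⊢
  generalize Nat.card (Sylow 3 T) = n at h3 hmod
  have ha8 : r * a = 8 := by linarith [hprod]
  have hn : n * a = 40 := by linarith [h3]
  have har : a ≤ 8 := Nat.le_of_dvd (by norm_num) ⟨r, by rw [← ha8, mul_comm]⟩
  unfold Nat.ModEq at hmod
  interval_cases a <;> omega

theorem exists_involution (D : CCData E i j z) (S : Sylow 2 G) [hT : T.Normal]
    (e : T ≃* alternatingGroup (Fin 6)) :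
    ∃ u ∈ (S : Subgroup G), u ∈ T ∧ u * u = 1 ∧ u ≠ 1 ∧ u ≠ z := by
  haveI : Fact (Nat.Prime 2) := ⟨Nat.prime_two⟩
  have h6 : ∃ a b : alternatingGroup (Fin 6),
      a * a = 1 ∧ b * b = 1 ∧ a * b = b * a ∧ a ≠ 1 ∧ b ≠ 1 ∧ a ≠ b := by
    refine ⟨⟨Equiv.swap 0 1 * Equiv.swap 2 3, Equiv.Perm.mem_alternatingGroup.2 (by decide +kernel)⟩,
      ⟨Equiv.swap 0 2 * Equiv.swap 1 3, Equiv.Perm.mem_alternatingGroup.2 (by decide +kernel)⟩,
      ?_, ?_, ?_, ?_, ?_, ?_⟩ <;> decide +kernel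
  obtain ⟨a, b, ha, hb, hab, ha1, hb1, hne⟩ := h6
  let f : alternatingGroup (Fin 6) →* G := T.subtype.comp e.symm.toMonoidHom
  have hf : Function.Injective f := T.subtype_injective.comp e.symm.injective
  have hpow : ∀ x : alternatingGroup (Fin 6), x * x = 1 → x ≠ 1 → IsPGroup 2 (zpowers (f x)) :=
    fun x hx hx1 => IsPGroup.of_card (n := 1) (by
      rw [Nat.card_zpowers, pow_one]
      refine orderOf_eq_prime ?_ fun h => hx1 (hf (h.trans (map_one f).symm))
      rw [pow_two, ← map_mul, hx, map_one])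
  have hp : IsPGroup 2 (zpowers (f a) ⊔ zpowers (f b) : Subgroup G) := by
    refine (hpow a ha ha1).to_sup_of_normal_right' (hpow b hb hb1) (zpowers_le.2 ?_)
    refine Subgroup.centralizer_le_normalizer _ (mem_centralizer_iff.2 ?_)
    rintro y ⟨k, rfl⟩
    exact ((show Commute (f a) (f b) by
      rw [commute_iff_eq, ← map_mul, hab, map_mul]).symm.zpow_left k).eq
  obtain ⟨Q, hQ⟩ := hp.exists_le_sylow
  obtain ⟨g, hg⟩ := MulAction.exists_smul_eq G S Q
  have hin : ∀ x : alternatingGroup (Fin 6), f x ∈ (zpowers (f a) ⊔ zpowers (f b) : Subgroup G) →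
      g⁻¹ * f x * g ∈ (S : Subgroup G) ∧ g⁻¹ * f x * g ∈ T := by
    intro x hx
    have hxQ : f x ∈ ((g • S : Sylow 2 G) : Subgroup G) := hg ▸ hQ hx
    rw [Sylow.coe_subgroup_smul, Subgroup.mem_pointwise_smul_iff_inv_smul_mem] at hxQ
    exact ⟨by simpa [MulAut.smul_def] using hxQ,
      by simpa using hT.conj_mem (f x) (e.symm x).2 g⁻¹⟩
  have hA := hin a (mem_sup_left (mem_zpowers _))
  have hB := hin b (mem_sup_right (mem_zpowers _))
  have hsq : ∀ x : alternatingGroup (Fin 6), x * x = 1 →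
      g⁻¹ * f x * g * (g⁻¹ * f x * g) = 1 := fun x hx => by
    calc g⁻¹ * f x * g * (g⁻¹ * f x * g) = g⁻¹ * (f x * f x) * g := by group
      _ = 1 := by rw [← map_mul, hx, map_one]; group
  have hne1 : ∀ x : alternatingGroup (Fin 6), x ≠ 1 → g⁻¹ * f x * g ≠ 1 := fun x hx h =>
    hx (hf (by
      rw [map_one]
      calc f x = g * (g⁻¹ * f x * g) * g⁻¹ := by group
        _ = 1 := by rw [h]; group))
  by_cases hz : g⁻¹ * f a * g = z
  · refine ⟨_, hB.1, hB.2, hsq b hb, hne1 b hb1, fun h => hne (hf ?_)⟩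
    exact mul_left_cancel (mul_right_cancel (hz.trans h.symm))
  · exact ⟨_, hA.1, hA.2, hsq a ha, hne1 a ha1, hz⟩

end CCData

/-- The abstract part. -/
theorem cc_of_bricks (hTwo : TwoExistsStmt.{u}) (hNot : NotConjStmt.{u}) (hTr : TransferStmt.{u})
    (hInv : InvolStmt.{u}) (hAlt : AltKillStmt.{u}) : CCStmt.{u} := by
  intro G _ _ E i₀ j₀ z D₀ g e he
  obtain ⟨i, j, S, Y, W⟩ := hTwo G E i₀ j₀ z D₀
  have D := W.data
  obtain ⟨T, hT, hne, hleast⟩ := D.exists_least
  haveI := hT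
  have hE : E ≤ T := D.le_of_normal hne
  by_cases hTE : T ≤ normalizer (E : Set G)
  · obtain ⟨n, hn, t, ht, rfl⟩ := D.exists_factor hE g
    have := ((mem_normalizer_iff.1 hn) _).1 (((mem_normalizer_iff.1 (hTE ht)) e).1 he)
    simpa only [_root_.mul_inv_rev, mul_assoc] using this
  exfalso
  haveI := D.isSimpleGroup hne hE hleast hTE
  by_cases ht : ∃ t ∈ (S : Subgroup G), t ∉ Y ∧ t * t = 1
  · obtain ⟨t, htS, htY, ht2⟩ := ht
    obtain ⟨K, hK, hK2, hjK⟩ := hTr G E i j z S Y W (hNot G E i j z S Y W D.three_free) t htS htY ht2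
    have hKne : K ≠ ⊥ := by
      intro h
      rw [h, Subgroup.index_bot] at hK2
      have := Subgroup.card_subgroup_dvd_card E
      rw [D.cardE, hK2] at this
      norm_num at this
    have hj : j ∉ T := fun h => hjK (hleast K hK hKne h)
    obtain ⟨φ⟩ := D.isAltSix hE hj
    have h2 := D.index_eq_two hE hTE hj φ
    exact hAlt G E i j z D D.sylow_eq T hT h2 ⟨φ⟩ (hInv G E i j z S Y W T hT h2 (D.exists_involution S φ))
  · push Not at ht
    exact D.unique_involution_case S (W.le (D.i_sq ▸ mul_mem W.iY W.iY))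
      (fun u hu hu2 => W.invol u (by_contra fun hY => ht u hu hY hu2) hu2) hE hleast hTE

end Cfsg.Agent.Lib.SLThree78.Extra22
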