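import Cfsg.Agent.Lib.ExtraNine17.Defs
import Mathlib

/-!
An element of order five of `SL₃` is not conjugate to its square (helper9).
-/

set_option autoImplicit false

namespace Cfsg.Agent.Lib.SLThree78.Extra22

open Cfsg.Agent.Lib.ExtraNine17

namespace FiveAux

variable {F : Type*} [Field F]

theorem cayley_three (A : Matrix (Fin 3) (Fin 3) F) :
    (2 : F) • A ^ 3 - (2 * A.trace) • A ^ 2 + (A.trace ^ 2 - (A ^ 2).trace) • A
      - (2 * A.det) • (1 : Matrix (Fin 3) (Fin 3) F) = 0 := by
  rw [Matrix.det_fin_three, Matrix.trace_fin_three, Matrix.trace_fin_three]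
  ext i j
  fin_cases i <;> fin_cases j <;>
    (simp [pow_succ, Matrix.mul_apply, Fin.sum_univ_three]; ring)

end FiveAux

open FiveAux in
theorem five_trivial {F : Type*} [Field F] (h2 : (2 : F) ≠ 0) (h3 : (3 : F) ≠ 0) (h5 : (5 : F) ≠ 0)
    (x g : GL I₃ F) (hdet : (x : Matrix I₃ I₃ F).det = 1) (hx : x ^ 5 = 1) (hg : g * x * g⁻¹ = x ^ 2) :
    x = 1 := by
  have conj : ∀ n : ℕ, ((x ^ (2 * n) : GL I₃ F) : Matrix I₃ I₃ F).trace =
      ((x ^ n : GL I₃ F) : Matrix I₃ I₃ F).trace := fun n => by
    rw [pow_mul, ← hg, conj_pow, Units.val_mul, Units.val_mul, Matrix.trace_mul_cycle, ← Units.val_mul g⁻¹ g,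
      inv_mul_cancel, Units.val_one, one_mul]
  simp only [Units.val_pow_eq_pow_val] at conj
  set A : Matrix (Fin 3) (Fin 3) F := (x : Matrix I₃ I₃ F) with hA
  have conj' : ∀ n : ℕ, (A ^ (2 * n)).trace = (A ^ n).trace := conj
  have hA5 : A ^ 5 = 1 := (Units.val_pow_eq_pow_val x 5).symm.trans (congrArg Units.val hx)
  have hd : A.det = 1 := hdet
  have e2 : (A ^ 2).trace = A.trace := (conj' 1).trans (by rw [pow_one])
  have e4 : (A ^ 4).trace = A.trace := (conj' 2).trans e2
  have ch := cayley_three A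
  rw [hd, e2, mul_one] at ch
  have ch4 := congrArg (fun M => A ^ 4 * M) ch
  simp only [mul_zero, mul_sub, mul_add, Matrix.mul_smul, ← pow_add, ← pow_succ, mul_one] at ch4
  rw [show (4 : ℕ) + 3 = 5 + 2 from rfl, show (4 : ℕ) + 2 = 5 + 1 from rfl, show (4 : ℕ) + 1 = 5 from rfl,
    pow_add, pow_add, hA5, one_mul, one_mul, pow_one] at ch4
  have ht := congrArg Matrix.trace ch4
  simp only [Matrix.trace_add, Matrix.trace_sub, Matrix.trace_smul, Matrix.trace_one, Matrix.trace_zero,
    smul_eq_mul, e2, e4, Fintype.card_fin, Nat.cast_ofNat] at ht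
  have hA1 : A = 1 := by
    rcases mul_eq_zero.1 (show A.trace * (A.trace - 3) = 0 by linear_combination ht) with h | h
    · rw [h] at ch
      have h6 : A ^ 3 = 1 := by
        refine sub_eq_zero.1 ((smul_eq_zero.1 (?_ : (2 : F) • (A ^ 3 - 1) = 0)).resolve_left h2)
        rw [smul_sub]
        simpa using ch
      have : A ^ 5 * A = (A ^ 3) ^ 2 := by rw [← pow_succ, ← pow_mul]
      rw [hA5, h6, one_pow, one_mul] at this
      exact this
    · rw [sub_eq_zero.1 h] at ch
      set N := A - 1 with hN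
      have hA' : A = 1 + N := by rw [hN]; abel
      have h6 : (2 : F) • N ^ 3 = 0 := by
        rw [← ch, hN]
        simp only [pow_succ, pow_zero, one_mul, sub_mul, mul_sub, mul_one]
        module
      have h7 : N ^ 3 = 0 := (smul_eq_zero.1 h6).resolve_left h2
      have h8 : (5 : F) • N + (10 : F) • N ^ 2 = 0 := by
        have h9 : A ^ 5 = 1 + (5 : F) • N + (10 : F) • N ^ 2 + (10 : F) • N ^ 3 + (5 : F) • (N ^ 3 * N) +
            N ^ 3 * N ^ 2 := by
          rw [hA']
          simp only [pow_succ, pow_zero, one_mul, add_mul, mul_add, mul_one, mul_assoc]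
          module
        rw [hA5, h7, smul_zero, zero_mul, zero_mul, smul_zero, add_zero, add_zero, add_zero, add_assoc] at h9
        exact add_eq_left.1 h9.symm
      have h10 : N ^ 2 = 0 := by
        have := congrArg (fun M => M * N) h8
        simp only [add_mul, Matrix.smul_mul, zero_mul, ← pow_succ, h7, smul_zero, add_zero, ← pow_two] at this
        exact (smul_eq_zero.1 this).resolve_left h5
      rw [h10, smul_zero, add_zero] at h8
      exact sub_eq_zero.1 ((smul_eq_zero.1 h8).resolve_left h5)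
  exact Units.ext hA1

end Cfsg.Agent.Lib.SLThree78.Extra22
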