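import Cfsg.Agent.Lib.SLThree78.ExtraSpec22
import Cfsg.Agent.Lib.ExtraNine17.Base

/-!
The standard generators of the normaliser of the group of order 27 in `SL₃(p)`, and the stable
overgroup lemma.
-/

set_option autoImplicit false
set_option linter.unusedSectionVars false
set_option linter.style.haveILetI false

namespace Cfsg.Agent.Lib.SLThree78.Extra22

open Matrix
open Cfsg.Agent.Lib.ExtraNine17 hiding three_cases

universe u

variable {F : Type u} [Field F] {w : F}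

theorem i3_cases (i : I₃) : i = 0 ∨ i = 1 ∨ i = 2 := by revert i; decide

theorem pow_reduce {w : F} (hr : w ^ 2 + w + 1 = 0) (hc : w ^ 3 = 1) :
    w ^ 2 = -w - 1 ∧ w ^ 3 = 1 ∧ w ^ 4 = w ∧ w ^ 5 = -w - 1 ∧ w ^ 6 = 1 ∧ w ^ 7 = w :=
  ⟨by linear_combination hr, hc, by linear_combination w * hc, by linear_combination hr + w ^ 2 * hc,
    by linear_combination (w ^ 3 + 1) * hc, by linear_combination (w ^ 4 + w) * hc⟩

theorem sum_i3 (f : I₃ → F) : ∑ k : I₃, f k = f 0 + f 1 + f 2 := Fin.sum_univ_three f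

theorem ch_two' (w : F) : ch w 2 = w ^ 2 := rfl

/-- The discrete Fourier matrix with determinant one. -/
def fm (w : F) : Matrix I₃ I₃ F := (1 + 2 * w)⁻¹ • Matrix.of fun i j => ch w (i * j)

/-- Its conjugate by the homology. -/
def jm (w : F) : Matrix I₃ I₃ F := hom0 w * fm w * hom0 (w ^ 2)

/-- Their common square. -/
def zneg : Matrix I₃ I₃ F := Matrix.of fun i j => if i + j = 0 then -1 else 0

theorem s_sq (hw : IsPrimitiveRoot w 3) : (1 + 2 * w) * (1 + 2 * w) = -3 := by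
  linear_combination 4 * w_rel hw

theorem s_ne (hw : IsPrimitiveRoot w 3) (h3 : (3 : F) ≠ 0) : 1 + 2 * w ≠ 0 := fun h => by
  have := s_sq hw
  rw [h, zero_mul] at this
  exact h3 (by linear_combination this)

theorem w_cube (hw : IsPrimitiveRoot w 3) : w ^ 3 = 1 := hw.pow_eq_one

theorem fm_sq (hw : IsPrimitiveRoot w 3) (h3 : (3 : F) ≠ 0) : fm w * fm w = zneg := by
  have hr := w_rel hw
  have hc := w_cube hw
  obtain ⟨q2, q3, q4, q5, q6, q7⟩ := pow_reduce hr hc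
  have key : (Matrix.of fun i j => ch w (i * j) : Matrix I₃ I₃ F) * Matrix.of (fun i j => ch w (i * j)) =
      (-3 : F) • zneg := by
    ext i k
    rw [Matrix.mul_apply, sum_i3, Matrix.smul_apply]
    rcases i3_cases i with rfl | rfl | rfl <;> rcases i3_cases k with rfl | rfl | rfl <;>
      simp [zneg, ch_zero, ch_one, ch_two', show (2 : ZMod 3) * 2 = 1 from rfl,
        show (1 : ZMod 3) + 1 ≠ 0 from by decide, show (1 : ZMod 3) + 2 = 0 from rfl,
        show (2 : ZMod 3) + 1 = 0 from rfl, show (2 : ZMod 3) + 2 ≠ 0 from by decide,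
        show (1 : ZMod 3) ≠ 0 from by decide, show (2 : ZMod 3) ≠ 0 from by decide] <;>
      ((try ring_nf) <;> (try simp only [q2, q3, q4, q5, q6, q7]) <;> (try ring))
  rw [fm, Matrix.smul_mul, Matrix.mul_smul, smul_smul, key, smul_smul, ← mul_inv, s_sq hw,
    inv_mul_cancel₀ (neg_ne_zero.2 h3), one_smul]

theorem zneg_sq : (zneg : Matrix I₃ I₃ F) * zneg = 1 := by
  ext i k
  rw [Matrix.mul_apply, sum_i3]
  rcases i3_cases i with rfl | rfl | rfl <;> rcases i3_cases k with rfl | rfl | rfl <;>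
    simp [zneg, show (1 : ZMod 3) + 1 ≠ 0 from by decide, show (1 : ZMod 3) + 2 = 0 from rfl,
      show (2 : ZMod 3) + 1 = 0 from rfl, show (2 : ZMod 3) + 2 ≠ 0 from by decide,
      show (1 : ZMod 3) ≠ 0 from by decide, show (2 : ZMod 3) ≠ 0 from by decide,
      show (1 : ZMod 3) ≠ 2 from by decide, show (2 : ZMod 3) ≠ 1 from by decide,
      show (0 : ZMod 3) ≠ 2 from by decide, show (0 : ZMod 3) ≠ 1 from by decide]

theorem zneg_trace : (zneg : Matrix I₃ I₃ F).trace = -1 := by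
  rw [Matrix.trace, sum_i3]
  simp [zneg, show (1 : ZMod 3) + 1 ≠ 0 from by decide, show (2 : ZMod 3) + 2 ≠ 0 from by decide]

theorem det_fm (hw : IsPrimitiveRoot w 3) (h3 : (3 : F) ≠ 0) : (fm w).det = 1 := by
  have hs := s_ne hw h3
  have hd : (Matrix.of fun i j => ch w (i * j) : Matrix I₃ I₃ F).det = -3 * (1 + 2 * w) := by
    rw [show (Matrix.of fun i j => ch w (i * j) : Matrix I₃ I₃ F).det = _ from Matrix.det_fin_three _]
    show ch w ((0 : ZMod 3) * 0) * ch w ((1 : ZMod 3) * 1) * ch w ((2 : ZMod 3) * 2)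
      - ch w ((0 : ZMod 3) * 0) * ch w ((1 : ZMod 3) * 2) * ch w ((2 : ZMod 3) * 1)
      - ch w ((0 : ZMod 3) * 1) * ch w ((1 : ZMod 3) * 0) * ch w ((2 : ZMod 3) * 2)
      + ch w ((0 : ZMod 3) * 1) * ch w ((1 : ZMod 3) * 2) * ch w ((2 : ZMod 3) * 0)
      + ch w ((0 : ZMod 3) * 2) * ch w ((1 : ZMod 3) * 0) * ch w ((2 : ZMod 3) * 1)
      - ch w ((0 : ZMod 3) * 2) * ch w ((1 : ZMod 3) * 1) * ch w ((2 : ZMod 3) * 0) = _
    simp [ch_zero, ch_one, ch_two', show (2 : ZMod 3) * 2 = 1 from rfl]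
    linear_combination 3 * w_rel hw - w * w_cube hw
  rw [fm, det_smul, hd, show Fintype.card I₃ = 3 from ZMod.card 3,
    show -3 * (1 + 2 * w) = (1 + 2 * w) ^ 3 by rw [← s_sq hw]; ring, ← mul_pow,
    inv_mul_cancel₀ hs, one_pow]

theorem hom0_mul_sq (hw : IsPrimitiveRoot w 3) : hom0 w * hom0 (w ^ 2) = 1 := by
  rw [hom0, hom0, diagonal_mul_diagonal, ← diagonal_one]
  congr 1
  ext k
  by_cases h : k = 0 <;> simp [h]
  linear_combination w_cube hw

theorem sq_mul_hom0 (hw : IsPrimitiveRoot w 3) : hom0 (w ^ 2) * hom0 w = 1 :=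
  _root_.mul_eq_one_comm.1 (hom0_mul_sq hw)

theorem det_hom0' (w : F) : (hom0 w).det = w := by
  rw [hom0, det_diagonal]
  simp

theorem det_jm (hw : IsPrimitiveRoot w 3) (h3 : (3 : F) ≠ 0) : (jm w).det = 1 := by
  rw [jm, det_mul, det_mul, det_fm hw h3, det_hom0', det_hom0', mul_one, ← pow_succ', w_cube hw]

theorem hom0_mul_zneg (w : F) : hom0 w * zneg = zneg * hom0 w := by
  ext i k
  rw [hom0, diagonal_mul, mul_diagonal]
  rcases i3_cases i with rfl | rfl | rfl <;> rcases i3_cases k with rfl | rfl | rfl <;>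
    simp [zneg, show (1 : ZMod 3) + 1 ≠ 0 from by decide, show (1 : ZMod 3) + 2 = 0 from rfl,
      show (2 : ZMod 3) + 1 = 0 from rfl, show (2 : ZMod 3) + 2 ≠ 0 from by decide,
      show (1 : ZMod 3) ≠ 0 from by decide, show (2 : ZMod 3) ≠ 0 from by decide]

theorem jm_sq (hw : IsPrimitiveRoot w 3) (h3 : (3 : F) ≠ 0) : jm w * jm w = zneg := by
  calc jm w * jm w = hom0 w * fm w * (hom0 (w ^ 2) * hom0 w) * fm w * hom0 (w ^ 2) := by
        simp only [jm, Matrix.mul_assoc]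
    _ = hom0 w * (fm w * fm w) * hom0 (w ^ 2) := by
        rw [sq_mul_hom0 hw, Matrix.mul_one]; simp only [Matrix.mul_assoc]
    _ = zneg := by
        rw [fm_sq hw h3, hom0_mul_zneg, Matrix.mul_assoc, hom0_mul_sq hw, Matrix.mul_one]

theorem jm_fm (hw : IsPrimitiveRoot w 3) (h3 : (3 : F) ≠ 0) :
    jm w * fm w = zneg * fm w * jm w := by
  have hr := w_rel hw
  have hc := w_cube hw
  obtain ⟨q2, q3, q4, q5, q6, q7⟩ := pow_reduce hr hc
  have key : hom0 w * (Matrix.of fun i j => ch w (i * j) : Matrix I₃ I₃ F) * hom0 (w ^ 2) *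
      Matrix.of (fun i j => ch w (i * j)) = zneg * Matrix.of (fun i j => ch w (i * j)) *
      (hom0 w * Matrix.of (fun i j => ch w (i * j)) * hom0 (w ^ 2)) := by
    ext i k
    simp only [Matrix.mul_apply, sum_i3, hom0, diagonal, Matrix.of_apply]
    rcases i3_cases i with rfl | rfl | rfl <;> rcases i3_cases k with rfl | rfl | rfl <;>
      simp [zneg, ch_zero, ch_one, ch_two', show (2 : ZMod 3) * 2 = 1 from rfl,
        show (1 : ZMod 3) + 1 ≠ 0 from by decide, show (1 : ZMod 3) + 2 = 0 from rfl,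
        show (2 : ZMod 3) + 1 = 0 from rfl, show (2 : ZMod 3) + 2 ≠ 0 from by decide,
        show (1 : ZMod 3) ≠ 0 from by decide, show (2 : ZMod 3) ≠ 0 from by decide,
        show (0 : ZMod 3) ≠ 1 from by decide, show (0 : ZMod 3) ≠ 2 from by decide,
        show (1 : ZMod 3) ≠ 2 from by decide, show (2 : ZMod 3) ≠ 1 from by decide] <;>
      ((try ring_nf) <;> (try simp only [q2, q3, q4, q5, q6, q7]) <;> (try ring))
  simp only [jm, fm, Matrix.mul_smul, Matrix.smul_mul, smul_smul, key]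

theorem fm_hom0 (hw : IsPrimitiveRoot w 3) (h3 : (3 : F) ≠ 0) :
    fm w * hom0 w = hom1 w * fm w := by
  have hr := w_rel hw
  have hc := w_cube hw
  obtain ⟨q2, q3, q4, q5, q6, q7⟩ := pow_reduce hr hc
  have key : (Matrix.of fun i j => ch w (i * j) : Matrix I₃ I₃ F) * hom0 w =
      hom1 w * Matrix.of (fun i j => ch w (i * j)) := by
    ext i k
    rw [Matrix.mul_apply, Matrix.mul_apply, sum_i3, sum_i3]
    simp only [hom1, hom0, diagonal, Matrix.of_apply, Matrix.add_apply, Matrix.smul_apply, smul_eq_mul]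
    rcases i3_cases i with rfl | rfl | rfl <;> rcases i3_cases k with rfl | rfl | rfl <;>
      simp [Matrix.one_apply, ch_zero, ch_one, ch_two', show (2 : ZMod 3) * 2 = 1 from rfl,
        show (1 : ZMod 3) ≠ 0 from by decide, show (2 : ZMod 3) ≠ 0 from by decide,
        show (0 : ZMod 3) ≠ 1 from by decide, show (0 : ZMod 3) ≠ 2 from by decide,
        show (1 : ZMod 3) ≠ 2 from by decide, show (2 : ZMod 3) ≠ 1 from by decide] <;>
      field_simp <;> ((try ring_nf) <;> (try simp only [q2, q3, q4, q5, q6, q7]) <;> (try ring))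
  rw [fm, Matrix.smul_mul, Matrix.mul_smul, key]

theorem memN3_mul (g h : Matrix I₃ I₃ F) (hg : MemN3 w g) (hh : MemN3 w h) : MemN3 w (g * h) := by
  intro e
  obtain ⟨c, e₁, h₁⟩ := hh e
  obtain ⟨d, e₂, h₂⟩ := hg e₁
  refine ⟨c * d, e₂, ?_⟩
  rw [Matrix.mul_assoc, h₁, Matrix.mul_smul, ← Matrix.mul_assoc, h₂, Matrix.smul_mul, smul_smul,
    Matrix.mul_assoc]

theorem memN3_one : MemN3 w (1 : Matrix I₃ I₃ F) := fun e => ⟨1, e, by simp⟩

theorem memN3_scalar (c : F) : MemN3 w (c • (1 : Matrix I₃ I₃ F)) :=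
  fun e => ⟨1, e, by simp⟩

theorem memN3_em (hw : IsPrimitiveRoot w 3) (e : ZMod 3 × ZMod 3) : MemN3 w (em w e) := by
  intro f
  refine ⟨ch w (e.2 * f.1 - f.2 * e.1), f, ?_⟩
  rw [em_mul hw, em_mul hw, smul_smul, ← ch_add hw, sub_add_cancel, add_comm e f]

theorem memN3_smul (g : Matrix I₃ I₃ F) (hg : MemN3 w g) (c : F) : MemN3 w (c • g) := by
  have := memN3_mul _ _ (memN3_scalar (w := w) c) hg
  rwa [Matrix.smul_mul, Matrix.one_mul] at this

theorem memN3_of_gen (hw : IsPrimitiveRoot w 3) (g : Matrix I₃ I₃ F) {e₁ e₂ : ZMod 3 × ZMod 3} {c₁ c₂ : F}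
    (h₁ : g * em w (1, 0) = c₁ • (em w e₁ * g)) (h₂ : g * em w (0, 1) = c₂ • (em w e₂ * g)) :
    MemN3 w g := by
  let P : ZMod 3 × ZMod 3 → Prop := fun e => ∃ (c : F) (e' : ZMod 3 × ZMod 3), g * em w e = c • (em w e' * g)
  have hadd : ∀ e f, P e → P f → P (e + f) := by
    rintro e f ⟨c, e', he⟩ ⟨c', f', hf⟩
    have hz := ch_ne_zero hw (e.2 * f.1)
    refine ⟨(ch w (e.2 * f.1))⁻¹ * (c * c' * ch w (e'.2 * f'.1)), e' + f', ?_⟩
    rw [← inv_smul_smul₀ hz (em w (e + f)), ← em_mul hw, Matrix.mul_smul, ← Matrix.mul_assoc, he,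
      Matrix.smul_mul, Matrix.mul_assoc, hf, Matrix.mul_smul, ← Matrix.mul_assoc, em_mul hw, Matrix.smul_mul,
      smul_smul, smul_smul, smul_smul]
    congr 1
    ring
  have hX : P (1, 0) := ⟨_, _, h₁⟩
  have hZ : P (0, 1) := ⟨_, _, h₂⟩
  have h0 : P 0 := ⟨1, 0, by rw [em_zero, one_smul, Matrix.one_mul, Matrix.mul_one]⟩
  have hcase : ∀ e : ZMod 3 × ZMod 3, e = 0 ∨ e = (1, 0) ∨ e = (0, 1) ∨ e = (1, 0) + (1, 0) ∨
      e = (0, 1) + (0, 1) ∨ e = (1, 0) + (0, 1) ∨ e = (1, 0) + ((0, 1) + (0, 1)) ∨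
      e = ((1, 0) + (1, 0)) + (0, 1) ∨ e = ((1, 0) + (1, 0)) + ((0, 1) + (0, 1)) := by decide
  intro e
  rcases hcase e with rfl | rfl | rfl | rfl | rfl | rfl | rfl | rfl | rfl
  · exact h0
  · exact hX
  · exact hZ
  · exact hadd _ _ hX hX
  · exact hadd _ _ hZ hZ
  · exact hadd _ _ hX hZ
  · exact hadd _ _ hX (hadd _ _ hZ hZ)
  · exact hadd _ _ (hadd _ _ hX hX) hZ
  · exact hadd _ _ (hadd _ _ hX hX) (hadd _ _ hZ hZ)

theorem fm_em_X (hw : IsPrimitiveRoot w 3) : fm w * em w (1, 0) = em w (0, 1) * fm w := by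
  rw [fm, Matrix.smul_mul, Matrix.mul_smul]
  congr 1
  ext i k
  rw [Matrix.mul_apply, Matrix.mul_apply, Finset.sum_eq_single (k + 1), Finset.sum_eq_single i]
  · simp only [Matrix.of_apply, em_apply, add_zero, if_true, zero_mul, one_mul, ch_zero, mul_one]
    rw [← ch_add hw]
    congr 1
    ring
  · intro b _ hb
    simp [em_apply, hb.symm]
  · intro h; exact absurd (Finset.mem_univ _) h
  · intro b _ hb
    simp [em_apply, hb]
  · intro h; exact absurd (Finset.mem_univ _) h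

theorem fm_em_Z (hw : IsPrimitiveRoot w 3) : fm w * em w (0, 1) = em w (2, 0) * fm w := by
  rw [fm, Matrix.smul_mul, Matrix.mul_smul]
  congr 1
  ext i k
  rw [Matrix.mul_apply, Matrix.mul_apply, Finset.sum_eq_single k, Finset.sum_eq_single (i + 1)]
  · simp only [Matrix.of_apply, em_apply, add_zero, if_true, zero_mul, one_mul, ch_zero]
    rw [if_pos (show i = i + 1 + 2 by rw [add_assoc, show (1 : ZMod 3) + 2 = 0 from rfl, add_zero]),
      one_mul, ← ch_add hw]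
    congr 1
    ring
  · intro b _ hb
    have : i ≠ b + 2 := fun h => hb (by
      rw [h, add_assoc, show (2 : ZMod 3) + 1 = 0 from rfl, add_zero])
    simp [em_apply, this]
  · intro h; exact absurd (Finset.mem_univ _) h
  · intro b _ hb
    simp [em_apply, hb]
  · intro h; exact absurd (Finset.mem_univ _) h

theorem hom0_em_X (hw : IsPrimitiveRoot w 3) :
    hom0 w * em w (1, 0) = w ^ 2 • (em w (1, 1) * hom0 w) := by
  have hr := w_rel hw
  have hc := w_cube hw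
  obtain ⟨q2, q3, q4, q5, q6, q7⟩ := pow_reduce hr hc
  ext i k
  rw [hom0, Matrix.smul_apply, diagonal_mul, mul_diagonal, em_apply, em_apply]
  rcases i3_cases i with rfl | rfl | rfl <;> rcases i3_cases k with rfl | rfl | rfl <;>
    simp [ch_zero, ch_one, ch_two', show (2 : ZMod 3) + 1 = 0 from rfl,
      show (1 : ZMod 3) + 1 = 2 from rfl, show (1 : ZMod 3) ≠ 0 from by decide,
      show (2 : ZMod 3) ≠ 0 from by decide, show (0 : ZMod 3) ≠ 1 from by decide,
      show (0 : ZMod 3) ≠ 2 from by decide,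
      show (1 : ZMod 3) ≠ 2 from by decide, show (2 : ZMod 3) ≠ 1 from by decide] <;>
    ((try ring_nf) <;> (try simp only [q2, q3, q4, q5, q6, q7]) <;> (try ring))

theorem hom0_em_Z : hom0 w * em w (0, 1) = em w (0, 1) * hom0 w := by
  ext i k
  rw [hom0, diagonal_mul, mul_diagonal, em_apply]
  by_cases h : i = k
  · subst h; ring
  · simp [h]

theorem memN3_fm (hw : IsPrimitiveRoot w 3) : MemN3 w (fm w) :=
  memN3_of_gen hw _ (c₁ := 1) (c₂ := 1) (by rw [one_smul]; exact fm_em_X hw)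
    (by rw [one_smul]; exact fm_em_Z hw)

theorem memN3_hom0 (hw : IsPrimitiveRoot w 3) : MemN3 w (hom0 w) :=
  memN3_of_gen hw _ (hom0_em_X hw) (c₂ := 1) (by rw [one_smul]; exact hom0_em_Z)

theorem det_em (hw : IsPrimitiveRoot w 3) (e : ZMod 3 × ZMod 3) : (em w e).det = 1 := by
  have hX : (em w (1, 0)).det = 1 := by
    rw [show (em w (1, 0)).det = _ from Matrix.det_fin_three _]
    show em w (1, 0) (0 : I₃) 0 * em w (1, 0) (1 : I₃) 1 * em w (1, 0) (2 : I₃) 2
      - em w (1, 0) (0 : I₃) 0 * em w (1, 0) (1 : I₃) 2 * em w (1, 0) (2 : I₃) 1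
      - em w (1, 0) (0 : I₃) 1 * em w (1, 0) (1 : I₃) 0 * em w (1, 0) (2 : I₃) 2
      + em w (1, 0) (0 : I₃) 1 * em w (1, 0) (1 : I₃) 2 * em w (1, 0) (2 : I₃) 0
      + em w (1, 0) (0 : I₃) 2 * em w (1, 0) (1 : I₃) 0 * em w (1, 0) (2 : I₃) 1
      - em w (1, 0) (0 : I₃) 2 * em w (1, 0) (1 : I₃) 1 * em w (1, 0) (2 : I₃) 0 = 1
    simp [em_apply, ch_zero, show (2 : ZMod 3) + 1 = 0 from rfl, show (1 : ZMod 3) + 1 = 2 from rfl,
      show (1 : ZMod 3) ≠ 0 from by decide, show (2 : ZMod 3) ≠ 0 from by decide,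
      show (0 : ZMod 3) ≠ 1 from by decide, show (0 : ZMod 3) ≠ 2 from by decide,
      show (1 : ZMod 3) ≠ 2 from by decide, show (2 : ZMod 3) ≠ 1 from by decide]
  have hZ : (em w (0, 1)).det = 1 := by
    have : em w (0, 1) = diagonal fun k => ch w k := by
      ext i k
      by_cases h : i = k <;> simp [em_apply, h]
    rw [this, det_diagonal, show ∏ k : I₃, ch w k = ch w 0 * ch w 1 * ch w 2 from Fin.prod_univ_three _,
      ch_zero, ch_one, ch_two', one_mul, ← pow_succ', w_cube hw]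
  have hXa : ∀ a : ZMod 3, (em w (a, 0)).det = 1 := by
    intro a
    rcases i3_cases a with rfl | rfl | rfl
    · rw [show ((0, 0) : ZMod 3 × ZMod 3) = 0 from rfl, em_zero, det_one]
    · exact hX
    · have := congrArg Matrix.det (em_mul hw (1, 0) (1, 0))
      simp only [det_mul, hX, mul_one, zero_mul, ch_zero, one_smul] at this
      exact this.symm
  have hZb : ∀ b : ZMod 3, (em w (0, b)).det = 1 := by
    intro b
    rcases i3_cases b with rfl | rfl | rfl
    · rw [show ((0, 0) : ZMod 3 × ZMod 3) = 0 from rfl, em_zero, det_one]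
    · exact hZ
    · have := congrArg Matrix.det (em_mul hw (0, 1) (0, 1))
      simp only [det_mul, hZ, mul_one, mul_zero, ch_zero, one_smul] at this
      exact this.symm
  obtain ⟨a, b⟩ := e
  have := congrArg Matrix.det (em_mul hw (a, 0) (0, b))
  simp only [det_mul, hXa, hZb, mul_one, zero_mul, ch_zero, one_smul, Prod.mk_add_mk, add_zero,
    zero_add] at this
  exact this.symm

variable [Finite F]

theorem memN3_inv (g : GL I₃ F) (hg : MemN3 w (g : Matrix I₃ I₃ F)) :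
    MemN3 w ((g⁻¹ : GL I₃ F) : Matrix I₃ I₃ F) := by
  have hpow : ∀ n : ℕ, MemN3 w ((g ^ n : GL I₃ F) : Matrix I₃ I₃ F) := by
    intro n
    induction n with
    | zero => rw [pow_zero, Units.val_one]; exact memN3_one
    | succ n ih => rw [pow_succ, Units.val_mul]; exact memN3_mul _ _ ih hg
  obtain ⟨n, hn, h⟩ := (isOfFinOrder_iff_pow_eq_one.1 (isOfFinOrder_of_finite g))
  obtain ⟨m, rfl⟩ : ∃ m, n = m + 1 := ⟨n - 1, by omega⟩
  rw [show g⁻¹ = g ^ m from inv_eq_of_mul_eq_one_left (by rw [← pow_succ, h])]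
  exact hpow m

theorem stdSet_mul {g h : GL I₃ F} (hg : g ∈ stdSet w) (hh : h ∈ stdSet w) : g * h ∈ stdSet w :=
  ⟨by rw [Units.val_mul, det_mul, hg.1, hh.1, mul_one], by
    rw [Units.val_mul]; exact memN3_mul _ _ hg.2 hh.2⟩

theorem stdSet_inv {g : GL I₃ F} (hg : g ∈ stdSet w) : g⁻¹ ∈ stdSet w := by
  refine ⟨?_, memN3_inv g hg.2⟩
  have h := congrArg Matrix.det (Units.inv_mul g)
  rwa [det_mul, hg.1, mul_one, det_one] at h

theorem stdSet_eu (hw : IsPrimitiveRoot w 3) (e : ZMod 3 × ZMod 3) : eu hw e ∈ stdSet w :=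
  ⟨det_em hw e, memN3_em hw e⟩

theorem stdSet_conj {g u : GL I₃ F} (hg : g ∈ stdSet w) (hu : MemN3 w (u : Matrix I₃ I₃ F)) :
    u * g * u⁻¹ ∈ stdSet w := by
  refine ⟨?_, ?_⟩
  · rw [Units.val_mul, Units.val_mul, det_mul, det_mul, hg.1, mul_one, ← det_mul, Units.mul_inv, det_one]
  · rw [Units.val_mul, Units.val_mul]
    exact memN3_mul _ _ (memN3_mul _ _ hu hg.2) (memN3_inv u hu)

/-- The Fourier matrix as a unit. -/
noncomputable def fu (hw : IsPrimitiveRoot w 3) (h3 : (3 : F) ≠ 0) : GL I₃ F :=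
  Matrix.GeneralLinearGroup.mkOfDetNeZero (fm w) (by rw [det_fm hw h3]; exact one_ne_zero)

theorem fu_coe (hw : IsPrimitiveRoot w 3) (h3 : (3 : F) ≠ 0) :
    (fu hw h3 : Matrix I₃ I₃ F) = fm w := rfl

/-- The conjugate Fourier matrix as a unit. -/
noncomputable def ju (hw : IsPrimitiveRoot w 3) (h3 : (3 : F) ≠ 0) : GL I₃ F :=
  h0u hw * fu hw h3 * (h0u hw)⁻¹

theorem h0u_inv (hw : IsPrimitiveRoot w 3) :
    (((h0u hw)⁻¹ : GL I₃ F) : Matrix I₃ I₃ F) = hom0 (w ^ 2) := by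
  show (diagonal fun i => if i = 0 then w⁻¹ else 1) = hom0 (w ^ 2)
  rw [show w⁻¹ = w ^ 2 from inv_eq_of_mul_eq_one_right (by rw [← pow_succ', w_cube hw]), hom0]

theorem ju_coe (hw : IsPrimitiveRoot w 3) (h3 : (3 : F) ≠ 0) :
    (ju hw h3 : Matrix I₃ I₃ F) = jm w := by
  rw [ju, Units.val_mul, Units.val_mul, fu_coe, h0u_coe, h0u_inv, jm]

theorem stdSet_fu (hw : IsPrimitiveRoot w 3) (h3 : (3 : F) ≠ 0) : fu hw h3 ∈ stdSet w :=
  ⟨det_fm hw h3, memN3_fm hw⟩

theorem stdSet_ju (hw : IsPrimitiveRoot w 3) (h3 : (3 : F) ≠ 0) : ju hw h3 ∈ stdSet w :=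
  stdSet_conj (stdSet_fu hw h3) (memN3_hom0 hw)

theorem h0u_cube (hw : IsPrimitiveRoot w 3) : h0u hw * h0u hw * h0u hw = 1 := by
  refine Units.ext ?_
  rw [Units.val_mul, Units.val_mul, h0u_coe, hom0, diagonal_mul_diagonal, diagonal_mul_diagonal,
    Units.val_one, ← diagonal_one]
  congr 1
  ext k
  by_cases h : k = 0 <;> simp [h]
  linear_combination w_cube hw

/-- An element whose conjugates under the homology stay in a proper overgroup normalises the group. -/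
theorem memN3_of_stable [Fintype F] (hw : IsPrimitiveRoot w 3) (p : ℕ) (hp : p.Prime)
    (hF : Fintype.card F = p) (h7 : 7 ≤ p) (h3 : (3 : F) ≠ 0) {M : Subgroup (GL I₃ F)}
    (hM : M ≤ Cfsg.Geo.specialLinear I₃ F) (hN : stdSet w ⊆ M)
    (hne : M ≠ Cfsg.Geo.specialLinear I₃ F) {g : GL I₃ F} (hg : g ∈ M)
    (h₁ : h0u hw * g * (h0u hw)⁻¹ ∈ M)
    (h₂ : h0u hw * (h0u hw * g * (h0u hw)⁻¹) * (h0u hw)⁻¹ ∈ M) :
    MemN3 w (g : Matrix I₃ I₃ F) := by
  by_contra hout
  set h := h0u hw with hh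
  let c := (MulAut.conj h).toMonoidHom
  let K : Subgroup (GL I₃ F) := M ⊓ M.comap c ⊓ (M.comap c).comap c
  have hK : ∀ x, x ∈ K ↔ x ∈ M ∧ h * x * h⁻¹ ∈ M ∧ h * (h * x * h⁻¹) * h⁻¹ ∈ M := fun x => by
    show (x ∈ M ∧ h * x * h⁻¹ ∈ M) ∧ h * (h * x * h⁻¹) * h⁻¹ ∈ M ↔ _
    exact and_assoc
  have hh0 : MemN3 w ((h : GL I₃ F) : Matrix I₃ I₃ F) := memN3_hom0 hw
  have hstd : ∀ x ∈ stdSet w, x ∈ K := fun x hx =>
    (hK x).2 ⟨hN hx, hN (stdSet_conj hx hh0), hN (stdSet_conj (stdSet_conj hx hh0) hh0)⟩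
  have hstep : ∀ x ∈ K, h * x * h⁻¹ ∈ K := by
    intro x hx
    obtain ⟨a, b, d⟩ := (hK x).1 hx
    refine (hK _).2 ⟨b, d, ?_⟩
    rwa [show h * (h * (h * x * h⁻¹) * h⁻¹) * h⁻¹ = (h * h * h) * x * (h * h * h)⁻¹ by group,
      h0u_cube hw, one_mul, inv_one, mul_one]
  set L := Subgroup.normalizer (K : Set (GL I₃ F)) with hL
  have hKL : K ≤ L := Subgroup.le_normalizer
  have hhL : h ∈ L := Subgroup.mem_normalizer_iff.2 fun x => ⟨hstep x, fun hx => by
    have := hstep _ (hstep _ hx)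
    rwa [show h * (h * (h * x * h⁻¹) * h⁻¹) * h⁻¹ = (h * h * h) * x * (h * h * h)⁻¹ by group,
      h0u_cube hw, one_mul, inv_one, mul_one] at this⟩
  have h1L : ∃ u ∈ L, (u : Matrix I₃ I₃ F) = hom1 w := by
    refine ⟨fu hw h3 * h * (fu hw h3)⁻¹,
      mul_mem (mul_mem (hKL (hstd _ (stdSet_fu hw h3))) hhL)
        (inv_mem (hKL (hstd _ (stdSet_fu hw h3)))), ?_⟩
    rw [Units.val_mul, Units.val_mul, hh, h0u_coe, fu_coe, fm_hom0 hw h3, Matrix.mul_assoc,
      ← fu_coe hw h3, Units.mul_inv, Matrix.mul_one]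
  have hscL : Cfsg.Geo.scalars I₃ F ≤ L := by
    intro x hx
    obtain ⟨a, ha⟩ := (Cfsg.Geo.mem_scalars_iff _).1 hx
    refine Subgroup.mem_normalizer_iff.2 fun y => ?_
    rw [show x = sc a from Units.ext (by rw [ha, sc_coe]), ← sc_comm a y, mul_inv_cancel_right]
  have hb := base hw p hp hF h7 L hscL (fun e => hKL (hstd _ (stdSet_eu hw e)))
    ⟨h, hhL, h0u_coe hw⟩ h1L ⟨g, hKL ((hK g).2 ⟨hg, h₁, h₂⟩), hout⟩
  have hup : ∀ t, up t ∈ L := fun t => by
    refine LinGroup.SL_transvection_induction (fun t => up t ∈ L) (by rw [map_one]; exact L.one_mem)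
      (fun i j hij a => ?_) (fun A B hA hB => by rw [map_mul]; exact L.mul_mem hA hB) t
    obtain ⟨v, hv, hve⟩ := hb i j hij a
    have e : up (SpecialLinearGroup.transvection hij a) = v :=
      Units.ext (by rw [up_coe, hve, LinGroup.coe_transvection hij a])
    rwa [e]
  have hSL : ∀ t, up t ∈ K := by
    refine sl_le_of_normalised K (fun t k hk => ((Subgroup.mem_normalizer_iff.1 (hup t)) k).1 hk)
      ⟨eu hw (1, 0), hstd _ (stdSet_eu hw _), ?_⟩
    rintro ⟨a, ha⟩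
    have := congrArg (fun A : GL I₃ F => (A : Matrix I₃ I₃ F) 1 0) ha
    simp [eu_coe, sc_coe, em_apply, ch_zero] at this
  refine hne (le_antisymm hM fun x hx => ?_)
  have hdet : (x : Matrix I₃ I₃ F).det = 1 := by
    rw [← Matrix.GeneralLinearGroup.val_det_apply]
    exact Units.val_eq_one.2 hx
  obtain ⟨t, rfl⟩ := exists_up hdet
  exact ((hK _).1 (hSL t)).1

end Cfsg.Agent.Lib.SLThree78.Extra22
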