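import Cfsg.Agent.Lib.ExtraNine17.Three

/-!
The two symplectic generators of the normaliser of the standard group of order 27 in three
variables, their common square, and the plane on which that square is minus one.
-/

set_option autoImplicit false
set_option linter.unusedSectionVars false
set_option linter.unusedVariables false
set_option linter.unusedSimpArgs false
set_option linter.unnecessarySeqFocus false

namespace Cfsg.Agent.Lib.SLThree78.Extra22

open Matrix Cfsg.Agent.Lib.ExtraNine17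

variable {F : Type*} [Field F] {w : F}

/-- The Fourier matrix. -/
def Fm (w : F) : Matrix I₃ I₃ F := (1 + 2 * w)⁻¹ • Matrix.of fun i j => ch w (i * j)

/-- The conjugate of the Fourier matrix by the homology. -/
def Jm (w : F) : Matrix I₃ I₃ F := hom0 w * Fm w * hom0 (w ^ 2)

/-- The square of the Fourier matrix. -/
def zm (w : F) : Matrix I₃ I₃ F := Fm w * Fm w

theorem plane_sum_three (f : I₃ → F) : ∑ i, f i = f 0 + f 1 + f 2 := Fin.sum_univ_three f

theorem plane_ch_two : ch w 2 = w ^ 2 := rfl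

theorem forall_three {P : I₃ → Prop} (h0 : P 0) (h1 : P 1) (h2 : P 2) : ∀ i, P i := by
  intro i
  fin_cases i
  · exact h0
  · exact h1
  · exact h2

theorem ext_three {A B : Matrix I₃ I₃ F} (h00 : A 0 0 = B 0 0) (h01 : A 0 1 = B 0 1) (h02 : A 0 2 = B 0 2)
    (h10 : A 1 0 = B 1 0) (h11 : A 1 1 = B 1 1) (h12 : A 1 2 = B 1 2)
    (h20 : A 2 0 = B 2 0) (h21 : A 2 1 = B 2 1) (h22 : A 2 2 = B 2 2) : A = B := by
  have : ∀ i j, A i j = B i j :=
    forall_three (forall_three h00 h01 h02) (forall_three h10 h11 h12) (forall_three h20 h21 h22)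
  exact Matrix.ext this

theorem sqrt_sq (hw : IsPrimitiveRoot w 3) : (1 + 2 * w) * (1 + 2 * w) = -3 := by
  linear_combination 4 * w_rel hw

theorem sqrt_ne (hw : IsPrimitiveRoot w 3) (h3 : (3 : F) ≠ 0) : (1 + 2 * w) ≠ 0 := by
  intro h
  have := sqrt_sq hw
  rw [h, zero_mul] at this
  exact h3 (neg_eq_zero.1 this.symm)

theorem plane_w_ne_one (hw : IsPrimitiveRoot w 3) : w ≠ 1 := hw.ne_one (by norm_num)

theorem plane_w_sq_ne (hw : IsPrimitiveRoot w 3) : w ^ 2 ≠ w := by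
  intro h
  apply plane_w_ne_one hw
  have h0 := hw.ne_zero (by norm_num)
  exact mul_left_cancel₀ h0 (by linear_combination h)

theorem sum_ch (hw : IsPrimitiveRoot w 3) (a : I₃) :
    ∑ k : I₃, ch w (k * a) = if a = 0 then 3 else 0 := by
  rw [plane_sum_three]
  have h := w_rel hw
  revert a
  refine forall_three ?_ ?_ ?_
  · simp [ch_zero]; norm_num
  · rw [zero_mul, one_mul, mul_one, ch_zero, ch_one, plane_ch_two, if_neg (by decide)]
    linear_combination h
  · rw [zero_mul, one_mul, show (2 : I₃) * 2 = 1 from rfl, ch_zero, ch_one, plane_ch_two, if_neg (by decide)]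
    linear_combination h

theorem zm_apply (hw : IsPrimitiveRoot w 3) (h3 : (3 : F) ≠ 0) (i j : I₃) :
    zm w i j = if i + j = 0 then -1 else 0 := by
  have hs := sqrt_ne hw h3
  have e : ∀ k : I₃, ch w (i * k) * ch w (k * j) = ch w (k * (i + j)) := fun k => by
    rw [← ch_add hw]; congr 1; ring
  rw [zm, Fm, Matrix.smul_mul, Matrix.mul_smul, smul_smul, Matrix.smul_apply, Matrix.mul_apply]
  simp only [Matrix.of_apply, e, sum_ch hw, smul_eq_mul]
  split_ifs
  · field_simp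
    linear_combination sqrt_sq hw
  · rw [mul_zero]

theorem neg_of_comm (hw : IsPrimitiveRoot w 3) (h3 : (3 : F) ≠ 0) {A : Matrix I₃ I₃ F}
    (h : A * zm w = zm w * A) (i j : I₃) : A (-i) (-j) = A i j := by
  have hc := congrFun (congrFun h i) (-j)
  rw [Matrix.mul_apply, Matrix.mul_apply, Finset.sum_eq_single j, Finset.sum_eq_single (-i)] at hc
  · rw [zm_apply hw h3, zm_apply hw h3, if_pos (add_neg_cancel j), if_pos (add_neg_cancel i)] at hc
    linear_combination hc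
  · intro b _ hb
    rw [zm_apply hw h3, if_neg, zero_mul]
    exact fun h => hb (eq_neg_of_add_eq_zero_right h)
  · simp
  · intro b _ hb
    rw [zm_apply hw h3, if_neg, mul_zero]
    exact fun h => hb (add_neg_eq_zero.1 h)
  · simp

theorem entries (hw : IsPrimitiveRoot w 3) (h3 : (3 : F) ≠ 0) {A : Matrix I₃ I₃ F}
    (h : A * zm w = zm w * A) :
    A 0 2 = A 0 1 ∧ A 2 0 = A 1 0 ∧ A 2 2 = A 1 1 ∧ A 2 1 = A 1 2 :=
  ⟨neg_of_comm hw h3 h 0 1, neg_of_comm hw h3 h 1 0, neg_of_comm hw h3 h 1 1, neg_of_comm hw h3 h 1 2⟩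

theorem comm_zm_of_comm {A : Matrix I₃ I₃ F} (hA : A * Fm w = Fm w * A) : A * zm w = zm w * A := by
  show Commute A (Fm w * Fm w)
  exact (show Commute A (Fm w) from hA).mul_right hA

theorem comm_hom0_of_off {A : Matrix I₃ I₃ F}
    (h1 : A 0 1 = 0) (h2 : A 0 2 = 0) (h1' : A 1 0 = 0) (h2' : A 2 0 = 0) :
    A * hom0 w = hom0 w * A := by
  refine ext_three ?_ ?_ ?_ ?_ ?_ ?_ ?_ ?_ ?_ <;>
    rw [hom0, Matrix.mul_diagonal, Matrix.diagonal_mul] <;>
    simp [h1, h2, h1', h2', mul_comm, show (1 : I₃) ≠ 0 by decide, show (2 : I₃) ≠ 0 by decide]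

theorem plane_scalar (hw : IsPrimitiveRoot w 3) (h2 : (2 : F) ≠ 0) (h3 : (3 : F) ≠ 0)
    (A : Matrix I₃ I₃ F) (hF : A * Fm w = Fm w * A) (hJ : A * Jm w = Jm w * A) :
    A * hom0 w = hom0 w * A := by
  obtain ⟨e1, e2, e3, e4⟩ := entries hw h3 (comm_zm_of_comm hF)
  have hs := inv_ne_zero (sqrt_ne hw h3)
  have hf := congrFun (congrFun hF 0) 0
  have hj := congrFun (congrFun hJ 0) 0
  simp only [Jm, Fm, hom0, Matrix.mul_apply, plane_sum_three, Matrix.smul_apply, Matrix.of_apply,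
    Matrix.diagonal_apply, smul_eq_mul, e1, e2, mul_zero, zero_mul, ch_zero,
    show (1 : I₃) ≠ 0 by decide, show (2 : I₃) ≠ 0 by decide, show (1 : I₃) ≠ 2 by decide,
    show (2 : I₃) ≠ 1 by decide, show (0 : I₃) ≠ 1 by decide, show (0 : I₃) ≠ 2 by decide,
    if_true, if_false, ite_true, ite_false, mul_one, one_mul, add_zero, zero_add] at hf hj
  have hqr : A 0 1 = A 1 0 := by
    refine mul_left_cancel₀ (mul_ne_zero h2 hs) ?_
    linear_combination hf
  have hq : A 0 1 = 0 := by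
    have hne : (w ^ 2 - w) * (2 * (1 + 2 * w)⁻¹) ≠ 0 :=
      mul_ne_zero (sub_ne_zero.2 (plane_w_sq_ne hw)) (mul_ne_zero h2 hs)
    refine (mul_eq_zero.1 (?_ : (w ^ 2 - w) * (2 * (1 + 2 * w)⁻¹) * A 0 1 = 0)).resolve_left hne
    have hw3 : w ^ 3 = 1 := hw.pow_eq_one
    rw [← hqr] at hj
    linear_combination hj - (1 + 2 * w)⁻¹ * A 0 0 * 0 * hw3
  exact comm_hom0_of_off hq (e1.trans hq) (hqr ▸ hq) (e2.trans (hqr ▸ hq))

theorem comm_Fm_of_plane {A : Matrix I₃ I₃ F} (hw : IsPrimitiveRoot w 3) (h3 : (3 : F) ≠ 0)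
    (h : A * zm w = zm w * A) (hq : A 0 1 = 0) (hr : A 1 0 = 0) (hp : A 0 0 = A 1 1 + A 1 2) :
    A * hom0 w = hom0 w * A ∧ A * Fm w = Fm w * A ∧ A * Jm w = Jm w * A := by
  obtain ⟨e1, e2, e3, e4⟩ := entries hw h3 h
  have h0 := comm_hom0_of_off (w := w) hq (e1.trans hq) hr (e2.trans hr)
  have h0' := comm_hom0_of_off (w := w ^ 2) hq (e1.trans hq) hr (e2.trans hr)
  have hF : A * Fm w = Fm w * A := by
    rw [Fm, Matrix.mul_smul, Matrix.smul_mul]
    congr 1
    have hr' := w_rel hw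
    refine ext_three ?_ ?_ ?_ ?_ ?_ ?_ ?_ ?_ ?_ <;>
      rw [Matrix.mul_apply, Matrix.mul_apply, plane_sum_three, plane_sum_three] <;>
      simp only [Matrix.of_apply, e1, e2, e3, e4, hq, hr, hp, mul_zero, zero_mul, mul_one, one_mul,
        show (2 : I₃) * 2 = 1 from rfl, ch_zero, ch_one, plane_ch_two] <;>
      ring
  refine ⟨h0, hF, ?_⟩
  show Commute A (hom0 w * Fm w * hom0 (w ^ 2))
  exact ((show Commute A (hom0 w) from h0).mul_right hF).mul_right h0'

/-- The plane part: the row and column off the axis, and the difference of the diagonal. -/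
theorem cross (hw : IsPrimitiveRoot w 3) (h2 : (2 : F) ≠ 0) (h3 : (3 : F) ≠ 0)
    {A X : Matrix I₃ I₃ F} (hA : A * zm w = zm w * A) (hX : X * zm w = zm w * X)
    (h : X * A = A * X) :
    X 0 1 * A 1 0 = A 0 1 * X 1 0 ∧
    X 0 1 * (A 0 0 - (A 1 1 + A 1 2)) = A 0 1 * (X 0 0 - (X 1 1 + X 1 2)) ∧
    X 1 0 * (A 0 0 - (A 1 1 + A 1 2)) = A 1 0 * (X 0 0 - (X 1 1 + X 1 2)) := by
  obtain ⟨a1, a2, a3, a4⟩ := entries hw h3 hA
  obtain ⟨x1, x2, x3, x4⟩ := entries hw h3 hX
  have k00 := congrFun (congrFun h 0) 0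
  have k01 := congrFun (congrFun h 0) 1
  have k10 := congrFun (congrFun h 1) 0
  simp only [Matrix.mul_apply, plane_sum_three, a1, a2, a3, a4, x1, x2, x3, x4] at k00 k01 k10
  refine ⟨mul_left_cancel₀ h2 ?_, ?_, ?_⟩
  · linear_combination k00
  · linear_combination -k01
  · linear_combination k10

theorem plane_abel (hw : IsPrimitiveRoot w 3) (h2 : (2 : F) ≠ 0) (h3 : (3 : F) ≠ 0)
    (A X Y : Matrix I₃ I₃ F) (hA : A * zm w = zm w * A)
    (hns : ¬ (A * hom0 w = hom0 w * A ∧ A * Fm w = Fm w * A ∧ A * Jm w = Jm w * A))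
    (hXz : X * zm w = zm w * X) (hYz : Y * zm w = zm w * Y)
    (hXA : X * A = A * X) (hYA : Y * A = A * Y) : X * Y = Y * X := by
  obtain ⟨u1, u2, u3⟩ := cross hw h2 h3 hA hXz hXA
  obtain ⟨v1, v2, v3⟩ := cross hw h2 h3 hA hYz hYA
  obtain ⟨x1, x2, x3, x4⟩ := entries hw h3 hXz
  obtain ⟨y1, y2, y3, y4⟩ := entries hw h3 hYz
  set δA := A 0 0 - (A 1 1 + A 1 2) with hδA
  have hne : A 0 1 ≠ 0 ∨ A 1 0 ≠ 0 ∨ δA ≠ 0 := by
    by_contra hc
    push Not at hc
    exact hns (comm_Fm_of_plane hw h3 hA hc.1 hc.2.1 (sub_eq_zero.1 hc.2.2))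
  have k1 : X 0 1 * Y 1 0 = Y 0 1 * X 1 0 := by
    rcases hne with h | h | h
    · apply mul_left_cancel₀ h; linear_combination Y 0 1 * u1 - X 0 1 * v1
    · apply mul_left_cancel₀ h; linear_combination Y 1 0 * u1 - X 1 0 * v1
    · apply mul_left_cancel₀ (mul_ne_zero h h)
      linear_combination δA * Y 1 0 * u2 + A 0 1 * (X 0 0 - (X 1 1 + X 1 2)) * v3 -
        δA * X 1 0 * v2 - A 0 1 * (Y 0 0 - (Y 1 1 + Y 1 2)) * u3
  have k2 : X 0 1 * (Y 0 0 - (Y 1 1 + Y 1 2)) = Y 0 1 * (X 0 0 - (X 1 1 + X 1 2)) := by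
    rcases hne with h | h | h
    · apply mul_left_cancel₀ h; linear_combination Y 0 1 * u2 - X 0 1 * v2
    · apply mul_left_cancel₀ (mul_ne_zero h h)
      linear_combination A 1 0 * (Y 0 0 - (Y 1 1 + Y 1 2)) * u1 + A 0 1 * X 1 0 * -v3 -
        A 1 0 * (X 0 0 - (X 1 1 + X 1 2)) * v1 - A 0 1 * Y 1 0 * -u3
    · apply mul_left_cancel₀ h
      linear_combination (Y 0 0 - (Y 1 1 + Y 1 2)) * u2 - (X 0 0 - (X 1 1 + X 1 2)) * v2
  have k3 : X 1 0 * (Y 0 0 - (Y 1 1 + Y 1 2)) = Y 1 0 * (X 0 0 - (X 1 1 + X 1 2)) := by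
    rcases hne with h | h | h
    · apply mul_left_cancel₀ (mul_ne_zero h h)
      linear_combination -(A 0 1 * (Y 0 0 - (Y 1 1 + Y 1 2))) * u1 + A 1 0 * X 0 1 * -v2 +
        A 0 1 * (X 0 0 - (X 1 1 + X 1 2)) * v1 - A 1 0 * Y 0 1 * -u2
    · apply mul_left_cancel₀ h; linear_combination Y 1 0 * u3 - X 1 0 * v3
    · apply mul_left_cancel₀ h
      linear_combination (Y 0 0 - (Y 1 1 + Y 1 2)) * u3 - (X 0 0 - (X 1 1 + X 1 2)) * v3
  refine ext_three ?_ ?_ ?_ ?_ ?_ ?_ ?_ ?_ ?_ <;>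
    rw [Matrix.mul_apply, Matrix.mul_apply, plane_sum_three, plane_sum_three] <;>
    simp only [x1, x2, x3, x4, y1, y2, y3, y4]
  · linear_combination 2 * k1
  · linear_combination -k2
  · linear_combination -k2
  · linear_combination k3
  · linear_combination -k1
  · linear_combination -k1
  · linear_combination k3
  · linear_combination -k1
  · linear_combination -k1

theorem centre_n3 (hw : IsPrimitiveRoot w 3) (h2 : (2 : F) ≠ 0) (h3 : (3 : F) ≠ 0)
    (A : Matrix I₃ I₃ F) (hdet : A.det = 1) (hN : MemN3 w A) (h0 : A * hom0 w = hom0 w * A)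
    (hF : A * Fm w = Fm w * A) (hJ : A * Jm w = Jm w * A) :
    ∃ c : F, A = c • 1 ∨ A = c • zm w := by
  obtain ⟨e1, e2, e3, e4⟩ := entries hw h3 (comm_zm_of_comm hF)
  have hw1 : w - 1 ≠ 0 := sub_ne_zero.2 (plane_w_ne_one hw)
  have k01 := congrFun (congrFun h0 0) 1
  have k10 := congrFun (congrFun h0 1) 0
  rw [hom0, Matrix.mul_diagonal, Matrix.diagonal_mul, if_pos rfl, if_neg (by decide)] at k01 k10
  have hq : A 0 1 = 0 := (mul_eq_zero.1 (show (w - 1) * A 0 1 = 0 by linear_combination -k01)).resolve_left hw1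
  have hr : A 1 0 = 0 := (mul_eq_zero.1 (show (w - 1) * A 1 0 = 0 by linear_combination k10)).resolve_left hw1
  rw [hq] at e1; rw [hr] at e2
  have hF01 := congrFun (congrFun hF 0) 1
  have hs := inv_ne_zero (sqrt_ne hw h3)
  simp only [Fm, Matrix.mul_apply, plane_sum_three, Matrix.smul_apply, Matrix.of_apply, smul_eq_mul,
    e1, e4, hq, zero_mul, ch_zero, mul_one, add_zero, mul_zero] at hF01
  have hp : A 0 0 = A 1 1 + A 1 2 := by
    apply mul_right_cancel₀ hs
    linear_combination hF01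
  have hp0 : A 0 0 ≠ 0 := by
    intro h
    have hz : A.det = 0 := Matrix.det_eq_zero_of_row_eq_zero 0 (forall_three h hq e1)
    exact one_ne_zero (hdet.symm.trans hz)
  obtain ⟨c, ⟨a, b⟩, he⟩ := hN (0, 1)
  have hem : ∀ i j : I₃, (A * em w (0, 1)) i j = A i j * ch w j := by
    intro i j
    rw [Matrix.mul_apply, Finset.sum_eq_single j]
    · rw [em_apply, if_pos (add_zero j).symm, one_mul]
    · intro k _ hk
      rw [em_apply, if_neg (by simpa using hk), mul_zero]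
    · simp
  have hem' : ∀ i j : I₃, (em w (a, b) * A) i j = ch w (b * (i - a)) * A (i - a) j := by
    intro i j
    rw [Matrix.mul_apply, Finset.sum_eq_single (i - a)]
    · rw [em_apply, if_pos (sub_add_cancel i a).symm]
    · intro k _ hk
      rw [em_apply, if_neg (fun h => hk (eq_sub_of_add_eq h.symm)), zero_mul]
    · simp
  have hent : ∀ i j : I₃, A i j * ch w j = c * (ch w (b * (i - a)) * A (i - a) j) := fun i j => by
    rw [← hem, he, Matrix.smul_apply, hem', smul_eq_mul]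
  have ha : a = 0 := by
    by_contra ha
    have h00 := hent 0 0
    have hz : A (0 - a) 0 = 0 := by
      clear h00 he hent hem'
      revert a
      refine forall_three ?_ ?_ ?_
      · exact fun h => absurd rfl h
      · exact fun _ => e2
      · exact fun _ => hr
    rw [hz, mul_zero, mul_zero, ch_zero, mul_one] at h00
    exact hp0 h00
  subst ha
  have h00 := hent 0 0
  rw [sub_zero, mul_zero, ch_zero, mul_one, one_mul] at h00
  have hc : c = 1 := mul_right_cancel₀ hp0 ((h00.symm.trans (one_mul _).symm))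
  have h11 := hent 1 1
  have h12 := hent 1 2
  rw [hc, sub_zero, one_mul, mul_one, ch_one] at h11
  rw [hc, sub_zero, one_mul, mul_one, plane_ch_two] at h12
  have hxy : A 1 1 = 0 ∨ A 1 2 = 0 := by
    refine mul_eq_zero.1 ((mul_eq_zero.1
      (show (w ^ 2 - w) * (A 1 1 * A 1 2) = 0 by linear_combination A 1 1 * h12 - A 1 2 * h11)).resolve_left
      (sub_ne_zero.2 (plane_w_sq_ne hw)))
  rcases hxy with h | h
  · refine ⟨-(A 1 2), Or.inr ?_⟩
    refine ext_three ?_ ?_ ?_ ?_ ?_ ?_ ?_ ?_ ?_ <;>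
      rw [Matrix.smul_apply, zm_apply hw h3, smul_eq_mul] <;>
      (try simp only [e1, e2, e3, e4, hq, hr, hp, h]) <;>
      simp [show (1 : I₃) + 1 ≠ 0 by decide, show (2 : I₃) + 2 ≠ 0 by decide,
        show (1 : I₃) + 2 = 0 by decide, show (2 : I₃) + 1 = 0 by decide,
        show (1 : I₃) ≠ 0 by decide, show (2 : I₃) ≠ 0 by decide]
  · refine ⟨A 1 1, Or.inl ?_⟩
    refine ext_three ?_ ?_ ?_ ?_ ?_ ?_ ?_ ?_ ?_ <;>
      rw [Matrix.smul_apply, smul_eq_mul] <;>
      (try simp only [e1, e2, e3, e4, hq, hr, hp, h]) <;>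
      simp [show (1 : I₃) ≠ 0 by decide, show (2 : I₃) ≠ 0 by decide, show (0 : I₃) ≠ 1 by decide,
        show (0 : I₃) ≠ 2 by decide, show (1 : I₃) ≠ 2 by decide, show (2 : I₃) ≠ 1 by decide]

end Cfsg.Agent.Lib.SLThree78.Extra22
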