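import Cfsg.Agent.Lib.SLThree78.ExtraSpec22
import Mathlib.GroupTheory.Transfer
import Mathlib.GroupTheory.Sylow

/-!
The transfer onto a group of order two for a group whose Sylow 2-subgroup has an abelian subgroup
of index two with one involution, and the position of the involutions.
-/

set_option autoImplicit false

namespace Cfsg.Agent.Lib.SLThree78.Extra22

universe u

section Transfer57

variable {G : Type u} [Group G] {E : Subgroup G} {i j z : G} {S : Sylow 2 G} {Y : Subgroup G}

theorem TwoData.z_mem57 (h : TwoData E i j z S Y) : z ∈ Y :=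
  h.data.i_sq ▸ Y.mul_mem h.iY h.iY

theorem TwoData.pair_comm57 (h : TwoData E i j z S Y) {v y : G} (hv : v = 1 ∨ v = z)
    (hy : y ∈ Y) : v * y = y * v := by
  rcases hv with rfl | rfl
  · simp
  · exact h.comm _ h.z_mem57 _ hy

theorem TwoData.conj_eq57 (h : TwoData E i j z S Y) {a y : G} (ha : a ∈ (S : Subgroup G))
    (haY : a ∉ Y) (hy : y ∈ Y) : a * y * a⁻¹ = j * y * j⁻¹ := by
  have h1 := h.coset a ha haY
  have h2 := h.norm j h.jS y hy
  calc a * y * a⁻¹ = (a * j⁻¹) * (j * y * j⁻¹) * (a * j⁻¹)⁻¹ := by group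
    _ = j * y * j⁻¹ := by rw [h.comm _ h1 _ h2, mul_inv_cancel_right]

theorem TwoData.sq_out57 (h : TwoData E i j z S Y) {s : G} (hs : s ∈ (S : Subgroup G))
    (hsY : s ∉ Y) : s * s = 1 ∨ s * s = z := by
  obtain ⟨y, hy, rfl⟩ : ∃ y ∈ Y, s = y * j := ⟨s * j⁻¹, h.coset s hs hsY, by group⟩
  have key : y * j * (y * j) = y * (j * y * j⁻¹) * z := by
    calc y * j * (y * j) = y * (j * y * j⁻¹) * (j * j) := by group
      _ = _ := by rw [h.data.j_sq]
  rw [key]
  rcases h.twist y hy with e | e <;> rw [e]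
  · exact Or.inr (one_mul z)
  · exact Or.inl h.data.z_sq

open scoped Classical in
/-- The square outside the abelian subgroup, and the twisted norm on it. -/
noncomputable def twoVal57 (j : G) (Y : Subgroup G) (s : G) : G :=
  if s ∈ Y then s * (j * s * j⁻¹) else s * s

theorem twoVal57_mem {y : G} (hy : y ∈ Y) : twoVal57 j Y y = y * (j * y * j⁻¹) := if_pos hy

theorem twoVal57_out {s : G} (hs : s ∉ Y) : twoVal57 j Y s = s * s := if_neg hs

theorem TwoData.val_pair57 (h : TwoData E i j z S Y) {s : G} (hs : s ∈ (S : Subgroup G)) :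
    twoVal57 j Y s = 1 ∨ twoVal57 j Y s = z := by
  by_cases hy : s ∈ Y
  · rw [twoVal57_mem hy]; exact h.twist s hy
  · rw [twoVal57_out hy]; exact h.sq_out57 hs hy

theorem TwoData.mul_mem57 (h : TwoData E i j z S Y) {a b : G} (ha : a ∈ (S : Subgroup G))
    (hb : b ∈ (S : Subgroup G)) (haY : a ∉ Y) (hbY : b ∉ Y) : a * b ∈ Y := by
  have e : a * b = (a * j⁻¹) * (j * (b * j⁻¹) * j⁻¹) * z := by
    rw [← h.data.j_sq]; group
  rw [e]
  exact Y.mul_mem (Y.mul_mem (h.coset a ha haY) (h.norm j h.jS _ (h.coset b hb hbY))) h.z_mem57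

theorem TwoData.val_mul57 (h : TwoData E i j z S Y) {a b : G} (ha : a ∈ (S : Subgroup G))
    (hb : b ∈ (S : Subgroup G)) :
    twoVal57 j Y (a * b) = twoVal57 j Y a * twoVal57 j Y b := by
  by_cases haY : a ∈ Y <;> by_cases hbY : b ∈ Y
  · rw [twoVal57_mem haY, twoVal57_mem hbY, twoVal57_mem (Y.mul_mem haY hbY)]
    have hc := h.comm _ hbY _ (h.norm j h.jS a haY)
    calc a * b * (j * (a * b) * j⁻¹) = a * (b * (j * a * j⁻¹)) * (j * b * j⁻¹) := by group
      _ = _ := by rw [hc]; group
  · have hab : a * b ∉ Y := fun hm => hbY ((Y.mul_mem_cancel_left haY).1 hm)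
    rw [twoVal57_mem haY, twoVal57_out hbY, twoVal57_out hab, ← h.conj_eq57 hb hbY haY]
    group
  · have hab : a * b ∉ Y := fun hm => haY ((Y.mul_mem_cancel_right hbY).1 hm)
    rw [twoVal57_out haY, twoVal57_mem hbY, twoVal57_out hab, ← h.conj_eq57 ha haY hbY]
    have hc := h.comm _ hbY _ (h.norm a ha b hbY)
    have hsq := h.pair_comm57 (h.sq_out57 ha haY) hbY
    calc a * b * (a * b) = (a * b * a⁻¹) * ((a * a) * b) := by group
      _ = (a * b * a⁻¹ * b) * (a * a) := by rw [hsq]; group
      _ = (b * (a * b * a⁻¹)) * (a * a) := by rw [← hc]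
      _ = (a * a) * (b * (a * b * a⁻¹)) :=
        (h.pair_comm57 (h.sq_out57 ha haY) (Y.mul_mem hbY (h.norm a ha b hbY))).symm
  · have habY : a * b ∈ Y := h.mul_mem57 ha hb haY hbY
    rw [twoVal57_out haY, twoVal57_out hbY, twoVal57_mem habY, ← h.conj_eq57 ha haY habY]
    rcases h.sq_out57 hb hbY with e | e
    · rw [e, mul_one]
      rcases h.sq_out57 ha haY with e' | e'
      · calc a * b * (a * (a * b) * a⁻¹) = a * b * ((a * a) * b) * a⁻¹ := by group
          _ = a * (b * b) * a⁻¹ := by rw [e']; group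
          _ = a * a := by rw [e, e']; group
      · calc a * b * (a * (a * b) * a⁻¹) = a * b * ((a * a) * b) * a⁻¹ := by group
          _ = a * (b * (z * b)) * a⁻¹ := by rw [e']; group
          _ = a * (z * (b * b)) * a⁻¹ := by rw [← mul_assoc b z b, h.central b hb, mul_assoc z b b]
          _ = a * a := by rw [e, e', mul_one, h.central a ha]; group
    · rw [e]
      rcases h.sq_out57 ha haY with e' | e'
      · calc a * b * (a * (a * b) * a⁻¹) = a * b * ((a * a) * b) * a⁻¹ := by group
          _ = a * (b * b) * a⁻¹ := by rw [e']; group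
          _ = a * a * z := by rw [e, e', h.central a ha]; group
      · calc a * b * (a * (a * b) * a⁻¹) = a * b * ((a * a) * b) * a⁻¹ := by group
          _ = a * ((b * z) * b) * a⁻¹ := by rw [e']; group
          _ = a * (z * (b * b)) * a⁻¹ := by rw [h.central b hb]; group
          _ = a * a * z := by rw [e, e', h.data.z_sq]; group

/-- The sign of the twisted norm. -/
theorem TwoData.exists_sign57 (h : TwoData E i j z S Y) :
    ∃ χ : ↥(S : Subgroup G) →* ℤˣ, ∀ s : ↥(S : Subgroup G),
      (twoVal57 j Y (s : G) = 1 → χ s = 1) ∧ (twoVal57 j Y (s : G) ≠ 1 → χ s = -1) := by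
  classical
  let f : ↥(S : Subgroup G) → ℤˣ := fun s => if twoVal57 j Y (s : G) = 1 then 1 else -1
  refine ⟨MonoidHom.mk' f fun a b => ?_, fun s => ⟨fun e => if_pos e, fun e => if_neg e⟩⟩
  have e := h.val_mul57 a.2 b.2
  rcases h.val_pair57 a.2 with ea | ea <;> rcases h.val_pair57 b.2 with eb | eb <;>
    simp [f, e, ea, eb, h.data.z_sq, h.data.z_ne]

theorem TwoData.conjugate_sign57 (h : TwoData E i j z S Y) (hnot : ∀ g : G, g * i * g⁻¹ ≠ j)
    {s g : G} (_hs : s ∈ (S : Subgroup G)) (he : s = g⁻¹ * j * g) : twoVal57 j Y s ≠ 1 := by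
  have hsq : s * s ≠ 1 := by
    intro hh
    apply h.data.z_ne
    have hjj : j * j = g * (s * s) * g⁻¹ := by rw [he]; group
    rw [← h.data.j_sq, hjj, hh]
    group
  by_cases hy : s ∈ Y
  · exfalso
    have h4 : s * s * (s * s) = 1 := by
      have : s * s * (s * s) = g⁻¹ * ((j * j) * (j * j)) * g := by rw [he]; group
      rw [this, h.data.j_sq, h.data.z_sq]
      group
    have hzz : s * s = z := (h.invol _ (Y.mul_mem hy hy) h4).resolve_left hsq
    have hzinv : z⁻¹ = z := inv_eq_of_mul_eq_one_right h.data.z_sq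
    have hq : s * i⁻¹ * (s * i⁻¹) = 1 := by
      have hc : i⁻¹ * s = s * i⁻¹ := h.comm _ (Y.inv_mem h.iY) _ hy
      calc s * i⁻¹ * (s * i⁻¹) = s * (i⁻¹ * s) * i⁻¹ := by group
        _ = (s * s) * (i * i)⁻¹ := by rw [hc]; group
        _ = 1 := by rw [hzz, h.data.i_sq, mul_inv_cancel]
    rcases h.invol _ (Y.mul_mem hy (Y.inv_mem h.iY)) hq with e | e
    · have hi : s = i := by rw [← one_mul i, ← e]; group
      apply hnot g
      rw [← hi, he]
      group
    · have hi : s = i⁻¹ := by
        calc s = (s * i⁻¹) * i := by group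
          _ = (i * i)⁻¹ * i := by rw [e, h.data.i_sq, hzinv]
          _ = i⁻¹ := by group
      apply hnot (g * j)
      calc g * j * i * (g * j)⁻¹ = g * (j * i * j⁻¹) * g⁻¹ := by group
        _ = j := by rw [h.data.conj_i, ← hi, he]; group
  · rw [twoVal57_out hy]; exact hsq

theorem TwoData.square_sign57 (h : TwoData E i j z S Y) {s : G} (hss : s * s = 1)
    (hs1 : s ≠ 1) : twoVal57 j Y s = 1 := by
  by_cases hy : s ∈ Y
  · obtain rfl := (h.invol s hy hss).resolve_left hs1
    rw [twoVal57_mem hy, h.central j h.jS]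
    simp [h.data.z_sq]
  · rw [twoVal57_out hy]; exact hss

open MulAction in
theorem transfer : TransferStmt.{u} := by
  intro G _ _ E i j z S Y h hnot _ _ _ _
  classical
  obtain ⟨χ, hχ⟩ := h.exists_sign57
  let V : G →* ℤˣ := χ.transfer
  let : Fintype (Quotient (orbitRel (Subgroup.zpowers j) (G ⧸ (S : Subgroup G)))) :=
    Fintype.ofFinite _
  have hj4 : j ^ 4 = 1 := by
    rw [show j ^ 4 = j ^ 2 * j ^ 2 from pow_add j 2 2, pow_two, h.data.j_sq, h.data.z_sq]
  have key : ∀ (c : G) (k : ℕ) (hm : c⁻¹ * j ^ k * c ∈ (S : Subgroup G)), k ∣ 2 ^ 2 →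
      χ ⟨_, hm⟩ = (-1 : ℤˣ) ^ k := by
    intro c k hm hdvd
    obtain ⟨l, hl, rfl⟩ := (Nat.dvd_prime_pow Nat.prime_two).1 hdvd
    interval_cases l
    · rw [(hχ _).2]
      · simp
      · exact h.conjugate_sign57 hnot hm (g := c) (by simp)
    · rw [(hχ _).1]
      · simp
      · have e2 : c⁻¹ * j ^ 2 ^ 1 * c = c⁻¹ * z * c := by
          rw [pow_one (2 : ℕ), pow_two, h.data.j_sq]
        refine h.square_sign57 ?_ ?_
        · show c⁻¹ * j ^ 2 ^ 1 * c * (c⁻¹ * j ^ 2 ^ 1 * c) = 1
          rw [e2]
          calc _ = c⁻¹ * (z * z) * c := by group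
            _ = 1 := by rw [h.data.z_sq]; group
        · show c⁻¹ * j ^ 2 ^ 1 * c ≠ 1
          rw [e2]
          intro hh
          apply h.data.z_ne
          calc z = c * (c⁻¹ * z * c) * c⁻¹ := by group
            _ = 1 := by rw [hh]; group
    · rw [(hχ _).1]
      · decide
      · have e4 : c⁻¹ * j ^ 2 ^ 2 * c = 1 := by
          rw [show (2 : ℕ) ^ 2 = 4 from rfl, hj4]; group
        show twoVal57 j Y (c⁻¹ * j ^ 2 ^ 2 * c) = 1
        rw [e4, twoVal57_mem Y.one_mem]
        group
  have hterm : ∀ q : Quotient (orbitRel (Subgroup.zpowers j) (G ⧸ (S : Subgroup G))),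
      χ ⟨q.out.out⁻¹ * j ^ Function.minimalPeriod (j • ·) q.out * q.out.out,
        QuotientGroup.out_conj_pow_minimalPeriod_mem (S : Subgroup G) j q.out⟩ =
      (-1 : ℤˣ) ^ Function.minimalPeriod (j • ·) q.out := fun q =>
    key _ _ _ (pow_smul_eq_iff_minimalPeriod_dvd.1 (by
      rw [show (2 : ℕ) ^ 2 = 4 from rfl, hj4, one_smul]))
  have hsum : ∑ q : Quotient (orbitRel (Subgroup.zpowers j) (G ⧸ (S : Subgroup G))),
      Function.minimalPeriod (j • ·) q.out = (S : Subgroup G).index := by
    rw [Subgroup.index_eq_card,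
      Nat.card_congr (Subgroup.quotientEquivSigmaZMod (S : Subgroup G) j), Nat.card_sigma]
    simp only [Nat.card_zmod]
  have hV : V j = -1 := by
    rw [show V = χ.transfer from rfl, MonoidHom.transfer_eq_prod_quotient_orbitRel_zpowers_quot,
      Finset.prod_congr rfl fun q _ => hterm q, Finset.prod_pow_eq_pow_sum, hsum]
    exact Odd.neg_one_pow (Nat.odd_iff.2 (Nat.two_dvd_ne_zero.1 S.not_dvd_index))
  refine ⟨V.ker, inferInstance, ?_, ?_⟩
  · have hsur : Function.Surjective V := fun x => by
      rcases Int.units_eq_one_or x with rfl | rfl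
      · exact ⟨1, map_one V⟩
      · exact ⟨j, hV⟩
    rw [Subgroup.index_ker, MonoidHom.range_eq_top_of_surjective V hsur, Subgroup.card_top,
      Nat.card_eq_fintype_card]
    rfl
  · rw [MonoidHom.mem_ker, hV]; decide

theorem invol : InvolStmt.{u} := by
  intro G _ _ E i j z S Y h T hT hT2 hu
  obtain ⟨u, huS, huT, huu, hu1, huz⟩ := hu
  have huY : u ∉ Y := fun hy => by
    rcases h.invol u hy huu with e | e
    · exact hu1 e
    · exact huz e
  have hsqT : ∀ a : G, a * a ∈ T := fun a => Subgroup.mul_self_mem_of_index_two hT2 a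
  have hS : ∀ x ∈ (S : Subgroup G), x * x = 1 → x ∈ T := by
    intro x hxS hxx
    by_cases hxY : x ∈ Y
    · rcases h.invol x hxY hxx with rfl | rfl
      · exact T.one_mem
      · rw [← h.data.i_sq]; exact hsqT i
    · have hw : x * u ∈ Y := h.mul_mem57 hxS huS hxY huY
      let eps : Y →* G := MonoidHom.mk' (fun y => twoVal57 j Y (y : G))
        fun a b => h.val_mul57 (h.le a.2) (h.le b.2)
      let sq : Y →* Y := MonoidHom.mk' (fun y => y * y) fun a b => by
        have hc : a * b = b * a := Subtype.ext (h.comm _ a.2 _ b.2)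
        calc a * b * (a * b) = a * (b * a) * b := by group
          _ = _ := by rw [← hc]; group
      have hle : sq.range ≤ eps.ker := by
        rintro _ ⟨y, rfl⟩
        rw [MonoidHom.mem_ker]
        show eps (y * y) = 1
        rw [map_mul]
        rcases h.val_pair57 (h.le y.2) with e | e
        · show twoVal57 j Y (y : G) * twoVal57 j Y (y : G) = 1
          rw [e, one_mul]
        · show twoVal57 j Y (y : G) * twoVal57 j Y (y : G) = 1
          rw [e, h.data.z_sq]
      have hker : Nat.card sq.ker ≤ 2 := by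
        classical
        have hinj : ∀ a b : sq.ker, ((a : Y) : G) ≠ 1 → ((b : Y) : G) ≠ 1 → a = b := by
          intro a b ha hb
          have hz : ∀ c : sq.ker, ((c : Y) : G) ≠ 1 → ((c : Y) : G) = z := fun c hc =>
            (h.invol _ (c : Y).2 (congrArg Subtype.val c.2)).resolve_left hc
          exact Subtype.ext (Subtype.ext ((hz a ha).trans (hz b hb).symm))
        calc Nat.card sq.ker ≤ Nat.card Bool := by
              refine Nat.card_le_card_of_injective
                (fun a => decide (((a : Y) : G) = 1)) fun a b hab => ?_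
              by_cases ha : ((a : Y) : G) = 1
              · have hb : ((b : Y) : G) = 1 := by simpa [ha] using hab.symm
                exact Subtype.ext (Subtype.ext (ha.trans hb.symm))
              · have hb : ((b : Y) : G) ≠ 1 := by simpa [ha] using hab.symm
                exact hinj a b ha hb
          _ = 2 := by simp
      have hne : eps.range ≠ ⊥ := by
        intro hbot
        have hy0 : u * j⁻¹ ∈ Y := h.coset u huS huY
        have e1 : twoVal57 j Y (u * j⁻¹) = 1 := by
          have hm : eps ⟨_, hy0⟩ ∈ eps.range := ⟨_, rfl⟩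
          rw [hbot, Subgroup.mem_bot] at hm
          exact hm
        have e2 := h.val_mul57 (h.le hy0) h.jS
        rw [inv_mul_cancel_right, e1, twoVal57_out huY, twoVal57_out h.jY, huu, h.data.j_sq,
          one_mul] at e2
        exact h.data.z_ne e2.symm
      have heq : sq.range = eps.ker := by
        refine Subgroup.eq_of_le_of_card_ge hle ?_
        have e1 := Subgroup.card_mul_index eps.ker
        have e2 := Subgroup.card_mul_index sq.ker
        rw [Subgroup.index_ker] at e1 e2
        have h2 : 2 ≤ Nat.card eps.range := (Subgroup.one_lt_card_iff_ne_bot _).2 hne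
        have h3 : Nat.card eps.ker * 2 ≤ Nat.card sq.range * 2 :=
          calc Nat.card eps.ker * 2 ≤ Nat.card eps.ker * Nat.card eps.range :=
                Nat.mul_le_mul_left _ h2
            _ = Nat.card sq.ker * Nat.card sq.range := e1.trans e2.symm
            _ ≤ 2 * Nat.card sq.range := Nat.mul_le_mul_right _ hker
            _ = _ := mul_comm _ _
        omega
      have hmem : (⟨x * u, hw⟩ : Y) ∈ eps.ker := by
        show twoVal57 j Y (x * u) = 1
        rw [h.val_mul57 hxS huS, twoVal57_out hxY, twoVal57_out huY, hxx, huu, one_mul]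
      rw [← heq] at hmem
      obtain ⟨y, hy⟩ := hmem
      have hxu : x * u ∈ T := by
        have e := congrArg Subtype.val hy
        rw [show x * u = (y : G) * (y : G) from e.symm]
        exact hsqT _
      exact (T.mul_mem_cancel_right huT).1 hxu
  intro x hxx
  have hP : IsPGroup 2 (Subgroup.zpowers x) := by
    intro a
    obtain ⟨n, hn⟩ := Subgroup.mem_zpowers_iff.1 a.2
    refine ⟨1, Subtype.ext ?_⟩
    rw [Subgroup.coe_pow, Subgroup.coe_one, pow_one, ← hn, pow_two]
    calc x ^ n * x ^ n = (x * x) ^ n := ((Commute.refl x).mul_zpow n).symm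
      _ = 1 := by rw [hxx, one_zpow]
  obtain ⟨P, hle⟩ := hP.exists_le_sylow
  obtain ⟨g, hg⟩ := MulAction.exists_smul_eq G P S
  have hmem : g * x * g⁻¹ ∈ (S : Subgroup G) := by
    rw [← hg, Sylow.coe_subgroup_smul]
    exact Subgroup.smul_mem_pointwise_smul x (MulAut.conj g) _ (hle (Subgroup.mem_zpowers x))
  have hc := hS _ hmem (by
    calc g * x * g⁻¹ * (g * x * g⁻¹) = g * (x * x) * g⁻¹ := by group
      _ = 1 := by rw [hxx]; group)
  have := hT.conj_mem _ hc g⁻¹
  simpa [mul_assoc] using this

end Transfer57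

end Cfsg.Agent.Lib.SLThree78.Extra22
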