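import Cfsg.Agent.Lib.SLThree78.ExtraSpec22
import Cfsg.Agent.S0071
import Mathlib.GroupTheory.Sylow
import Mathlib.GroupTheory.Nilpotent

/-!
The Sylow 2-subgroup of a group with the configuration `CCData`, and the non-conjugacy of the two
kinds of elements of order four.
-/

set_option autoImplicit false

namespace Cfsg.Agent.Lib.SLThree78.Extra22

universe u

namespace TwoBrick

variable {G : Type u} [Group G]

section Quaternion

variable {E : Subgroup G} {i j z : G} (d : CCData E i j z)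
include d

theorem zi : z * i = i * z := by rw [← d.i_sq, mul_assoc]

theorem zj : z * j = j * z := by rw [← d.j_sq, mul_assoc]

theorem i_inv : i⁻¹ = i * z := by
  rw [inv_eq_iff_mul_eq_one, ← mul_assoc, d.i_sq, d.z_sq]

theorem j_inv : j⁻¹ = j * z := by
  rw [inv_eq_iff_mul_eq_one, ← mul_assoc, d.j_sq, d.z_sq]

theorem iji : i * j * i = j := by
  have h : j * i = i⁻¹ * j := by
    have := congrArg (· * j) d.conj_i
    simpa [mul_assoc] using this
  calc i * j * i = i * (j * i) := mul_assoc _ _ _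
    _ = j := by rw [h, mul_inv_cancel_left]

theorem not_comm : i * j ≠ j * i := by
  intro h
  apply d.z_ne
  have h2 : j * i * j⁻¹ = i := by rw [← h, mul_inv_cancel_right]
  rw [d.conj_i] at h2
  calc z = i * i := d.i_sq.symm
    _ = i⁻¹ * i := by rw [h2]
    _ = 1 := inv_mul_cancel i

theorem conj_swap : i * j * i⁻¹ = j⁻¹ := by
  rw [i_inv d, j_inv d, ← mul_assoc, iji d]

theorem swap : CCData E j i z :=
  { d with
    iN := d.jN
    jN := d.iN
    i_sq := d.j_sq
    j_sq := d.i_sq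
    conj_i := conj_swap d
    centre := fun g h1 h2 => d.centre g h2 h1 }

theorem mul_left : CCData E (i * j) j z :=
  { d with
    iN := mul_mem d.iN d.jN
    i_sq := by rw [← mul_assoc, iji d, d.j_sq]
    conj_i := by
      rw [mul_inv_rev, j_inv d, i_inv d]
      calc j * (i * j) * (j * z) = j * i * (j * j) * z := by simp [mul_assoc]
        _ = j * i := by rw [d.j_sq, mul_assoc, d.z_sq, mul_one]
        _ = j * (i * (z * z)) := by rw [d.z_sq, mul_one]
        _ = j * z * (i * z) := by rw [mul_assoc j z, ← mul_assoc z i, zi d, mul_assoc i z]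
    centre := fun g h1 h2 => by
      refine d.centre g ?_ h2
      apply mul_right_cancel (b := j)
      rw [mul_assoc, h1, mul_assoc i g, h2, mul_assoc] }

end Quaternion

/-- The structure around a given abelian subgroup of index two. -/
theorem build {E : Subgroup G} {i j z : G} (d : CCData E i j z) (S : Sylow 2 G) (Y : Subgroup G)
    (hle : Y ≤ (S : Subgroup G)) (hi : i ∈ Y) (hjS : j ∈ (S : Subgroup G)) (hj : j ∉ Y)
    (hzS : ∀ s ∈ (S : Subgroup G), s * z = z * s)
    (hcoset : ∀ s ∈ (S : Subgroup G), ∀ s' ∈ (S : Subgroup G), s ∉ Y → s' ∉ Y → s * s'⁻¹ ∈ Y)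
    (hnorm : ∀ s ∈ (S : Subgroup G), ∀ y ∈ Y, s * y * s⁻¹ ∈ Y)
    (hcomm : ∀ x ∈ Y, ∀ y ∈ Y, x * y = y * x) : TwoData E i j z S Y := by
  have twist : ∀ y ∈ Y, y * (j * y * j⁻¹) = 1 ∨ y * (j * y * j⁻¹) = z := by
    intro y hy
    have hy' := hnorm j hjS y hy
    refine d.centre _ (hcomm _ (mul_mem hy hy') i hi) ?_
    have h2 : j * (j * y * j⁻¹) * j⁻¹ = y := by
      calc j * (j * y * j⁻¹) * j⁻¹ = (j * j) * y * (j * j)⁻¹ := by simp [mul_assoc]
        _ = y := by rw [d.j_sq, ← hzS y (hle hy), mul_inv_cancel_right]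
    have h3 : j * (y * (j * y * j⁻¹)) * j⁻¹ = y * (j * y * j⁻¹) := by
      calc j * (y * (j * y * j⁻¹)) * j⁻¹ = (j * y * j⁻¹) * (j * (j * y * j⁻¹) * j⁻¹) := by simp [mul_assoc]
        _ = y * (j * y * j⁻¹) := by rw [h2]; exact hcomm _ hy' _ hy
    exact (mul_inv_eq_iff_eq_mul.1 h3).symm
  refine ⟨d, hle, hi, hjS, hj, hzS, fun s hs hsY => hcoset s hs j hjS hsY hj, hnorm, hcomm, ?_, twist⟩
  intro u hu huu
  have hcon : j * u * j⁻¹ = u ∨ j * u * j⁻¹ = u * z := by
    have huinv : u⁻¹ = u := inv_eq_of_mul_eq_one_right huu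
    rcases twist u hu with h | h
    · exact Or.inl ((inv_eq_of_mul_eq_one_right h).symm.trans huinv)
    · refine Or.inr ?_
      calc j * u * j⁻¹ = u * (u * (j * u * j⁻¹)) := by rw [← mul_assoc, huu, one_mul]
        _ = u * z := by rw [h]
  rcases hcon with h | h
  · exact d.centre u (hcomm u hu i hi) (mul_inv_eq_iff_eq_mul.1 h).symm
  · have hui : u * i * i = i * (u * i) := by rw [hcomm u hu i hi, mul_assoc]; rw [hcomm u hu i hi]
    have huj : j * (u * i) * j⁻¹ = u * i := by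
      calc j * (u * i) * j⁻¹ = (j * u * j⁻¹) * (j * i * j⁻¹) := by simp [mul_assoc]
        _ = u * (z * (i * z)) := by rw [h, d.conj_i, i_inv d, mul_assoc]
        _ = u * i := by rw [← mul_assoc z, zi d, mul_assoc i, d.z_sq, mul_one]
    exfalso
    apply d.z_ne
    rcases d.centre (u * i) hui (mul_inv_eq_iff_eq_mul.1 huj).symm with h1 | h1
    · have : u = i⁻¹ := eq_inv_of_mul_eq_one_left h1
      rw [this, ← mul_inv_rev, inv_eq_one, d.i_sq] at huu
      exact huu
    · have : u = z * i⁻¹ := eq_mul_inv_of_mul_eq h1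
      rw [i_inv d, ← mul_assoc, zi d, mul_assoc, d.z_sq, mul_one] at this
      rw [this, d.i_sq] at huu
      exact huu

theorem exists_twoData [Finite G] (E : Subgroup G) (i j z : G) (d : CCData E i j z) :
    ∃ (i' j' : G) (S : Sylow 2 G) (Y : Subgroup G), TwoData E i' j' z S Y := by
  have : Fact (Nat.Prime 2) := ⟨Nat.prime_two⟩
  have four : ∀ x : G, x * x = z → x ^ 2 ^ 2 = 1 := fun x hx => by
    rw [show (2 : ℕ) ^ 2 = 2 * 2 from rfl, pow_mul, pow_two x, hx, pow_two, d.z_sq]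
  have pg : ∀ x : G, x * x = z → IsPGroup 2 ↥(Subgroup.zpowers x) := by
    intro x hx
    rintro ⟨w, k, rfl⟩
    refine ⟨2, Subtype.ext ?_⟩
    show (x ^ k) ^ 2 ^ 2 = 1
    rw [← zpow_natCast, ← zpow_mul, mul_comm, zpow_mul, zpow_natCast, four x hx, one_zpow]
  have hjN : j ∈ Subgroup.normalizer (Subgroup.zpowers i : Set G) := by
    rw [Subgroup.mem_normalizer_iff]
    intro h
    constructor
    · rintro ⟨k, rfl⟩
      exact ⟨-k, by simp only; rw [← conj_zpow, d.conj_i, inv_zpow']⟩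
    · rintro ⟨k, hk⟩
      refine ⟨-k, ?_⟩
      simp only at hk ⊢
      have h2 : j * i ^ (-k) * j⁻¹ = i ^ k := by
        rw [← conj_zpow, d.conj_i, inv_zpow', neg_neg]
      rw [hk] at h2
      exact mul_left_cancel (mul_right_cancel h2)
  obtain ⟨S, hS⟩ := (IsPGroup.to_sup_of_normal_left' (pg i d.i_sq) (pg j d.j_sq)
    (Subgroup.zpowers_le.2 hjN)).exists_le_sylow
  have hiS : i ∈ (S : Subgroup G) := hS (Subgroup.mem_sup_left (Subgroup.mem_zpowers i))
  have hjS : j ∈ (S : Subgroup G) := hS (Subgroup.mem_sup_right (Subgroup.mem_zpowers j))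
  have hzS' : z ∈ (S : Subgroup G) := d.i_sq ▸ mul_mem hiS hiS
  have hnt : Nontrivial ↥(S : Subgroup G) := ⟨⟨z, hzS'⟩, 1, fun h => d.z_ne (congrArg Subtype.val h)⟩
  have cen : ∀ c : ↥(S : Subgroup G), c ∈ Subgroup.center ↥(S : Subgroup G) → (c : G) = 1 ∨ (c : G) = z :=
    fun c hc => d.centre _
      (congrArg Subtype.val (Subgroup.mem_center_iff.1 hc ⟨i, hiS⟩)).symm
      (congrArg Subtype.val (Subgroup.mem_center_iff.1 hc ⟨j, hjS⟩)).symm
  have hcnt : Nontrivial ↥(Subgroup.center ↥(S : Subgroup G)) := S.isPGroup'.center_nontrivial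
  have hzS : ∀ s ∈ (S : Subgroup G), s * z = z * s := by
    intro s hs
    obtain ⟨⟨c, hc⟩, hne⟩ := exists_ne (1 : ↥(Subgroup.center ↥(S : Subgroup G)))
    rcases cen c hc with h | h
    · exact absurd (Subtype.ext (Subtype.ext h)) hne
    · have := congrArg Subtype.val (Subgroup.mem_center_iff.1 hc ⟨s, hs⟩)
      simpa only [Subgroup.coe_mul, h] using this
  -- an element of the second centre
  let q := QuotientGroup.mk' (Subgroup.center ↥(S : Subgroup G))
  have hqnt : Nontrivial (↥(S : Subgroup G) ⧸ Subgroup.center ↥(S : Subgroup G)) := by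
    refine ⟨q ⟨i, hiS⟩, 1, fun h => ?_⟩
    have hmem : (⟨i, hiS⟩ : ↥(S : Subgroup G)) ∈ Subgroup.center ↥(S : Subgroup G) :=
      (QuotientGroup.eq_one_iff _).1 h
    exact not_comm d (congrArg Subtype.val (Subgroup.mem_center_iff.1 hmem ⟨j, hjS⟩)).symm
  have : Nontrivial ↥(Subgroup.center (↥(S : Subgroup G) ⧸ Subgroup.center ↥(S : Subgroup G))) :=
    (S.isPGroup'.to_quotient _).center_nontrivial
  obtain ⟨⟨ab, hab⟩, habne⟩ :=
    exists_ne (1 : ↥(Subgroup.center (↥(S : Subgroup G) ⧸ Subgroup.center ↥(S : Subgroup G))))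
  obtain ⟨⟨a, haS⟩, rfl⟩ := QuotientGroup.mk'_surjective _ ab
  have ha_nc : (⟨a, haS⟩ : ↥(S : Subgroup G)) ∉ Subgroup.center ↥(S : Subgroup G) := fun h =>
    habne (Subtype.ext ((QuotientGroup.eq_one_iff _).2 h))
  have ha1 : a ≠ 1 := fun h => ha_nc (by
    rw [show (⟨a, haS⟩ : ↥(S : Subgroup G)) = 1 from Subtype.ext h]; exact one_mem _)
  have haz : a ≠ z := fun h => ha_nc (by
    rw [Subgroup.mem_center_iff]
    intro s
    exact Subtype.ext (by simpa [h] using hzS s s.2))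
  have comA : ∀ s ∈ (S : Subgroup G), s * a * s⁻¹ = a ∨ s * a * s⁻¹ = a * z := by
    intro s hs
    have h := Subgroup.mem_center_iff.1 hab (q ⟨s, hs⟩)
    have hmem : (⟨a, haS⟩ : ↥(S : Subgroup G))⁻¹ * (⟨s, hs⟩ * ⟨a, haS⟩ * ⟨s, hs⟩⁻¹) ∈
        Subgroup.center ↥(S : Subgroup G) := by
      rw [← QuotientGroup.eq_one_iff]
      change q _ = 1
      rw [map_mul, map_mul, map_mul, map_inv, map_inv, h, mul_inv_cancel_right, inv_mul_cancel]
    rcases cen _ hmem with h1 | h1
    · exact Or.inl (inv_mul_eq_one.1 h1).symm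
    · exact Or.inr (inv_mul_eq_iff_eq_mul.1 h1)
  let Y : Subgroup G := (S : Subgroup G) ⊓ Subgroup.centralizer ({a} : Set G)
  have memY : ∀ s ∈ (S : Subgroup G), (s ∈ Y ↔ s * a * s⁻¹ = a) := by
    intro s hs
    show s ∈ (S : Subgroup G) ∧ s ∈ Subgroup.centralizer ({a} : Set G) ↔ _
    rw [Subgroup.mem_centralizer_singleton_iff, mul_inv_eq_iff_eq_mul]
    exact ⟨fun h => h.2, fun h => ⟨hs, h⟩⟩
  have hcomm : ∀ x ∈ Y, ∀ y ∈ Y, x * y = y * x := fun x hx y hy =>
    d.abel a x y (hzS a haS) ha1 haz (mul_inv_eq_iff_eq_mul.1 ((memY x hx.1).1 hx))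
      (mul_inv_eq_iff_eq_mul.1 ((memY y hy.1).1 hy)) (hzS x hx.1) (hzS y hy.1)
  have outside : ∀ s ∈ (S : Subgroup G), s ∉ Y → s * a * s⁻¹ = a * z := fun s hs h =>
    (comA s hs).resolve_left fun h1 => h ((memY s hs).2 h1)
  have hcoset : ∀ s ∈ (S : Subgroup G), ∀ s' ∈ (S : Subgroup G), s ∉ Y → s' ∉ Y → s * s'⁻¹ ∈ Y := by
    intro s hs s' hs' hn hn'
    refine (memY _ (mul_mem hs (inv_mem hs'))).2 ?_
    have e' := outside s' hs' hn'
    have e2 : s'⁻¹ * a * s' = a * z := by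
      have hz2 : s' * z * s'⁻¹ = z := by rw [hzS s' hs', mul_inv_cancel_right]
      have h3 : s' * (a * z) * s'⁻¹ = a := by
        calc s' * (a * z) * s'⁻¹ = (s' * a * s'⁻¹) * (s' * z * s'⁻¹) := by simp [mul_assoc]
          _ = a := by rw [e', hz2, mul_assoc, d.z_sq, mul_one]
      calc s'⁻¹ * a * s' = s'⁻¹ * (s' * (a * z) * s'⁻¹) * s' := by rw [h3]
        _ = a * z := by simp [mul_assoc]
    calc (s * s'⁻¹) * a * (s * s'⁻¹)⁻¹ = s * (s'⁻¹ * a * s') * s⁻¹ := by simp [mul_assoc]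
      _ = (s * a * s⁻¹) * (s * z * s⁻¹) := by rw [e2]; simp [mul_assoc]
      _ = a := by rw [outside s hs hn, hzS s hs, mul_inv_cancel_right, mul_assoc, d.z_sq, mul_one]
  have hnorm : ∀ s ∈ (S : Subgroup G), ∀ y ∈ Y, s * y * s⁻¹ ∈ Y := by
    intro s hs y hy
    by_cases hsY : s ∈ Y
    · exact mul_mem (mul_mem hsY hy) (inv_mem hsY)
    · refine hcoset (s * y) (mul_mem hs hy.1) s hs (fun h => hsY ?_) hsY
      simpa using mul_mem h (inv_mem hy)
  have hzY : z ∈ Y := by
    refine (memY z hzS').2 ?_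
    rw [← hzS a haS, mul_inv_cancel_right]
  have hle : Y ≤ (S : Subgroup G) := inf_le_left
  by_cases hiY : i ∈ Y
  · exact ⟨i, j, S, Y, build d S Y hle hiY hjS (fun h => not_comm d (hcomm i hiY j h)) hzS hcoset hnorm hcomm⟩
  by_cases hjY : j ∈ Y
  · exact ⟨j, i, S, Y, build (swap d) S Y hle hjY hiS hiY hzS hcoset hnorm hcomm⟩
  refine ⟨i * j, j, S, Y, build (mul_left d) S Y hle ?_ hjS hjY hzS hcoset hnorm hcomm⟩
  have h := mul_mem (hcoset i hiS j hjS hiY hjY) hzY
  rwa [j_inv d, ← mul_assoc, mul_assoc, d.z_sq, mul_one] at h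

section NotConj

variable {E : Subgroup G} {i j z : G} {S : Sylow 2 G} {Y : Subgroup G} (t : TwoData E i j z S Y)
include t

theorem iS : i ∈ (S : Subgroup G) := t.le t.iY

theorem zY : z ∈ Y := t.data.i_sq ▸ mul_mem t.iY t.iY

/-- A square of an element outside `Y` is `1` or `z`. -/
theorem sq_outside {r : G} (hr : r ∈ (S : Subgroup G)) (hrY : r ∉ Y) : r * r = 1 ∨ r * r = z := by
  have hy := t.coset r hr hrY
  have e : r * r = r * j⁻¹ * (j * (r * j⁻¹) * j⁻¹) * (j * j) := by simp [mul_assoc]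
  rcases t.twist _ hy with h | h
  · right; rw [e, h, one_mul, t.data.j_sq]
  · left; rw [e, h, t.data.j_sq, t.data.z_sq]

/-- Elements of `Y` commuting with an element outside are central. -/
theorem inner_of_commute {r y : G} (hr : r ∈ (S : Subgroup G)) (hrY : r ∉ Y) (hy : y ∈ Y)
    (hc : y * r = r * y) : y = 1 ∨ y = z := by
  refine t.data.centre y (t.comm y hy i t.iY) ?_
  have hy0 := t.coset r hr hrY
  have e : r = (r * j⁻¹) * j := by simp
  rw [e, ← mul_assoc, t.comm y hy _ hy0, mul_assoc, mul_assoc (r * j⁻¹) j] at hc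
  exact mul_left_cancel hc

theorem four_in {y : G} (hy : y ∈ Y) (h : y * y = 1 ∨ y * y = z) :
    y = 1 ∨ y = z ∨ y = i ∨ y = i * z := by
  rcases h with h | h
  · rcases t.invol y hy h with h1 | h1
    · exact Or.inl h1
    · exact Or.inr (Or.inl h1)
  · have hm : y * i⁻¹ ∈ Y := mul_mem hy (inv_mem t.iY)
    have hsq : y * i⁻¹ * (y * i⁻¹) = 1 := by
      calc y * i⁻¹ * (y * i⁻¹) = y * (i⁻¹ * y) * i⁻¹ := by simp [mul_assoc]
        _ = y * y * (i * i)⁻¹ := by rw [t.comm _ (inv_mem t.iY) y hy]; simp [mul_assoc]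
        _ = 1 := by rw [h, t.data.i_sq, mul_inv_cancel]
    rcases t.invol _ hm hsq with h1 | h1
    · exact Or.inr (Or.inr (Or.inl (mul_inv_eq_one.1 h1)))
    · refine Or.inr (Or.inr (Or.inr ?_))
      rw [mul_inv_eq_iff_eq_mul.1 h1, zi t.data]

theorem eq_of_pow {g q : G} (hgz : g * z = z * g) (hq : q * z = z * q) {k : ℕ}
    (hk : Nat.Coprime (orderOf g) (2 * k)) (h : g ^ k * q * (g ^ k)⁻¹ = q ∨ g ^ k * q * (g ^ k)⁻¹ = q * z) :
    g * q = q * g := by
  have hkz : g ^ k * z = z * g ^ k := Commute.pow_left hgz k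
  have h2 : g ^ (2 * k) * q = q * g ^ (2 * k) := by
    rw [two_mul, pow_add]
    rcases h with h | h
    · have h' := mul_inv_eq_iff_eq_mul.1 h
      rw [mul_assoc, h', ← mul_assoc, h', mul_assoc]
    · have h' := mul_inv_eq_iff_eq_mul.1 h
      rw [mul_assoc, h', ← mul_assoc, ← mul_assoc, h']
      calc q * z * g ^ k * z * g ^ k = q * z * (g ^ k * z) * g ^ k := by simp [mul_assoc]
        _ = q * (z * z) * (g ^ k * g ^ k) := by rw [hkz]; simp [mul_assoc]
        _ = q * (g ^ k * g ^ k) := by rw [t.data.z_sq, mul_one]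
  obtain ⟨m, hm⟩ := exists_pow_eq_self_of_coprime hk.symm
  have h3 : (g ^ (2 * k)) ^ m * q = q * (g ^ (2 * k)) ^ m := Commute.pow_left h2 m
  rwa [hm] at h3

theorem inner_fixed [Finite G] {g : G} {Q : Subgroup G} (hgz : g * z = z * g)
    (hodd : Nat.Coprime (orderOf g) 2) (hQ : ∀ r ∈ Q, r ∈ Y → g * r * g⁻¹ ∈ Y) :
    ∀ r ∈ Q, r ∈ Y → g * r = r * g := by
  intro r
  induction hn : orderOf r using Nat.strong_induction_on generalizing r with
  | _ n ih =>
    intro hrQ hrY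
    by_cases h1 : r = 1
    · simp [h1]
    subst hn
    obtain ⟨m, hm⟩ := (S.isPGroup' ⟨r, t.le hrY⟩)
    have hpow : r ^ 2 ^ m = 1 := congrArg Subtype.val hm
    have hdvd : orderOf r ∣ 2 ^ m := orderOf_dvd_of_pow_eq_one hpow
    have hev : 2 ∣ orderOf r := by
      obtain ⟨e, -, he⟩ := (Nat.dvd_prime_pow Nat.prime_two).1 hdvd
      rcases e with _ | e
      · exact absurd (orderOf_eq_one_iff.1 (by simpa using he)) h1
      · rw [he, pow_succ]; exact dvd_mul_left 2 _
    have hlt : orderOf (r * r) < orderOf r := by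
      rw [← pow_two, orderOf_pow' r two_ne_zero, Nat.gcd_eq_right hev]
      exact Nat.div_lt_self (orderOf_pos r) one_lt_two
    have hsq := ih _ hlt (r * r) rfl (mul_mem hrQ hrQ) (mul_mem hrY hrY)
    set r' := g * r * g⁻¹ with hr'
    have hr'Y : r' ∈ Y := hQ r hrQ hrY
    have e : r' * r' = r * r := by
      calc r' * r' = g * (r * r) * g⁻¹ := by simp [hr', mul_assoc]
        _ = r * r := by rw [hsq, mul_inv_cancel_right]
    have hu : r⁻¹ * r' * (r⁻¹ * r') = 1 := by
      calc r⁻¹ * r' * (r⁻¹ * r') = r⁻¹ * (r' * r⁻¹) * r' := by simp [mul_assoc]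
        _ = (r * r)⁻¹ * (r' * r') := by rw [t.comm r' hr'Y _ (inv_mem hrY)]; simp [mul_assoc]
        _ = 1 := by rw [e, inv_mul_cancel]
    refine eq_of_pow t hgz (t.central r (t.le hrY)) (k := 1) (by simpa using hodd) ?_
    rw [pow_one]
    rcases t.invol _ (mul_mem (inv_mem hrY) hr'Y) hu with h | h
    · exact Or.inl (inv_mul_eq_one.1 h).symm
    · exact Or.inr (inv_mul_eq_iff_eq_mul.1 h)

theorem centralises [Finite G] (h3 : ∀ x : G, x ^ 3 = 1 → x * z = z * x → x = 1)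
    {Q : Subgroup G} (hQS : Q ≤ (S : Subgroup G)) {g : G} (hgQ : ∀ r ∈ Q, g * r * g⁻¹ ∈ Q)
    (hgz : g * z = z * g) (hodd : Nat.Coprime (orderOf g) 2) : ∀ r ∈ Q, g * r = r * g := by
  have hc3 : Nat.Coprime (orderOf g) 3 := by
    rw [Nat.coprime_comm, Nat.prime_three.coprime_iff_not_dvd]
    rintro ⟨m, hm⟩
    have hm0 : 0 < m := by
      rcases Nat.eq_zero_or_pos m with h | h
      · rw [h, mul_zero] at hm; exact absurd hm (orderOf_pos g).ne'
      · exact h
    have h1 : (g ^ m) ^ 3 = 1 := by rw [← pow_mul, mul_comm, ← hm, pow_orderOf_eq_one]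
    have h2 := orderOf_dvd_of_pow_eq_one (h3 _ h1 (Commute.pow_left hgz m))
    rw [hm] at h2
    have := Nat.le_of_dvd hm0 h2
    omega
  by_cases hP : ∃ r0 ∈ Q, r0 * r0 ≠ 1 ∧ r0 * r0 ≠ z
  · obtain ⟨r0, hr0, hn1, hn2⟩ := hP
    have inY : ∀ r ∈ (S : Subgroup G), r * r ≠ 1 → r * r ≠ z → r ∈ Y := fun r hr a b => by
      by_contra h
      rcases sq_outside t hr h with h' | h'
      · exact a h'
      · exact b h'
    have key : ∀ w ∈ Y, w * w ≠ 1 → w * w ≠ z → ∀ r ∈ (S : Subgroup G), r * w = w * r → r ∈ Y := by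
      intro w hw a b r hr hc
      by_contra h
      rcases inner_of_commute t hr h hw hc.symm with h' | h'
      · exact a (by rw [h', one_mul])
      · exact a (by rw [h', t.data.z_sq])
    have hr0Y := inY r0 (hQS hr0) hn1 hn2
    have hsq : g * r0 * g⁻¹ * (g * r0 * g⁻¹) = g * (r0 * r0) * g⁻¹ := by simp [mul_assoc]
    have a1 : g * r0 * g⁻¹ * (g * r0 * g⁻¹) ≠ 1 := by
      rw [hsq]; intro h; exact hn1 (conj_eq_one_iff.1 h)
    have a2 : g * r0 * g⁻¹ * (g * r0 * g⁻¹) ≠ z := by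
      rw [hsq]; intro h
      rw [mul_inv_eq_iff_eq_mul, ← hgz] at h
      exact hn2 (mul_left_cancel h)
    have hw := inY _ (hQS (hgQ r0 hr0)) a1 a2
    have hYinv : ∀ r ∈ Q, r ∈ Y → g * r * g⁻¹ ∈ Y := by
      intro r hr hrY
      refine key _ hw a1 a2 _ (hQS (hgQ r hr)) ?_
      calc g * r * g⁻¹ * (g * r0 * g⁻¹) = g * (r * r0) * g⁻¹ := by simp [mul_assoc]
        _ = g * (r0 * r) * g⁻¹ := by rw [t.comm r hrY r0 hr0Y]
        _ = g * r0 * g⁻¹ * (g * r * g⁻¹) := by simp [mul_assoc]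
    have fixed := inner_fixed t hgz hodd hYinv
    intro r hr
    by_cases hrY : r ∈ Y
    · exact fixed r hr hrY
    have hr'Y : g * r * g⁻¹ ∉ Y := by
      intro h
      have hfix := fixed _ (hgQ r hr) h
      apply hrY
      have : g * r * g⁻¹ = r := by
        have e1 : g * (g * r * g⁻¹) = g * (r) := by
          rw [hfix]; simp [mul_assoc]
        exact mul_left_cancel e1
      rwa [this] at h
    set y0 := g * r * g⁻¹ * r⁻¹ with hy0
    have hy0Q : y0 ∈ Q := mul_mem (hgQ r hr) (inv_mem hr)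
    have hy0Y : y0 ∈ Y := by
      have h := mul_mem (t.coset _ (hQS (hgQ r hr)) hr'Y) (inv_mem (t.coset r (hQS hr) hrY))
      simpa [hy0, mul_assoc] using h
    have hc : Commute g y0 := fixed y0 hy0Q hy0Y
    have hit : ∀ n : ℕ, g ^ n * r = y0 ^ n * r * g ^ n := by
      intro n
      induction n with
      | zero => simp
      | succ n ihn =>
        have e0 : g * r = y0 * r * g := by simp [hy0]
        calc g ^ (n + 1) * r = g ^ n * (g * r) := by rw [pow_succ, mul_assoc]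
          _ = (g ^ n * y0) * r * g := by rw [e0]; simp [mul_assoc]
          _ = y0 * (g ^ n * r) * g := by rw [(hc.pow_left n).eq]; simp [mul_assoc]
          _ = y0 ^ (n + 1) * r * g ^ (n + 1) := by rw [ihn, pow_succ' y0, pow_succ g]; simp [mul_assoc]
    have h1 := hit (orderOf g)
    rw [pow_orderOf_eq_one, one_mul, mul_one] at h1
    have hy1 : y0 ^ orderOf g = 1 := by simpa using h1.symm
    obtain ⟨m, hm⟩ := S.isPGroup' ⟨y0, t.le hy0Y⟩
    have hy2 : y0 ^ 2 ^ m = 1 := congrArg Subtype.val hm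
    have hy01 : y0 = 1 := by
      rw [← orderOf_eq_one_iff]
      exact Nat.eq_one_of_dvd_coprimes (hodd.pow_right m) (orderOf_dvd_of_pow_eq_one hy1)
        (orderOf_dvd_of_pow_eq_one hy2)
    rw [hy0, mul_inv_eq_one, mul_inv_eq_iff_eq_mul] at hy01
    exact hy01
  -- all squares are `1` or `z`
  push Not at hP
  have hsq : ∀ r ∈ Q, r * r = 1 ∨ r * r = z := fun r hr => by
    by_cases h : r * r = 1
    · exact Or.inl h
    · exact Or.inr (hP r hr h)
  classical
  let r₁ : G := if h : ∃ r ∈ Q, r ∉ Y then h.choose else 1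
  let same : G → G → Prop := fun a b => b = a ∨ b = a * z
  have cover : ∀ q ∈ Q, q ≠ 1 → q ≠ z →
      (q = i ∨ q = i * z) ∨ (q = r₁ ∨ q = r₁ * z) ∨ (q = i * r₁ ∨ q = i * r₁ * z) := by
    intro q hq hq1 hqz
    by_cases hqY : q ∈ Y
    · rcases four_in t hqY (hsq q hq) with h | h | h | h
      · exact absurd h hq1
      · exact absurd h hqz
      · exact Or.inl (Or.inl h)
      · exact Or.inl (Or.inr h)
    · have hex : ∃ r ∈ Q, r ∉ Y := ⟨q, hq, hqY⟩
      have hr₁ : r₁ ∈ Q ∧ r₁ ∉ Y := by simp only [r₁, dif_pos hex]; exact hex.choose_spec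
      have hy : q * r₁⁻¹ ∈ Y := by
        have h := mul_mem (t.coset q (hQS hq) hqY) (inv_mem (t.coset r₁ (hQS hr₁.1) hr₁.2))
        simpa [mul_assoc] using h
      rcases four_in t hy (hsq _ (mul_mem hq (inv_mem hr₁.1))) with h | h | h | h
      · exact Or.inr (Or.inl (Or.inl (mul_inv_eq_one.1 h)))
      · refine Or.inr (Or.inl (Or.inr ?_))
        rw [mul_inv_eq_iff_eq_mul.1 h, ← t.central r₁ (hQS hr₁.1)]
      · exact Or.inr (Or.inr (Or.inl (mul_inv_eq_iff_eq_mul.1 h)))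
      · refine Or.inr (Or.inr (Or.inr ?_))
        rw [mul_inv_eq_iff_eq_mul.1 h, mul_assoc i z, ← t.central r₁ (hQS hr₁.1), ← mul_assoc]
  intro q hq
  by_cases hq1 : q = 1
  · simp [hq1]
  by_cases hqz : q = z
  · rw [hqz, hgz]
  have hu : ∀ k : ℕ, g ^ k * q * (g ^ k)⁻¹ ∈ Q := by
    intro k
    induction k with
    | zero => simpa using hq
    | succ k ihk =>
      have h := hgQ _ ihk
      rw [pow_succ']
      simpa [mul_assoc] using h
  have hu1 : ∀ k : ℕ, g ^ k * q * (g ^ k)⁻¹ ≠ 1 := fun k h => hq1 (conj_eq_one_iff.1 h)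
  have huz : ∀ k : ℕ, g ^ k * q * (g ^ k)⁻¹ ≠ z := fun k h => by
    have hkz : g ^ k * z = z * g ^ k := Commute.pow_left hgz k
    rw [mul_inv_eq_iff_eq_mul, ← hkz] at h
    exact hqz (mul_left_cancel h)
  have hpair : ∀ (c a b : G), (a = c ∨ a = c * z) → (b = c ∨ b = c * z) → same a b := by
    intro c a b ha hb
    rcases ha with ha | ha <;> rcases hb with hb | hb
    · exact Or.inl (hb.trans ha.symm)
    · exact Or.inr (by rw [hb, ha])
    · exact Or.inr (by rw [hb, ha, mul_assoc, t.data.z_sq, mul_one])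
    · exact Or.inl (hb.trans ha.symm)
  let u : ℕ → G := fun k => g ^ k * q * (g ^ k)⁻¹
  let cls : Fin 4 → Fin 3 := fun k =>
    if (u k = i ∨ u k = i * z) then 0 else if (u k = r₁ ∨ u k = r₁ * z) then 1 else 2
  obtain ⟨a, b, hab, he⟩ := Fintype.exists_ne_map_eq_of_card_lt cls (by simp)
  have main : ∀ a b : Fin 4, (a : ℕ) < b → cls a = cls b → g * q = q * g := by
    intro a b hlt he
    have hs : same (u a) (u b) := by
      have ca := cover (u a) (hu a) (hu1 a) (huz a)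
      have cb := cover (u b) (hu b) (hu1 b) (huz b)
      simp only [cls] at he
      split_ifs at he with x1 x2 x3 x4 x5 x6 x7 x8
      all_goals first
        | exact hpair i _ _ ‹u a = i ∨ u a = i * z› ‹u b = i ∨ u b = i * z›
        | exact hpair r₁ _ _ ‹u a = r₁ ∨ u a = r₁ * z› ‹u b = r₁ ∨ u b = r₁ * z›
        | exact absurd he (by decide)
        | exact hpair (i * r₁) _ _ ((ca.resolve_left (by assumption)).resolve_left (by assumption))
            ((cb.resolve_left (by assumption)).resolve_left (by assumption))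
    obtain ⟨k, hk⟩ : ∃ k, (b : ℕ) = a + k := ⟨b - a, by omega⟩
    have hk0 : 1 ≤ k ∧ k ≤ 3 := by omega
    have hcop : Nat.Coprime (orderOf g) (2 * k) := by
      refine Nat.Coprime.mul_right hodd ?_
      obtain ⟨ha', hb'⟩ := hk0
      interval_cases k
      · exact Nat.coprime_one_right _
      · exact hodd
      · exact hc3
    have haz : g ^ (a : ℕ) * z = z * g ^ (a : ℕ) := Commute.pow_left hgz _
    refine eq_of_pow t hgz (t.central q (hQS hq)) hcop ?_
    have e : u b = g ^ (a : ℕ) * (g ^ k * q * (g ^ k)⁻¹) * (g ^ (a : ℕ))⁻¹ := by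
      simp only [u, hk, pow_add]
      simp [mul_assoc]
    rcases hs with h | h
    · left
      rw [e] at h
      exact mul_left_cancel (mul_right_cancel h)
    · right
      rw [e] at h
      have h' : g ^ (a : ℕ) * (g ^ k * q * (g ^ k)⁻¹) * (g ^ (a : ℕ))⁻¹ =
          g ^ (a : ℕ) * (q * z) * (g ^ (a : ℕ))⁻¹ := by
        rw [h]
        calc g ^ (a : ℕ) * q * (g ^ (a : ℕ))⁻¹ * z
            = g ^ (a : ℕ) * q * ((g ^ (a : ℕ))⁻¹ * z) := by simp [mul_assoc]
          _ = g ^ (a : ℕ) * q * (z * (g ^ (a : ℕ))⁻¹) := by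
              rw [(Commute.inv_left haz).eq]
          _ = g ^ (a : ℕ) * (q * z) * (g ^ (a : ℕ))⁻¹ := by simp [mul_assoc]
      exact mul_left_cancel (mul_right_cancel h')
  rcases lt_trichotomy (a : ℕ) b with h | h | h
  · exact main a b h he
  · exact absurd (Fin.ext h) hab
  · exact main b a h he.symm

theorem not_conj [Finite G] (h3 : ∀ x : G, x ^ 3 = 1 → x * z = z * x → x = 1) (g : G) :
    g * i * g⁻¹ ≠ j := by
  intro hg
  have : Fact (Nat.Prime 2) := ⟨Nat.prime_two⟩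
  have hgz : g * z = z * g := by
    have e : g * (i * i) * g⁻¹ = j * j := by rw [← hg]; simp [mul_assoc]
    rw [t.data.i_sq, t.data.j_sq, mul_inv_eq_iff_eq_mul] at e
    exact e
  let C : Subgroup G := Subgroup.centralizer ({z} : Set G)
  have hSC : (S : Subgroup G) ≤ C := fun s hs =>
    Subgroup.mem_centralizer_singleton_iff.2 (t.central s hs)
  let P : Sylow 2 ↥C := S.subtype hSC
  have hP : ∀ x : ↥C, x ∈ (P : Subgroup ↥C) ↔ (x : G) ∈ (S : Subgroup G) := fun x => Iff.rfl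
  obtain ⟨N, hN, hcompl⟩ := (Cfsg.Agent.S0071.result P).2 (by
    intro Q hQ c hc hco
    rw [Subgroup.mem_centralizer_iff]
    intro r hr
    have hmapS : Q.map C.subtype ≤ (S : Subgroup G) := by
      rintro x ⟨y, hy, rfl⟩
      exact (hP y).1 (hQ hy)
    have hnorm : ∀ x ∈ Q.map C.subtype, (c : G) * x * (c : G)⁻¹ ∈ Q.map C.subtype := by
      rintro x ⟨y, hy, rfl⟩
      exact ⟨c * y * c⁻¹, (Subgroup.mem_normalizer_iff.1 hc y).1 hy, rfl⟩
    refine Subtype.ext (centralises t h3 hmapS hnorm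
      (Subgroup.mem_centralizer_singleton_iff.1 c.2) ?_ _ ⟨r, hr, rfl⟩).symm
    rwa [Subgroup.orderOf_coe])
  obtain ⟨⟨n, s⟩, hns, -⟩ := hcompl.existsUnique ⟨g, Subgroup.mem_centralizer_singleton_iff.2 hgz⟩
  have hsS : ((s : ↥C) : G) ∈ (S : Subgroup G) := (hP _).1 s.2
  have hval : ((n : ↥C) : G) * ((s : ↥C) : G) = g := congrArg Subtype.val hns
  let y : ↥C := ⟨((s : ↥C) : G) * i * ((s : ↥C) : G)⁻¹,
    hSC (mul_mem (mul_mem hsS (iS t)) (inv_mem hsS))⟩
  have hyY : (y : G) ∈ Y := t.norm _ hsS i t.iY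
  have hconj : ((n : ↥C) : G) * (y : G) * ((n : ↥C) : G)⁻¹ = j := by
    rw [← hg, ← hval]; simp [y, mul_assoc]
  let w : ↥C := (n : ↥C) * y * (n : ↥C)⁻¹ * y⁻¹
  have hwN : w ∈ N := by
    have h := mul_mem n.2 (hN.conj_mem _ (inv_mem n.2) y)
    simpa [w, mul_assoc] using h
  have hwP : w ∈ (P : Subgroup ↥C) := (hP _).2 (by
    show ((n : ↥C) : G) * (y : G) * ((n : ↥C) : G)⁻¹ * (y : G)⁻¹ ∈ _
    rw [hconj]
    exact mul_mem t.jS (inv_mem (t.le hyY)))
  have hw1 : w = 1 := by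
    have hd := hcompl.disjoint
    rw [Subgroup.disjoint_def] at hd
    exact hd hwN hwP
  have : j = (y : G) := by
    have h := congrArg Subtype.val hw1
    change ((n : ↥C) : G) * (y : G) * ((n : ↥C) : G)⁻¹ * (y : G)⁻¹ = 1 at h
    rwa [hconj, mul_inv_eq_one] at h
  exact t.jY (this ▸ hyY)

end NotConj

end TwoBrick

/-- Existence of the structure of a Sylow 2-subgroup. -/
theorem twoExists : TwoExistsStmt.{u} :=
  fun _ _ _ E i j z d => TwoBrick.exists_twoData E i j z d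

/-- The two kinds of elements of order four are not conjugate. -/
theorem notConj : NotConjStmt.{u} :=
  fun _ _ _ _ _ _ _ _ _ t h3 g => TwoBrick.not_conj t h3 g

end Cfsg.Agent.Lib.SLThree78.Extra22
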