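import Cfsg.Agent.Lib.SLThree78.ExtraMatrix22
import Cfsg.Agent.Lib.SLThree78.ExtraPlane22
import Cfsg.Agent.Lib.SLThree78.ExtraFive22
import Cfsg.Agent.Lib.SLThree78.ExtraCore22
import Cfsg.Agent.Lib.SLThree78.ExtraTwo22
import Cfsg.Agent.Lib.SLThree78.ExtraTransfer22
import Cfsg.Agent.Lib.SLThree78.ExtraAlt22

/-!
The projective image of an overgroup of the standard normaliser in `SL₃(p)` satisfies the abstract
conditions, so the overgroup is the normaliser or everything.
-/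

set_option autoImplicit false
set_option linter.unusedSectionVars false
set_option linter.style.haveILetI false

namespace Cfsg.Agent.Lib.SLThree78.Extra22

open Matrix
open Cfsg.Agent.Lib.ExtraNine17 hiding three_cases

universe u

variable {F : Type u} [Field F] {w : F}

theorem cube_of_smul_eq {A B : Matrix I₃ I₃ F} {c : F} (hA : A.det = 1) (hB : B.det = 1)
    (h : A = c • B) : c ^ 3 = 1 := by
  have h1 := congrArg Matrix.det h
  rwa [hA, det_smul, hB, mul_one, show Fintype.card I₃ = 3 from ZMod.card 3, eq_comm] at h1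

theorem det_of_std {g : GL I₃ F} (hg : g ∈ Cfsg.Geo.specialLinear I₃ F) :
    (g : Matrix I₃ I₃ F).det = 1 := by
  rw [← Matrix.GeneralLinearGroup.val_det_apply]
  exact Units.val_eq_one.2 hg

theorem exists_ch_of_cube (hw : IsPrimitiveRoot w 3) {c : F} (h : c ^ 3 = 1) : ∃ a : ZMod 3, c = ch w a := by
  obtain ⟨k, hk, rfl⟩ := hw.eq_pow_of_pow_eq_one h
  exact ⟨(k : ZMod 3), by rw [ch, ZMod.val_natCast, Nat.mod_eq_of_lt hk]⟩

theorem em_Z_apply (i k : I₃) : em w (0, 1) i k = if i = k then ch w k else 0 := by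
  simp [em_apply]

theorem off_of_comm_Z (hw : IsPrimitiveRoot w 3) {d : Matrix I₃ I₃ F}
    (h : d * em w (0, 1) = em w (0, 1) * d) (i k : I₃) (hik : i ≠ k) : d i k = 0 := by
  have e := congrFun (congrFun h i) k
  rw [Matrix.mul_apply, Matrix.mul_apply, Finset.sum_eq_single k, Finset.sum_eq_single i] at e
  · rw [em_Z_apply, em_Z_apply, if_pos rfl, if_pos rfl] at e
    by_contra hne
    have : ch w k = ch w i := mul_left_cancel₀ hne (e.trans (mul_comm _ _))
    exact hik (ZMod.val_injective 3 (hw.pow_inj (ZMod.val_lt _) (ZMod.val_lt _) this)).symm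
  · intro b _ hb
    rw [em_Z_apply, if_neg (Ne.symm hb), zero_mul]
  · intro hh; exact absurd (Finset.mem_univ _) hh
  · intro b _ hb
    rw [em_Z_apply, if_neg hb, mul_zero]
  · intro hh; exact absurd (Finset.mem_univ _) hh

theorem comm_hom0_of_off' {d : Matrix I₃ I₃ F} (h : ∀ i k, i ≠ k → d i k = 0) :
    d * hom0 w = hom0 w * d := by
  ext i k
  rw [hom0, mul_diagonal, diagonal_mul]
  by_cases hik : i = k
  · subst hik; exact mul_comm _ _
  · rw [h i k hik, zero_mul, mul_zero]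

theorem diag_form (hw : IsPrimitiveRoot w 3) (hB : ∀ ζ : F, ζ ^ 3 ≠ w) {d : Matrix I₃ I₃ F}
    (hoff : ∀ i k, i ≠ k → d i k = 0) (hdet : d.det = 1) (hN : MemN3 w d) :
    ∃ (x : F) (m : ZMod 3), d = x • em w (0, m) := by
  have hd : d = diagonal fun k => d k k := by
    ext i k
    by_cases h : i = k
    · subst h; simp
    · simp [h, hoff i k h]
  have hprod : d 0 0 * d 1 1 * d 2 2 = 1 := by
    rw [hd, det_diagonal, show ∏ k : I₃, d k k = d 0 0 * d 1 1 * d 2 2 from Fin.prod_univ_three _] at hdet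
    exact hdet
  obtain ⟨c, ⟨a, b⟩, he⟩ := hN (1, 0)
  have hent : ∀ k : I₃, d (k + 1) (k + 1) = c * ((if k + 1 = k + a then ch w (b * k) else 0) * d k k) := by
    intro k
    have e := congrFun (congrFun he (k + 1)) k
    rw [Matrix.mul_apply, Finset.sum_eq_single (k + 1), Matrix.smul_apply, Matrix.mul_apply,
      Finset.sum_eq_single k, smul_eq_mul, em_apply, em_apply, if_pos rfl, zero_mul, ch_zero, mul_one] at e
    · exact e
    · intro l _ hl; rw [hoff l k hl, mul_zero]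
    · intro h; exact absurd (Finset.mem_univ _) h
    · intro l _ hl; rw [hoff _ l (Ne.symm hl), zero_mul]
    · intro h; exact absurd (Finset.mem_univ _) h
  have h0 : d 0 0 ≠ 0 := fun h => by rw [h, zero_mul, zero_mul] at hprod; exact zero_ne_one hprod
  have h1n : d 1 1 ≠ 0 := fun h => by rw [h, mul_zero, zero_mul] at hprod; exact zero_ne_one hprod
  have ha : (1 : ZMod 3) = a := by
    by_contra h
    have := hent 0
    rw [zero_add, zero_add, if_neg h, zero_mul, mul_zero] at this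
    exact h1n this
  subst ha
  have e0 := hent 0
  have e1 := hent 1
  have e2 := hent 2
  simp only [if_true, zero_add, mul_zero, ch_zero, one_mul, mul_one,
    show (1 : ZMod 3) + 1 = 2 from rfl, show (2 : ZMod 3) + 1 = 0 from rfl] at e0 e1 e2
  have hbb : ch w (b * 2) = ch w b * ch w b := by rw [← ch_add hw]; congr 1; ring
  have hb3 : ch w b * ch w b * ch w b = 1 := by
    rw [← ch_add hw, ← ch_add hw, (show ∀ b : ZMod 3, b + b + b = 0 by decide) b, ch_zero]
  rw [hbb] at e2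
  rw [e0] at e1
  rw [e1] at e2
  have hc3 : c ^ 3 = 1 := mul_left_cancel₀ h0 (by
    linear_combination (-1 : F) * e2 - c ^ 3 * d 0 0 * hb3)
  have hx : d 0 0 ^ 3 * ch w b = 1 := by
    rw [e1, e0] at hprod
    linear_combination hprod - d 0 0 ^ 3 * ch w b * hc3
  have hb0 : b = 0 := by
    rcases i3_cases b with h | h | h
    · exact h
    · exfalso
      rw [h, ch_one] at hx
      refine hB (d 0 0)⁻¹ ?_
      rw [inv_pow]
      exact inv_eq_of_mul_eq_one_right hx
    · exfalso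
      rw [h, ch_two'] at hx
      exact hB (d 0 0) (by linear_combination w * hx - d 0 0 ^ 3 * w_cube hw)
  subst hb0
  obtain ⟨m, hm⟩ := exists_ch_of_cube hw hc3
  refine ⟨d 0 0, m, ?_⟩
  have hmm : ch w (m * 2) = ch w m * ch w m := by rw [← ch_add hw]; congr 1; ring
  rw [ch_zero, one_mul] at e1
  ext i k
  by_cases h : i = k
  · subst h
    rw [Matrix.smul_apply, em_apply, if_pos (by simp), smul_eq_mul]
    rcases i3_cases i with rfl | rfl | rfl
    · rw [mul_zero, ch_zero, mul_one]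
    · rw [mul_one, e0, hm, mul_comm]
    · rw [hmm, e1, hm]; ring
  · rw [Matrix.smul_apply, em_apply, if_neg (by simpa using h), hoff i k h, smul_zero]

section Over

variable [Fintype F] {p : ℕ} {M : Subgroup (GL I₃ F)}

/-- The data of a proper overgroup. -/
structure Over22 (w : F) (p : ℕ) (M : Subgroup (GL I₃ F)) : Prop where
  prim : IsPrimitiveRoot w 3
  prime : p.Prime
  card : Fintype.card F = p
  seven : 7 ≤ p
  two : (2 : F) ≠ 0
  three : (3 : F) ≠ 0
  five : (5 : F) ≠ 0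
  le : M ≤ Cfsg.Geo.specialLinear I₃ F
  std : stdSet w ⊆ M
  proper : M ≠ Cfsg.Geo.specialLinear I₃ F
  noRoot : ∀ ζ : F, ζ ^ 3 ≠ w

namespace Over22

theorem stable (O : Over22 w p M) {g : GL I₃ F} (hg : g ∈ M)
    (h : (g : Matrix I₃ I₃ F) * hom0 w = hom0 w * g) : MemN3 w (g : Matrix I₃ I₃ F) := by
  have hc : h0u O.prim * g * (h0u O.prim)⁻¹ = g := by
    rw [mul_inv_eq_iff_eq_mul]
    refine Units.ext ?_
    rw [Units.val_mul, Units.val_mul, h0u_coe, h]
  exact memN3_of_stable O.prim p O.prime O.card O.seven O.three O.le O.std O.proper hg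
    (by rw [hc]; exact hg) (by rw [hc, hc]; exact hg)

theorem cc_Z (O : Over22 w p M) {g : GL I₃ F} (hg : g ∈ M) {c : F}
    (h : (g : Matrix I₃ I₃ F) * em w (0, 1) = c • (em w (0, 1) * g)) :
    ∃ (c' : F) (e : ZMod 3 × ZMod 3), (g : Matrix I₃ I₃ F) = c' • em w e := by
  have hw := O.prim
  have hdg := det_of_std (O.le hg)
  have hc3 : c ^ 3 = 1 := cube_of_smul_eq (by rw [det_mul, hdg, det_em hw, one_mul])
    (by rw [det_mul, hdg, det_em hw, one_mul]) h
  obtain ⟨a, rfl⟩ := exists_ch_of_cube hw hc3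
  have hu : eu hw (a, 0) * g ∈ M := mul_mem (O.std (stdSet_eu hw _)) hg
  have hd : ((eu hw (a, 0) * g : GL I₃ F) : Matrix I₃ I₃ F) = em w (a, 0) * g := rfl
  have hcomm : em w (a, 0) * (g : Matrix I₃ I₃ F) * em w (0, 1) = em w (0, 1) * (em w (a, 0) * g) := by
    rw [Matrix.mul_assoc, h, Matrix.mul_smul, ← Matrix.mul_assoc, ← Matrix.mul_assoc, em_mul hw,
      em_mul hw, Matrix.smul_mul, Matrix.smul_mul, smul_smul]
    simp [ch_zero]
  have hoff := off_of_comm_Z hw hcomm
  have hN := O.stable hu (hd ▸ comm_hom0_of_off' hoff)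
  obtain ⟨x, m, hxm⟩ := diag_form hw O.noRoot hoff
    (by rw [det_mul, det_em hw, hdg, one_mul]) (hd ▸ hN)
  refine ⟨x, (-a, m), ?_⟩
  calc (g : Matrix I₃ I₃ F) = em w (-a, 0) * (em w (a, 0) * g) := by
        rw [← Matrix.mul_assoc, em_mul hw]; simp [ch_zero, show em w ((0 : ZMod 3), (0 : ZMod 3)) = 1 from em_zero]
    _ = x • em w (-a, m) := by rw [hxm, Matrix.mul_smul, em_mul hw]; simp [ch_zero]

theorem reach (O : Over22 w p M) (e : ZMod 3 × ZMod 3) (he : e ≠ 0) :
    ∃ q ∈ stdSet w, ∃ r : F, ((q : GL I₃ F) : Matrix I₃ I₃ F) * em w (0, 1) = r • (em w e * q) := by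
  have hw := O.prim
  let R : ZMod 3 × ZMod 3 → Prop := fun e =>
    ∃ q ∈ stdSet w, ∃ r : F, ((q : GL I₃ F) : Matrix I₃ I₃ F) * em w (0, 1) = r • (em w e * q)
  have h1 : R (0, 1) := ⟨1, ⟨by simp, by rw [Units.val_one]; exact memN3_one⟩, 1, by simp⟩
  have hF : ∀ e e' : ZMod 3 × ZMod 3, ∀ d : F, fm w * em w e = d • (em w e' * fm w) → R e → R e' := by
    rintro e e' d hd ⟨q, hq, r, hr⟩
    refine ⟨fu hw O.three * q, stdSet_mul (stdSet_fu hw O.three) hq, r * d, ?_⟩
    rw [Units.val_mul, fu_coe, Matrix.mul_assoc, hr, Matrix.mul_smul, ← Matrix.mul_assoc, hd,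
      Matrix.smul_mul, smul_smul, Matrix.mul_assoc]
  have hH : ∀ e e' : ZMod 3 × ZMod 3, ∀ d : F, hom0 w * em w e = d • (em w e' * hom0 w) → R e → R e' := by
    rintro e e' d hd ⟨q, hq, r, hr⟩
    refine ⟨h0u hw * q * (h0u hw)⁻¹, stdSet_conj hq (memN3_hom0 hw), r * d, ?_⟩
    have hZ : (((h0u hw)⁻¹ : GL I₃ F) : Matrix I₃ I₃ F) * em w (0, 1) =
        em w (0, 1) * (((h0u hw)⁻¹ : GL I₃ F) : Matrix I₃ I₃ F) := by
      have hcu : Commute (h0u hw : Matrix I₃ I₃ F) (em w (0, 1)) := hom0_em_Z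
      exact hcu.units_inv_left.eq
    rw [Units.val_mul, Units.val_mul, Matrix.mul_assoc, hZ, ← Matrix.mul_assoc,
      Matrix.mul_assoc ((h0u hw : GL I₃ F) : Matrix I₃ I₃ F) _ (em w (0, 1)), hr, Matrix.mul_smul,
      ← Matrix.mul_assoc, h0u_coe, hd]
    simp only [Matrix.smul_mul, smul_smul, Matrix.mul_assoc]
  have hsq : ∀ e e' : ZMod 3 × ZMod 3, ∀ u : Matrix I₃ I₃ F, ∀ d : F,
      u * em w e = d • (em w e' * u) → e.2 * e.1 = 0 →
      u * em w (e + e) = (d * d * ch w (e'.2 * e'.1)) • (em w (e' + e') * u) := by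
    intro e e' u d hd h0
    have he2 : em w (e + e) = em w e * em w e := by rw [em_mul hw, h0, ch_zero, one_smul]
    rw [he2, ← Matrix.mul_assoc, hd, Matrix.smul_mul, Matrix.mul_assoc, hd, Matrix.mul_smul,
      ← Matrix.mul_assoc, em_mul hw, Matrix.smul_mul, smul_smul, smul_smul, mul_assoc]
  have fX : fm w * em w (1, 0) = (1 : F) • (em w (0, 1) * fm w) := by rw [one_smul]; exact fm_em_X hw
  have fZ : fm w * em w (0, 1) = (1 : F) • (em w (2, 0) * fm w) := by rw [one_smul]; exact fm_em_Z hw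
  have fX2 := hsq _ _ _ _ fX (by simp)
  have fZ2 := hsq _ _ _ _ fZ (by simp)
  have hX2 := hsq _ _ _ _ (hom0_em_X hw) (by simp)
  have r20 : R (2, 0) := hF _ _ _ fZ h1
  have r02 : R (0, 2) := hF _ _ _ fX2 r20
  have r10 : R (1, 0) := hF _ _ _ fZ2 r02
  have r11 : R (1, 1) := hH _ _ _ (hom0_em_X hw) r10
  have r22 : R (2, 2) := hH _ _ _ hX2 r20
  have h11 : hom0 w * em w (1, 1) = w ^ 2 • (em w (1, 2) * hom0 w) := by
    have hm : em w (1, 1) = em w (1, 0) * em w (0, 1) := by rw [em_mul hw]; simp [ch_zero]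
    rw [hm, ← Matrix.mul_assoc, hom0_em_X hw, Matrix.smul_mul, Matrix.mul_assoc, hom0_em_Z,
      ← Matrix.mul_assoc, em_mul hw]
    simp [ch_zero, show (1 : ZMod 3) + 1 = 2 from rfl]
  have hh : ∃ d : F, hom0 w * em w (2, 2) = d • (em w (2, 1) * hom0 w) := by
    have hz2 : hom0 w * em w (0, 2) = em w (0, 2) * hom0 w := by
      have hm : em w (0, 2) = em w (0, 1) * em w (0, 1) := by
        rw [em_mul hw, show ((0, 1) : ZMod 3 × ZMod 3).2 * ((0, 1) : ZMod 3 × ZMod 3).1 = 0 from rfl,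
          ch_zero, one_smul]
        rfl
      rw [hm, ← Matrix.mul_assoc, hom0_em_Z, Matrix.mul_assoc, hom0_em_Z, Matrix.mul_assoc]
    have hm : em w (2, 2) = em w (2, 0) * em w (0, 2) := by rw [em_mul hw]; simp [ch_zero]
    obtain ⟨d, hd⟩ : ∃ d : F, hom0 w * em w (2, 0) = d • (em w (2, 2) * hom0 w) := ⟨_, hX2⟩
    refine ⟨d * ch w ((2 : ZMod 3) * 0), ?_⟩
    rw [hm, ← Matrix.mul_assoc, hd, Matrix.smul_mul, Matrix.mul_assoc, hz2, ← Matrix.mul_assoc,
      em_mul hw, Matrix.smul_mul, smul_smul]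
    rfl
  have hall : ∀ e : ZMod 3 × ZMod 3, e ≠ 0 → e = (0, 1) ∨ e = (2, 0) ∨ e = (0, 2) ∨ e = (1, 0) ∨
      e = (1, 1) ∨ e = (1, 2) ∨ e = (2, 2) ∨ e = (2, 1) := by decide
  rcases hall e he with rfl | rfl | rfl | rfl | rfl | rfl | rfl | rfl
  exacts [h1, r20, r02, r10, r11, hH _ _ _ h11 r11, r22, hh.elim fun d hd => hH _ _ d hd r22]

theorem cc (O : Over22 w p M) {g : GL I₃ F} (hg : g ∈ M) {e : ZMod 3 × ZMod 3} (he : e ≠ 0) {c : F}
    (h : (g : Matrix I₃ I₃ F) * em w e = c • (em w e * g)) :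
    ∃ (c' : F) (f : ZMod 3 × ZMod 3), (g : Matrix I₃ I₃ F) = c' • em w f := by
  have hw := O.prim
  obtain ⟨q, hq, r, hr⟩ := O.reach e he
  let qm : Matrix I₃ I₃ F := q
  let qi : Matrix I₃ I₃ F := ((q⁻¹ : GL I₃ F) : Matrix I₃ I₃ F)
  have hqiq : qi * qm = 1 := Units.inv_mul q
  have hqqi : qm * qi = 1 := Units.mul_inv q
  have hr' : em w (0, 1) * qi = r • (qi * em w e) := by
    calc em w (0, 1) * qi = qi * (qm * em w (0, 1)) * qi := by
          rw [← Matrix.mul_assoc qi, hqiq, Matrix.one_mul]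
      _ = r • (qi * em w e * (qm * qi)) := by
          rw [show qm * em w (0, 1) = _ from hr, Matrix.mul_smul, Matrix.smul_mul]
          simp only [Matrix.mul_assoc, qm]
      _ = r • (qi * em w e) := by rw [hqqi, Matrix.mul_one]
  have hkey : ((q⁻¹ * g * q : GL I₃ F) : Matrix I₃ I₃ F) * em w (0, 1) =
      c • (em w (0, 1) * ((q⁻¹ * g * q : GL I₃ F) : Matrix I₃ I₃ F)) := by
    rw [Units.val_mul, Units.val_mul]
    calc qi * (g : Matrix I₃ I₃ F) * qm * em w (0, 1)
        = r • (qi * ((g : Matrix I₃ I₃ F) * em w e) * qm) := by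
          rw [Matrix.mul_assoc (qi * _), show qm * em w (0, 1) = _ from hr, Matrix.mul_smul]
          simp only [Matrix.mul_assoc, qm]
      _ = c • (r • (qi * em w e) * (g : Matrix I₃ I₃ F) * qm) := by
          rw [h, Matrix.mul_smul, Matrix.smul_mul, smul_comm]
          simp only [Matrix.mul_assoc, Matrix.smul_mul]
      _ = c • (em w (0, 1) * (qi * (g : Matrix I₃ I₃ F) * qm)) := by
          rw [← hr']; simp only [Matrix.mul_assoc]
  obtain ⟨c', f, hf⟩ := O.cc_Z (mul_mem (mul_mem (inv_mem (O.std hq)) hg) (O.std hq)) hkey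
  obtain ⟨d, f', hd⟩ := hq.2 f
  refine ⟨c' * d, f', ?_⟩
  calc (g : Matrix I₃ I₃ F) = ((q * (q⁻¹ * g * q) * q⁻¹ : GL I₃ F) : Matrix I₃ I₃ F) := by group
    _ = qm * (c' • em w f) * qi := by rw [Units.val_mul, Units.val_mul q, hf]
    _ = (c' * d) • (em w f' * (qm * qi)) := by
        rw [Matrix.mul_smul, show qm * em w f = _ from hd, Matrix.smul_mul, Matrix.smul_mul, smul_smul,
          Matrix.mul_assoc]
    _ = (c' * d) • em w f' := by rw [hqqi, Matrix.mul_one]

theorem exact_z (O : Over22 w p M) {g : GL I₃ F} {c : F}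
    (h : (g : Matrix I₃ I₃ F) * zneg = c • ((zneg : Matrix I₃ I₃ F) * (g : Matrix I₃ I₃ F))) : (g : Matrix I₃ I₃ F) * zneg = (zneg : Matrix I₃ I₃ F) * (g : Matrix I₃ I₃ F) := by
  have h1 := congrArg (fun A => (A * ((g⁻¹ : GL I₃ F) : Matrix I₃ I₃ F)).trace) h
  simp only [Matrix.smul_mul, Matrix.trace_smul, smul_eq_mul] at h1
  rw [Matrix.trace_mul_cycle, Units.inv_mul, Matrix.one_mul, Matrix.mul_assoc, Units.mul_inv,
    Matrix.mul_one, zneg_trace] at h1
  have hc : c = 1 := by linear_combination h1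
  rw [h, hc, one_smul]

theorem exact_sqrt (O : Over22 w p M) {g : GL I₃ F} (hg : g ∈ M) {A : Matrix I₃ I₃ F}
    (hA : A.det = 1) (hAA : A * A = zneg) {c : F}
    (h : (g : Matrix I₃ I₃ F) * A = c • (A * g)) : (g : Matrix I₃ I₃ F) * A = A * g := by
  have hdg := det_of_std (O.le hg)
  have hc3 : c ^ 3 = 1 := cube_of_smul_eq (by rw [det_mul, hdg, hA, one_mul])
    (by rw [det_mul, hdg, hA, one_mul]) h
  have h2 : (g : Matrix I₃ I₃ F) * zneg = (c * c) • ((zneg : Matrix I₃ I₃ F) * (g : Matrix I₃ I₃ F)) := by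
    rw [← hAA, ← Matrix.mul_assoc, h, Matrix.smul_mul, Matrix.mul_assoc, h, Matrix.mul_smul, smul_smul,
      Matrix.mul_assoc]
  have h1 := congrArg (fun A => (A * ((g⁻¹ : GL I₃ F) : Matrix I₃ I₃ F)).trace) h2
  simp only [Matrix.smul_mul, Matrix.trace_smul, smul_eq_mul] at h1
  rw [Matrix.trace_mul_cycle, Units.inv_mul, Matrix.one_mul, Matrix.mul_assoc, Units.mul_inv,
    Matrix.mul_one, zneg_trace] at h1
  have hc : c = 1 := by linear_combination hc3 - c * h1
  rw [h, hc, one_smul]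

theorem centre (O : Over22 w p M) {g : GL I₃ F} (hg : g ∈ M)
    (hF : (g : Matrix I₃ I₃ F) * fm w = fm w * g) (hJ : (g : Matrix I₃ I₃ F) * jm w = jm w * g) :
    ∃ c : F, (g : Matrix I₃ I₃ F) = c • 1 ∨ (g : Matrix I₃ I₃ F) = c • zneg := by
  have h0 := plane_scalar O.prim O.two O.three _ hF hJ
  have hz : zm w = zneg := fm_sq O.prim O.three
  obtain ⟨c, hc⟩ := centre_n3 O.prim O.two O.three _ (det_of_std (O.le hg)) (O.stable hg h0) h0 hF hJ
  exact ⟨c, hz ▸ hc⟩

theorem line (O : Over22 w p M) {X A : GL I₃ F} (hX : (X : Matrix I₃ I₃ F) * zneg = (zneg : Matrix I₃ I₃ F) * (X : Matrix I₃ I₃ F))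
    (hA : (A : Matrix I₃ I₃ F) * zneg = (zneg : Matrix I₃ I₃ F) * (A : Matrix I₃ I₃ F)) {c : F}
    (h : (X : Matrix I₃ I₃ F) * A = c • ((A : Matrix I₃ I₃ F) * X)) : c = 1 := by
  let v : I₃ → F := fun k => if k = 0 then 0 else if k = 1 then 1 else -1
  have hzv : zneg *ᵥ v = v := by
    funext k
    rw [Matrix.mulVec, dotProduct, sum_i3]
    rcases i3_cases k with rfl | rfl | rfl <;>
      simp [zneg, v, show (1 : ZMod 3) + 1 ≠ 0 from by decide, show (1 : ZMod 3) + 2 = 0 from rfl,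
        show (2 : ZMod 3) + 1 = 0 from rfl, show (2 : ZMod 3) + 2 ≠ 0 from by decide,
        show (1 : ZMod 3) ≠ 0 from by decide, show (2 : ZMod 3) ≠ 0 from by decide,
        show (2 : ZMod 3) ≠ 1 from by decide, show (0 : ZMod 3) ≠ 1 from by decide,
        show (0 : ZMod 3) ≠ 2 from by decide]
  have hfix : ∀ u : I₃ → F, zneg *ᵥ u = u → u = u 1 • v := by
    intro u hu
    have e0 := congrFun hu 0
    have e1 := congrFun hu 1
    rw [Matrix.mulVec, dotProduct, sum_i3] at e0 e1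
    simp [zneg, show (1 : ZMod 3) + 1 ≠ 0 from by decide, show (1 : ZMod 3) + 2 = 0 from rfl,
      show (1 : ZMod 3) ≠ 0 from by decide, show (2 : ZMod 3) ≠ 0 from by decide] at e0 e1
    funext k
    rcases i3_cases k with rfl | rfl | rfl
    · simp only [Pi.smul_apply, v, if_true, smul_eq_mul, mul_zero]
      exact (mul_eq_zero.1 (show (2 : F) * u 0 = 0 by linear_combination -e0)).resolve_left O.two
    · simp [v, show (1 : ZMod 3) ≠ 0 from by decide]
    · simp [v, show (2 : ZMod 3) ≠ 0 from by decide, show (2 : ZMod 3) ≠ 1 from by decide]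
      linear_combination -e1
  have hmap : ∀ Y : GL I₃ F, (Y : Matrix I₃ I₃ F) * zneg = (zneg : Matrix I₃ I₃ F) * (Y : Matrix I₃ I₃ F) →
      ∃ β : F, β ≠ 0 ∧ (Y : Matrix I₃ I₃ F) *ᵥ v = β • v := by
    intro Y hY
    refine ⟨((Y : Matrix I₃ I₃ F) *ᵥ v) 1, fun h0 => ?_, hfix _ ?_⟩
    · have h1 : (Y : Matrix I₃ I₃ F) *ᵥ v = 0 := by
        rw [hfix ((Y : Matrix I₃ I₃ F) *ᵥ v) (by rw [mulVec_mulVec, ← hY, ← mulVec_mulVec, hzv]), h0,
          zero_smul]
      have h2 := congrArg (fun u => ((Y⁻¹ : GL I₃ F) : Matrix I₃ I₃ F) *ᵥ u) h1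
      simp only [mulVec_mulVec, Units.inv_mul, one_mulVec, mulVec_zero] at h2
      have := congrFun h2 1
      simp [v, show (1 : ZMod 3) ≠ 0 from by decide] at this
    · rw [mulVec_mulVec, ← hY, ← mulVec_mulVec, hzv]
  obtain ⟨α, hα, hXv⟩ := hmap X hX
  obtain ⟨β, hβ, hAv⟩ := hmap A hA
  have e := congrFun (congrArg (fun B => B *ᵥ v) h) 1
  simp only [← mulVec_mulVec, smul_mulVec, hXv, hAv, mulVec_smul, Pi.smul_apply, smul_eq_mul] at e
  simp [v, show (1 : ZMod 3) ≠ 0 from by decide] at e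
  exact mul_right_cancel₀ (mul_ne_zero hβ hα) (by rw [one_mul]; linear_combination -e)

theorem memN3_all (O : Over22 w p M) (a : M) : MemN3 w ((a : GL I₃ F) : Matrix I₃ I₃ F) := by
  classical
  have hw := O.prim
  have h3 := O.three
  let K : Subgroup M := (Cfsg.Geo.scalars I₃ F).subgroupOf M
  have hKmem : ∀ x : M, x ∈ K ↔ ∃ c : F, ((x : GL I₃ F) : Matrix I₃ I₃ F) = c • 1 := by
    intro x
    rw [Subgroup.mem_subgroupOf, Cfsg.Geo.mem_scalars_iff]
    constructor
    · rintro ⟨c, hc⟩; exact ⟨c, hc⟩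
    · rintro ⟨c, hc⟩
      have hc0 : c ≠ 0 := by
        rintro rfl
        exact (x : GL I₃ F).ne_zero (by rw [hc, zero_smul])
      exact ⟨Units.mk0 c hc0, hc⟩
  haveI hKn : K.Normal := ⟨fun x hx y => by
    obtain ⟨c, hc⟩ := (hKmem x).1 hx
    refine (hKmem _).2 ⟨c, ?_⟩
    simp only [Subgroup.coe_mul, Units.val_mul, hc, Matrix.mul_smul, Matrix.smul_mul, Matrix.mul_one,
      InvMemClass.coe_inv, Units.mul_inv]⟩
  let π : M →* M ⧸ K := QuotientGroup.mk' K
  have pi_surj : Function.Surjective π := QuotientGroup.mk'_surjective K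
  have pi_eq : ∀ x y : M, π x = π y ↔
      ∃ c : F, ((x : GL I₃ F) : Matrix I₃ I₃ F) = c • ((y : GL I₃ F) : Matrix I₃ I₃ F) := by
    intro x y
    show (x : M ⧸ K) = (y : M ⧸ K) ↔ _
    rw [eq_comm, QuotientGroup.eq, hKmem]
    constructor
    · rintro ⟨c, hc⟩
      refine ⟨c, ?_⟩
      have := congrArg (fun A => ((y : GL I₃ F) : Matrix I₃ I₃ F) * A) hc
      simpa [← Matrix.mul_assoc] using this
    · rintro ⟨c, hc⟩
      exact ⟨c, by simp [hc]⟩
  have pi_comm : ∀ x y : M, π x * π y = π y * π x → ∃ c : F,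
      ((x : GL I₃ F) : Matrix I₃ I₃ F) * ((y : GL I₃ F) : Matrix I₃ I₃ F) =
        c • (((y : GL I₃ F) : Matrix I₃ I₃ F) * ((x : GL I₃ F) : Matrix I₃ I₃ F)) := by
    intro x y h
    rw [← map_mul, ← map_mul, pi_eq] at h
    simpa using h
  have pi_of_comm : ∀ x y : M, (∃ c : F,
      ((x : GL I₃ F) : Matrix I₃ I₃ F) * ((y : GL I₃ F) : Matrix I₃ I₃ F) =
        c • (((y : GL I₃ F) : Matrix I₃ I₃ F) * ((x : GL I₃ F) : Matrix I₃ I₃ F))) →
      π x * π y = π y * π x := by
    intro x y h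
    rw [← map_mul, ← map_mul, pi_eq]
    simpa using h
  let eM : ZMod 3 × ZMod 3 → M := fun e => ⟨eu hw e, O.std (stdSet_eu hw e)⟩
  let φ : Multiplicative (ZMod 3 × ZMod 3) →* M ⧸ K := MonoidHom.mk' (fun e => π (eM e.toAdd))
    fun e f => by
      rw [← map_mul, pi_eq, toAdd_mul]
      refine ⟨(ch w (e.toAdd.2 * f.toAdd.1))⁻¹, ?_⟩
      simp only [eM, Subgroup.coe_mul, Units.val_mul, eu_coe, em_mul hw]
      rw [inv_smul_smul₀ (ch_ne_zero hw _)]
  set E : Subgroup (M ⧸ K) := φ.range with hE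
  have memE : ∀ x : M ⧸ K, x ∈ E ↔ ∃ e, π (eM e) = x :=
    fun x => ⟨fun ⟨e, he⟩ => ⟨e.toAdd, he⟩, fun ⟨e, he⟩ => ⟨Multiplicative.ofAdd e, he⟩⟩
  have inj : ∀ e f, π (eM e) = π (eM f) → e = f := by
    intro e f h
    obtain ⟨c, hc⟩ := (pi_eq _ _).1 h
    simp only [eM, eu_coe] at hc
    have hfst : e.1 = f.1 := by
      have := congrFun (congrFun hc (0 + e.1)) 0
      simp only [em_apply, if_true, mul_zero, ch_zero, Matrix.smul_apply, smul_eq_mul] at this
      by_contra hne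
      rw [if_neg (by simpa using hne)] at this
      simp at this
    have hsnd : ∀ j : I₃, ch w (e.2 * j) = c * ch w (f.2 * j) := fun j => by
      have := congrFun (congrFun hc (j + e.1)) j
      simpa [em_apply, hfst] using this
    have hc1 : c = 1 := by
      have := hsnd 0
      simpa [ch_zero] using this.symm
    refine Prod.ext hfst (ZMod.val_injective 3 (hw.pow_inj (ZMod.val_lt _) (ZMod.val_lt _) ?_))
    have := hsnd 1
    rwa [mul_one, mul_one, hc1, one_mul] at this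
  have hcardE : Nat.card E = 9 := by
    rw [hE, ← Nat.card_congr (MonoidHom.ofInjective (f := φ) (fun e f h =>
      Multiplicative.toAdd.injective (inj _ _ h))).toEquiv, Nat.card_eq_fintype_card]
    rfl
  have inN : ∀ x : M, MemN3 w ((x : GL I₃ F) : Matrix I₃ I₃ F) →
      π x ∈ Subgroup.normalizer (E : Set (M ⧸ K)) := by
    have key : ∀ x : M, MemN3 w ((x : GL I₃ F) : Matrix I₃ I₃ F) → ∀ y ∈ E, π x * y * (π x)⁻¹ ∈ E := by
      intro x hx y hy
      obtain ⟨e, rfl⟩ := (memE y).1 hy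
      obtain ⟨c, e', hce⟩ := hx e
      refine (memE _).2 ⟨e', ?_⟩
      rw [eq_mul_inv_iff_mul_eq, ← map_mul, ← map_mul, eq_comm, pi_eq]
      exact ⟨c, by simpa [eM, eu_coe] using hce⟩
    intro x hx
    refine Subgroup.mem_normalizer_iff.2 fun y => ⟨key x hx y, fun hy => ?_⟩
    have := key x⁻¹ (by simpa using memN3_inv (x : GL I₃ F) hx) _ hy
    simpa [mul_assoc] using this
  have lift_normalizer : ∀ x : M, (∀ y ∈ E, π x * y * (π x)⁻¹ ∈ E) →
      MemN3 w ((x : GL I₃ F) : Matrix I₃ I₃ F) := by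
    intro x hx e
    obtain ⟨f, hf⟩ := (memE _).1 (hx _ ((memE _).2 ⟨e, rfl⟩))
    rw [eq_mul_inv_iff_mul_eq, ← map_mul, ← map_mul, eq_comm, pi_eq] at hf
    obtain ⟨c, hc⟩ := hf
    exact ⟨c, f, by simpa [eM, eu_coe] using hc⟩
  let iM : M := ⟨fu hw h3, O.std (stdSet_fu hw h3)⟩
  let jM : M := ⟨ju hw h3, O.std (stdSet_ju hw h3)⟩
  have ciM : ((iM : GL I₃ F) : Matrix I₃ I₃ F) = fm w := rfl
  have cjM : ((jM : GL I₃ F) : Matrix I₃ I₃ F) = jm w := ju_coe hw h3
  have czM : ((iM * iM : M) : GL I₃ F).val = zneg := by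
    rw [Subgroup.coe_mul, Units.val_mul, ciM, fm_sq hw h3]
  have zcomm : ∀ x : M, π x * π (iM * iM) = π (iM * iM) * π x →
      ((x : GL I₃ F) : Matrix I₃ I₃ F) * zneg = zneg * ((x : GL I₃ F) : Matrix I₃ I₃ F) := by
    intro x h
    obtain ⟨c, hc⟩ := pi_comm _ _ h
    rw [czM] at hc
    exact O.exact_z hc
  have icomm : ∀ x : M, π x * π iM = π iM * π x →
      ((x : GL I₃ F) : Matrix I₃ I₃ F) * fm w = fm w * ((x : GL I₃ F) : Matrix I₃ I₃ F) := by
    intro x h
    obtain ⟨c, hc⟩ := pi_comm _ _ h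
    rw [ciM] at hc
    exact O.exact_sqrt x.2 (det_fm hw h3) (fm_sq hw h3) hc
  have jcomm : ∀ x : M, π x * π jM = π jM * π x →
      ((x : GL I₃ F) : Matrix I₃ I₃ F) * jm w = jm w * ((x : GL I₃ F) : Matrix I₃ I₃ F) := by
    intro x h
    obtain ⟨c, hc⟩ := pi_comm _ _ h
    rw [cjM] at hc
    exact O.exact_sqrt x.2 (det_jm hw h3) (jm_sq hw h3) hc
  have centre_pi : ∀ x : M, ((x : GL I₃ F) : Matrix I₃ I₃ F) * fm w = fm w * ((x : GL I₃ F) : Matrix I₃ I₃ F) →
      ((x : GL I₃ F) : Matrix I₃ I₃ F) * jm w = jm w * ((x : GL I₃ F) : Matrix I₃ I₃ F) →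
      π x = 1 ∨ π x = π (iM * iM) := by
    intro x h1 h2
    obtain ⟨c, hc | hc⟩ := O.centre x.2 h1 h2
    · exact Or.inl (by rw [← map_one π, pi_eq]; exact ⟨c, by simpa using hc⟩)
    · exact Or.inr ((pi_eq _ _).2 ⟨c, by rw [czM]; exact hc⟩)
  have D : CCData E (π iM) (π jM) (π (iM * iM)) :=
    { cardE := hcardE
      cube := by
        rintro _ ⟨e, rfl⟩
        rw [← map_pow, show e ^ 3 = 1 from by revert e; decide, map_one]
      cc := by
        intro y hy hy1 g hgy
        obtain ⟨e, rfl⟩ := (memE y).1 hy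
        obtain ⟨x, rfl⟩ := pi_surj g
        have he : e ≠ 0 := by
          rintro rfl
          exact hy1 (map_one φ)
        obtain ⟨c, hc⟩ := pi_comm _ _ hgy
        obtain ⟨c', f, hf⟩ := O.cc x.2 he hc
        exact (memE _).2 ⟨f, ((pi_eq x (eM f)).2 ⟨c', hf⟩).symm⟩
      trans := by
        intro y hy y' hy' hy1 hy1'
        obtain ⟨e, rfl⟩ := (memE y).1 hy
        obtain ⟨e', rfl⟩ := (memE y').1 hy'
        have he : e ≠ 0 := by rintro rfl; exact hy1 (map_one φ)
        have he' : e' ≠ 0 := by rintro rfl; exact hy1' (map_one φ)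
        obtain ⟨q, hq, r, hr⟩ := O.reach e he
        obtain ⟨q', hq', r', hr'⟩ := O.reach e' he'
        have hm : ∀ (q : GL I₃ F) (hq : q ∈ stdSet w) (f : ZMod 3 × ZMod 3) (s : F),
            (q : Matrix I₃ I₃ F) * em w (0, 1) = s • (em w f * q) →
            π ⟨q, O.std hq⟩ * π (eM (0, 1)) * (π ⟨q, O.std hq⟩)⁻¹ = π (eM f) := by
          intro q hq f s hs
          rw [mul_inv_eq_iff_eq_mul, ← map_mul, ← map_mul, pi_eq]
          exact ⟨s, by simpa [eM, eu_coe] using hs⟩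
        refine ⟨π ⟨q', O.std hq'⟩ * (π ⟨q, O.std hq⟩)⁻¹,
          mul_mem (inN _ hq'.2) (inv_mem (inN _ hq.2)), ?_⟩
        rw [← hm q' hq' e' r' hr', ← hm q hq e r hr]
        group
      iN := inN _ (stdSet_fu hw h3).2
      jN := inN _ (stdSet_ju hw h3).2
      i_sq := (map_mul π iM iM).symm
      j_sq := by
        rw [← map_mul, pi_eq]
        exact ⟨1, by rw [czM, Subgroup.coe_mul, Units.val_mul, cjM, jm_sq hw h3, one_smul]⟩
      z_sq := by
        rw [← map_mul, ← map_one π, pi_eq]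
        exact ⟨1, by rw [Subgroup.coe_mul, Units.val_mul, czM, zneg_sq]; simp⟩
      z_ne := by
        rw [← map_one π]
        intro h
        obtain ⟨c, hc⟩ := (pi_eq _ _).1 h
        rw [czM] at hc
        have h1 := congrFun (congrFun hc 1) 2
        simp [zneg, show (1 : ZMod 3) + 2 = 0 from rfl, show (1 : ZMod 3) ≠ 2 from by decide] at h1
      conj_i := by
        have hji : π jM * π iM = π (iM * iM * iM) * π jM := by
          rw [← map_mul, ← map_mul, pi_eq]
          refine ⟨1, ?_⟩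
          simp only [Subgroup.coe_mul, Units.val_mul, ciM, cjM, one_smul, fm_sq hw h3]
          exact jm_fm hw h3
        have h4 : π (iM * iM * iM) * π iM = 1 := by
          rw [← map_mul, ← map_one π, pi_eq]
          refine ⟨1, ?_⟩
          simp only [Subgroup.coe_mul, Units.val_mul, ciM, one_smul, OneMemClass.coe_one, Units.val_one]
          rw [fm_sq hw h3, Matrix.mul_assoc, fm_sq hw h3, zneg_sq]
        rw [hji, mul_inv_cancel_right, eq_inv_iff_mul_eq_one, h4]
      centre := by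
        intro g hgi hgj
        obtain ⟨x, rfl⟩ := pi_surj g
        exact centre_pi x (icomm x hgi) (jcomm x hgj)
      abel := by
        intro ga gx gy haz ha1 haz' hxa hya hxz hyz
        obtain ⟨b, rfl⟩ := pi_surj ga
        obtain ⟨x, rfl⟩ := pi_surj gx
        obtain ⟨y, rfl⟩ := pi_surj gy
        have hb := zcomm b haz
        have hx := zcomm x hxz
        have hy := zcomm y hyz
        have hex : ∀ u : M, π u * π b = π b * π u → ((u : GL I₃ F) : Matrix I₃ I₃ F) * zneg =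
            zneg * ((u : GL I₃ F) : Matrix I₃ I₃ F) →
            ((u : GL I₃ F) : Matrix I₃ I₃ F) * ((b : GL I₃ F) : Matrix I₃ I₃ F) =
              ((b : GL I₃ F) : Matrix I₃ I₃ F) * ((u : GL I₃ F) : Matrix I₃ I₃ F) := by
          intro u hu huz
          obtain ⟨c, hc⟩ := pi_comm _ _ hu
          rw [O.line huz hb hc, one_smul] at hc
          exact hc
        have hz : zm w = zneg := fm_sq hw h3
        have hns : ¬ (((b : GL I₃ F) : Matrix I₃ I₃ F) * hom0 w = hom0 w * ((b : GL I₃ F) : Matrix I₃ I₃ F) ∧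
            ((b : GL I₃ F) : Matrix I₃ I₃ F) * Fm w = Fm w * ((b : GL I₃ F) : Matrix I₃ I₃ F) ∧
            ((b : GL I₃ F) : Matrix I₃ I₃ F) * Jm w = Jm w * ((b : GL I₃ F) : Matrix I₃ I₃ F)) := by
          rintro ⟨-, h1, h2⟩
          rcases centre_pi b h1 h2 with h | h
          · exact ha1 h
          · exact haz' h
        refine pi_of_comm x y ⟨1, ?_⟩
        rw [one_smul]
        exact plane_abel hw O.two O.three _ _ _ (hz.symm ▸ hb) hns (hz.symm ▸ hx) (hz.symm ▸ hy)
          (hex x hxa hx) (hex y hya hy)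
      five := by
        intro gx gg hx5 hg
        obtain ⟨x₀, rfl⟩ := pi_surj gx
        obtain ⟨g, rfl⟩ := pi_surj gg
        rw [← map_pow, ← map_one π, pi_eq] at hx5
        obtain ⟨c, hc⟩ := hx5
        simp only [SubmonoidClass.coe_pow, Units.val_pow_eq_pow_val, OneMemClass.coe_one, Units.val_one] at hc
        have hdx := det_of_std (O.le x₀.2)
        have hc3 : c ^ 3 = 1 := cube_of_smul_eq (by rw [det_pow, hdx, one_pow]) det_one hc
        have hc0 : c ≠ 0 := fun h => by simp [h] at hc3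
        have hscm : sc (Units.mk0 c hc0) ∈ M := O.std
          ⟨by rw [sc_coe, det_smul, det_one, mul_one, show Fintype.card I₃ = 3 from ZMod.card 3,
            Units.val_mk0, hc3],
           by rw [sc_coe]; exact memN3_scalar _⟩
        let x : M := ⟨sc (Units.mk0 c hc0), hscm⟩ * x₀
        have hxc : ((x : GL I₃ F) : Matrix I₃ I₃ F) = c • ((x₀ : GL I₃ F) : Matrix I₃ I₃ F) := by
          simp [x, sc_coe]
        have hpx : π x = π x₀ := (pi_eq _ _).2 ⟨c, hxc⟩
        have hx1 : (x : GL I₃ F) ^ 5 = 1 := by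
          refine Units.ext ?_
          rw [Units.val_pow_eq_pow_val, hxc, smul_pow, hc, smul_smul,
            show c ^ 5 * c = 1 by linear_combination (c ^ 3 + 1) * hc3, one_smul, Units.val_one]
        have hdx' : ((x : GL I₃ F) : Matrix I₃ I₃ F).det = 1 := det_of_std (O.le x.2)
        rw [← hpx] at hg ⊢
        rw [← map_inv, ← map_mul, ← map_mul, ← map_pow, pi_eq] at hg
        obtain ⟨d, hd⟩ := hg
        simp only [Subgroup.coe_mul, Units.val_mul, SubmonoidClass.coe_pow, InvMemClass.coe_inv] at hd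
        rw [← Units.val_mul, ← Units.val_mul] at hd
        have hd3 : d ^ 3 = 1 := cube_of_smul_eq
          (by rw [Units.val_mul, Units.val_mul, det_mul, det_mul, hdx', mul_one, ← det_mul,
            Units.mul_inv, det_one])
          (by rw [Units.val_pow_eq_pow_val, det_pow, hdx', one_pow]) hd
        have hd5 : d ^ 5 = 1 := by
          have h5 := congrArg (fun A => A ^ 5) hd
          simp only [smul_pow] at h5
          rw [← Units.val_pow_eq_pow_val, ← Units.val_pow_eq_pow_val, conj_pow, hx1, mul_one,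
            mul_inv_cancel, ← pow_mul, show 2 * 5 = 5 * 2 from rfl, pow_mul, hx1, one_pow,
            Units.val_one] at h5
          have := congrFun (congrFun h5 0) 0
          simpa using this.symm
        have hd1 : d = 1 := by linear_combination (1 + d * d * d) * hd3 - d * hd5
        rw [hd1, one_smul] at hd
        have := five_trivial O.two h3 O.five (x : GL I₃ F) (g : GL I₃ F) hdx' hx1 (Units.ext hd)
        rw [show x = 1 from Subtype.ext this, map_one] }
  have hcc := cc_of_bricks twoExists notConj transfer invol altKill (M ⧸ K) E _ _ _ D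
  exact lift_normalizer a fun y hy => hcc (π a) y hy

end Over22

/-- The standard clause. -/
theorem stdCore (p : ℕ) (hp : p.Prime) (hF : Fintype.card F = p) (hp3 : p % 3 = 1) : StdCore F := by
  intro w hw M hM hN hout
  obtain ⟨g, hg, hgN⟩ := hout
  by_contra hne
  haveI := Fact.mk hp
  haveI : CharP F p := charP_of_card_eq_prime hF
  have h7 : 7 ≤ p := by
    by_contra h
    have := hp.two_le
    interval_cases p <;> first | omega | norm_num at hp
  have hn : ∀ n : ℕ, 0 < n → n < 7 → (n : F) ≠ 0 := fun n h0 hn h => by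
    have := Nat.le_of_dvd h0 ((CharP.cast_eq_zero_iff F p n).1 h)
    omega
  have h2 : (2 : F) ≠ 0 := by exact_mod_cast hn 2 (by norm_num) (by norm_num)
  have h3 : (3 : F) ≠ 0 := by exact_mod_cast hn 3 (by norm_num) (by norm_num)
  have h5 : (5 : F) ≠ 0 := by exact_mod_cast hn 5 (by norm_num) (by norm_num)
  have hdet := det_of_std (hM hg)
  refine hgN ⟨hdet, ?_⟩
  by_cases hB : ∀ ζ : F, ζ ^ 3 ≠ w
  · exact Over22.memN3_all ⟨hw, hp, hF, h7, h2, h3, h5, hM, hN, hne, hB⟩ ⟨g, hg⟩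
  · push Not at hB
    obtain ⟨ζ, hζ⟩ := hB
    have hζ0 : ζ ≠ 0 := by
      rintro rfl
      rw [zero_pow (by norm_num)] at hζ
      exact hw.ne_zero (by norm_num) hζ.symm
    let h' : GL I₃ F := sc (Units.mk0 ζ hζ0)⁻¹ * h0u hw
    have hmem : h' ∈ M := hN ⟨by
      simp only [h', Units.val_mul, sc_coe, h0u_coe, det_mul, det_smul, det_one, mul_one, det_hom0',
        show Fintype.card I₃ = 3 from ZMod.card 3, Units.val_inv_eq_inv_val, Units.val_mk0, inv_pow, hζ]
      exact inv_mul_cancel₀ (hw.ne_zero (by norm_num)), by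
      simp only [h', Units.val_mul, sc_coe, h0u_coe, Matrix.smul_mul, Matrix.one_mul]
      exact memN3_smul _ (memN3_hom0 hw) _⟩
    have hconj : ∀ x : GL I₃ F, h0u hw * x * (h0u hw)⁻¹ = h' * x * h'⁻¹ := fun x => by
      show _ = sc _ * h0u hw * x * (sc _ * h0u hw)⁻¹
      rw [_root_.mul_inv_rev, ← map_inv]
      calc h0u hw * x * (h0u hw)⁻¹ = sc (Units.mk0 ζ hζ0)⁻¹ * sc (Units.mk0 ζ hζ0)⁻¹⁻¹ *
            (h0u hw * x * (h0u hw)⁻¹) := by rw [← map_mul, mul_inv_cancel, map_one, one_mul]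
        _ = sc (Units.mk0 ζ hζ0)⁻¹ * (h0u hw * x * (h0u hw)⁻¹) * sc (Units.mk0 ζ hζ0)⁻¹⁻¹ := by
            rw [mul_assoc (sc _), ← sc_comm (Units.mk0 ζ hζ0)⁻¹⁻¹, ← mul_assoc]
        _ = _ := by group
    have hm : ∀ x ∈ M, h0u hw * x * (h0u hw)⁻¹ ∈ M := fun x hx => by
      rw [hconj]; exact mul_mem (mul_mem hmem hx) (inv_mem hmem)
    exact memN3_of_stable hw p hp hF h7 h3 hM hN hne hg (hm g hg) (hm _ (hm g hg))

end Over

end Cfsg.Agent.Lib.SLThree78.Extra22
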