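import Cfsg.Agent.Lib.ExtraNine17.Three
import Mathlib.GroupTheory.SpecificGroups.Alternating

/-!
Shared definitions for the maximality of the normaliser of an extraspecial group of order 27 in
`SL₃(p)`: the standard normaliser, and the abstract configuration of its projective overgroups.
-/

set_option autoImplicit false

namespace Cfsg.Agent.Lib.SLThree78.Extra22

open Cfsg.Agent.Lib.ExtraNine17

universe u

section Matrices

variable {F : Type*} [Field F]

/-- The elements of determinant one normalising the standard group of order 27 modulo scalars. -/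
def stdSet (w : F) : Set (GL I₃ F) :=
  {g | (g : Matrix I₃ I₃ F).det = 1 ∧ MemN3 w (g : Matrix I₃ I₃ F)}

/-- The clause for the standard group. -/
def StdCore (F : Type u) [Field F] : Prop :=
  ∀ (w : F), IsPrimitiveRoot w 3 → ∀ M : Subgroup (GL I₃ F),
    M ≤ Cfsg.Geo.specialLinear I₃ F → stdSet w ⊆ M → (∃ g ∈ M, g ∉ stdSet w) →
      M = Cfsg.Geo.specialLinear I₃ F

/-- Reduction of the clause to the standard group. -/
def StdStmt : Prop :=
  ∀ (F : Type u) [Field F] [Fintype F] (p : ℕ) (R : Subgroup (GL (Fin 3) F)),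
    p.Prime → Fintype.card F = p → p % 3 = 1 → Cfsg.Geo.IsLinearSymplecticTypeData 3 R →
    StdCore F →
      Cfsg.Geo.IsMaximalIn (Cfsg.Geo.specialLinear (Fin 3) F)
        (Cfsg.Geo.subgroupNormalizer R ⊓ Cfsg.Geo.specialLinear (Fin 3) F)

end Matrices

variable {G : Type u} [Group G]

/-- An elementary group of order nine containing the centralisers of its elements, with a quaternion
group acting transitively, inside a group whose involution centraliser is two-dimensional linear. -/
structure CCData (E : Subgroup G) (i j z : G) : Prop where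
  cardE : Nat.card E = 9
  cube : ∀ e ∈ E, e ^ 3 = 1
  cc : ∀ e ∈ E, e ≠ 1 → ∀ g : G, g * e = e * g → g ∈ E
  trans : ∀ e ∈ E, ∀ e' ∈ E, e ≠ 1 → e' ≠ 1 →
    ∃ g ∈ Subgroup.normalizer (E : Set G), g * e * g⁻¹ = e'
  iN : i ∈ Subgroup.normalizer (E : Set G)
  jN : j ∈ Subgroup.normalizer (E : Set G)
  i_sq : i * i = z
  j_sq : j * j = z
  z_sq : z * z = 1
  z_ne : z ≠ 1
  conj_i : j * i * j⁻¹ = i⁻¹
  centre : ∀ g : G, g * i = i * g → g * j = j * g → g = 1 ∨ g = z
  abel : ∀ a x y : G, a * z = z * a → a ≠ 1 → a ≠ z → x * a = a * x → y * a = a * y →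
    x * z = z * x → y * z = z * y → x * y = y * x
  five : ∀ x g : G, x ^ 5 = 1 → g * x * g⁻¹ = x ^ 2 → x = 1

/-- A Sylow 2-subgroup with an abelian subgroup of index two with one involution. -/
structure TwoData (E : Subgroup G) (i j z : G) (S : Sylow 2 G) (Y : Subgroup G) : Prop where
  data : CCData E i j z
  le : Y ≤ (S : Subgroup G)
  iY : i ∈ Y
  jS : j ∈ (S : Subgroup G)
  jY : j ∉ Y
  central : ∀ s ∈ (S : Subgroup G), s * z = z * s
  coset : ∀ s ∈ (S : Subgroup G), s ∉ Y → s * j⁻¹ ∈ Y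
  norm : ∀ s ∈ (S : Subgroup G), ∀ y ∈ Y, s * y * s⁻¹ ∈ Y
  comm : ∀ x ∈ Y, ∀ y ∈ Y, x * y = y * x
  invol : ∀ u ∈ Y, u * u = 1 → u = 1 ∨ u = z
  twist : ∀ y ∈ Y, y * (j * y * j⁻¹) = 1 ∨ y * (j * y * j⁻¹) = z

/-- Existence of the structure of a Sylow 2-subgroup. -/
def TwoExistsStmt : Prop :=
  ∀ (G : Type u) [Group G] [Finite G] (E : Subgroup G) (i j z : G), CCData E i j z →
    ∃ (i' j' : G) (S : Sylow 2 G) (Y : Subgroup G), TwoData E i' j' z S Y

/-- The two kinds of elements of order four are not conjugate. -/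
def NotConjStmt : Prop :=
  ∀ (G : Type u) [Group G] [Finite G] (E : Subgroup G) (i j z : G) (S : Sylow 2 G) (Y : Subgroup G),
    TwoData E i j z S Y → (∀ x : G, x ^ 3 = 1 → x * z = z * x → x = 1) →
      ∀ g : G, g * i * g⁻¹ ≠ j

/-- The transfer. -/
def TransferStmt : Prop :=
  ∀ (G : Type u) [Group G] [Finite G] (E : Subgroup G) (i j z : G) (S : Sylow 2 G) (Y : Subgroup G),
    TwoData E i j z S Y → (∀ g : G, g * i * g⁻¹ ≠ j) →
      ∀ t ∈ (S : Subgroup G), t ∉ Y → t * t = 1 →
        ∃ K : Subgroup G, K.Normal ∧ K.index = 2 ∧ j ∉ K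

/-- All involutions lie in a suitable subgroup of index two. -/
def InvolStmt : Prop :=
  ∀ (G : Type u) [Group G] [Finite G] (E : Subgroup G) (i j z : G) (S : Sylow 2 G) (Y : Subgroup G),
    TwoData E i j z S Y → ∀ T : Subgroup G, T.Normal → T.index = 2 →
      (∃ u ∈ (S : Subgroup G), u ∈ T ∧ u * u = 1 ∧ u ≠ 1 ∧ u ≠ z) →
        ∀ x : G, x * x = 1 → x ∈ T

/-- The alternating group of degree six extended by two is impossible. -/
def AltKillStmt : Prop :=
  ∀ (G : Type u) [Group G] [Finite G] (E : Subgroup G) (i j z : G), CCData E i j z →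
    (∀ P : Subgroup G, IsPGroup 3 P → E ≤ P → P = E) →
    ∀ T : Subgroup G, T.Normal → T.index = 2 → Nonempty (T ≃* alternatingGroup (Fin 6)) →
      (∀ x : G, x * x = 1 → x ∈ T) → False

/-- The conclusion of the abstract part. -/
def CCStmt : Prop :=
  ∀ (G : Type u) [Group G] [Finite G] (E : Subgroup G) (i j z : G), CCData E i j z →
    ∀ g : G, ∀ e ∈ E, g * e * g⁻¹ ∈ E

end Cfsg.Agent.Lib.SLThree78.Extra22
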