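import Cfsg.Agent.Lib.SLThree78.Core
import Cfsg.Agent.Lib.LinearFrame.Main

/-!
The stabiliser of a decomposition of a three-dimensional space into three lines, at least five field elements.
-/

set_option autoImplicit false
set_option linter.unusedSectionVars false

namespace Cfsg.Agent.Lib.SLThree78

open Matrix
open Cfsg.Agent.Lib.SubfieldMax (InTr Tr_mul_left)
open Cfsg.Agent.Lib.LinearFrame (ContainsMono IsMono slGL)

variable {F : Type*} [Field F] [Fintype F] {H : Subgroup (GL (Fin 3) F)}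

local notation "V₃" => (Fin 3 → F)
local notation "M₃" => Matrix (Fin 3) (Fin 3) F

theorem axis_eq {g : GL (Fin 3) F} {y y' : V₃} (h : ∀ z, y' ⬝ᵥ ((g : M₃) *ᵥ z) = y ⬝ᵥ z) :
    y ᵥ* ((g⁻¹ : GL (Fin 3) F) : M₃) = y' := by
  refine dotProduct_eq _ _ fun z => ?_
  rw [← dotProduct_mulVec, ← h, LinearFrame.mulVec_inv_mulVec]

theorem InTr.conj' {g : GL (Fin 3) F} (hg : g ∈ H) {x y x' y' : V₃} (h : InTr H x y)
    (hx : (g : M₃) *ᵥ x = x') (hy : ∀ z, y' ⬝ᵥ ((g : M₃) *ᵥ z) = y ⬝ᵥ z) : InTr H x' y' :=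
  (h.conj hg).congr hx (axis_eq hy)

theorem exists_two_others : ∀ k : Fin 3, ∃ i j, i ≠ j ∧ i ≠ k ∧ j ≠ k := by decide

/-- `H` has a reflection with centre `v` and axis `ψ`, up to sign. -/
structure IsRef (H : Subgroup (GL (Fin 3) F)) (v ψ : V₃) : Prop where
  centre_ne : v ≠ 0
  axis_ne : ψ ≠ 0
  dot : ψ ⬝ᵥ v = -2
  mem : ∃ m ∈ H, ∀ z : V₃, (m : M₃) *ᵥ z = -(z + (ψ ⬝ᵥ z) • v)

theorem IsRef.conj' {g : GL (Fin 3) F} (hg : g ∈ H) {v ψ v' ψ' : V₃} (h : IsRef H v ψ)
    (hv : (g : M₃) *ᵥ v = v') (hψ : ∀ z, ψ' ⬝ᵥ ((g : M₃) *ᵥ z) = ψ ⬝ᵥ z) : IsRef H v' ψ' := by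
  obtain ⟨hv0, hψ0, hd, m, hm, he⟩ := h
  refine ⟨fun e => hv0 ?_, fun e => hψ0 ?_, by rw [← hv, hψ, hd],
    g * m * g⁻¹, H.mul_mem (H.mul_mem hg hm) (H.inv_mem hg), fun z => ?_⟩
  · rw [← LinearFrame.inv_mulVec_mulVec g v, hv, e, mulVec_zero]
  · exact dotProduct_eq _ _ fun z => by rw [← hψ, e, zero_dotProduct, zero_dotProduct]
  · rw [Units.val_mul, Units.val_mul, ← mulVec_mulVec, ← mulVec_mulVec, he, mulVec_neg, mulVec_add, mulVec_smul,
      hv, LinearFrame.mulVec_inv_mulVec, ← hψ, LinearFrame.mulVec_inv_mulVec]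

theorem IsRef.scale {v ψ : V₃} (h : IsRef H v ψ) {c d : F} (hcd : c * d = 1) : IsRef H (c • v) (d • ψ) := by
  obtain ⟨hv0, hψ0, hd, m, hm, he⟩ := h
  refine ⟨smul_ne_zero (left_ne_zero_of_mul_eq_one hcd) hv0,
    smul_ne_zero (right_ne_zero_of_mul_eq_one hcd) hψ0, ?_, m, hm, fun z => ?_⟩
  · rw [smul_dotProduct, dotProduct_smul, smul_smul, hd, mul_comm d c, hcd, one_smul]
  · rw [he, smul_dotProduct, smul_eq_mul, smul_smul, mul_right_comm, mul_comm d c, hcd, one_mul]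

theorem IsRef.sameCentre {v ψ ψ' : V₃} (h : IsRef H v ψ) (h' : IsRef H v ψ') : InTr H v (ψ - ψ') := by
  obtain ⟨-, -, hd, m, hm, he⟩ := h
  obtain ⟨-, -, hd', m', hm', he'⟩ := h'
  have h0 : (ψ - ψ') ⬝ᵥ v = 0 := by rw [sub_dotProduct, hd, hd', sub_self]
  refine ⟨h0, ?_⟩
  convert H.mul_mem hm hm' using 1
  refine FormMax.gl_ext fun z => ?_
  rw [FormMax.Tr_mulVec, Units.val_mul, ← mulVec_mulVec, he', he, dotProduct_neg, dotProduct_add, dotProduct_smul,
    hd, sub_dotProduct, smul_eq_mul]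
  module

theorem IsRef.sameAxis {v v' ψ : V₃} (h : IsRef H v ψ) (h' : IsRef H v' ψ) : InTr H (v' - v) ψ := by
  obtain ⟨-, -, hd, m, hm, he⟩ := h
  obtain ⟨-, -, hd', m', hm', he'⟩ := h'
  have h0 : ψ ⬝ᵥ (v' - v) = 0 := by rw [dotProduct_sub, hd, hd', sub_self]
  refine ⟨h0, ?_⟩
  convert H.mul_mem hm hm' using 1
  refine FormMax.gl_ext fun z => ?_
  rw [FormMax.Tr_mulVec, Units.val_mul, ← mulVec_mulVec, he', he, dotProduct_neg, dotProduct_add, dotProduct_smul,
    hd', smul_eq_mul]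
  module

theorem IsRef.conjRef {v ψ u ξ : V₃} (h : IsRef H v ψ) (h' : IsRef H u ξ) :
    IsRef H (u + (ψ ⬝ᵥ u) • v) (ξ + (ξ ⬝ᵥ v) • ψ) := by
  obtain ⟨-, -, hd, m, hm, he⟩ := h
  have h1 : IsRef H (-(u + (ψ ⬝ᵥ u) • v)) (-(ξ + (ξ ⬝ᵥ v) • ψ)) := by
    refine h'.conj' hm (he u) fun z => ?_
    rw [he, neg_dotProduct, dotProduct_neg, neg_neg, add_dotProduct, dotProduct_add, dotProduct_add,
      dotProduct_smul, dotProduct_smul, smul_dotProduct, smul_dotProduct, hd]
    simp only [smul_eq_mul]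
    ring
  have h2 := h1.scale (c := -1) (d := -1) (by ring)
  rwa [neg_one_smul, neg_one_smul, neg_neg, neg_neg] at h2

/-- The centre of a basic reflection. -/
def swapC (i j : Fin 3) (x : F) : V₃ := Pi.single i 1 - x • Pi.single j 1

/-- The axis of a basic reflection. -/
def swapA (i j : Fin 3) (x : F) : V₃ := -Pi.single i 1 + x⁻¹ • Pi.single j 1

theorem swapA_dot (i j : Fin 3) (x : F) (z : V₃) : swapA i j x ⬝ᵥ z = -z i + x⁻¹ * z j := by
  rw [swapA, add_dotProduct, neg_dotProduct, smul_dotProduct, single_dot, single_dot, one_mul, one_mul,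
    smul_eq_mul]

theorem dot_swapC (i j : Fin 3) (x : F) (z : V₃) : z ⬝ᵥ swapC i j x = z i - x * z j := by
  rw [swapC, dotProduct_sub, dotProduct_smul, dotProduct_single, dotProduct_single, mul_one, mul_one,
    smul_eq_mul]

theorem swapC_apply_fst {i j : Fin 3} (hij : i ≠ j) (x : F) : swapC i j x i = 1 := by
  simp [swapC, hij]

theorem swapC_apply_snd {i j : Fin 3} (hij : i ≠ j) (x : F) : swapC i j x j = -x := by
  simp [swapC, hij.symm]

theorem swapC_apply_other {i j k : Fin 3} (hik : i ≠ k) (hjk : j ≠ k) (x : F) : swapC i j x k = 0 := by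
  simp [swapC, hik.symm, hjk.symm]

section

variable (hH : H ≤ slGL 3 F) (hM : ContainsMono H)
include hH hM

theorem isRef_swap {i j : Fin 3} (hij : i ≠ j) {x : F} (hx : x ≠ 0) :
    IsRef H (swapC i j x) (swapA i j x) := by
  classical
  obtain ⟨k, hik, hjk⟩ := exists_other hij
  refine ⟨fun e => by simpa [swapC_apply_fst hij] using congrFun e i, fun e => ?_, ?_, ?_⟩
  · have := congrFun e i
    simp [swapA, hij] at this
  · rw [swapA_dot, swapC_apply_fst hij, swapC_apply_snd hij, mul_neg, inv_mul_cancel₀ hx]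
    ring
  let d : V₃ := fun l => if l = i then -x⁻¹ else if l = j then -x else -1
  obtain ⟨g, hg, hgm, hgv, -⟩ := LinearFrame.exists_scaledPerm (F := F) (Equiv.swap i j) d
    (fun l => by simp only [d]; split_ifs <;> simp [hx]) (by
      rw [Equiv.Perm.sign_swap hij,
        show (∏ l, d l) = d i * d j * d k by
          rw [show (Finset.univ : Finset (Fin 3)) = {i, j, k} by
            ext l; simpa using eq_three hij hik hjk l]
          rw [Finset.prod_insert (by simp [hij, hik]), Finset.prod_insert (by simp [hjk]), Finset.prod_singleton,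
            mul_assoc]]
      simp only [d, if_pos, if_neg hij.symm, if_neg hik.symm, if_neg hjk.symm]
      push_cast
      field_simp)
  refine ⟨g, hM g hg hgm, fun z => funext fun l => ?_⟩
  rw [hgv, Pi.neg_apply, Pi.add_apply, Pi.smul_apply, swapA_dot, smul_eq_mul]
  rcases eq_three hij hik hjk l with rfl | rfl | rfl
  · simp only [d, if_pos, Equiv.swap_apply_left, swapC_apply_fst hij]
    ring
  · simp only [d, if_neg hij.symm, if_pos, Equiv.swap_apply_right, swapC_apply_snd hij]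
    field_simp
    ring
  · simp only [d, if_neg hik.symm, if_neg hjk.symm, Equiv.swap_apply_of_ne_of_ne hik.symm hjk.symm,
      swapC_apply_other hik hjk]
    ring

theorem exists_pair {i j k : Fin 3} (hij : i ≠ j) (hik : i ≠ k) (hjk : j ≠ k) {x : F} (hx : x ≠ 0) :
    ∃ g ∈ H, ∀ z : V₃, ((g : M₃) *ᵥ z) i = x⁻¹ * z i ∧ ((g : M₃) *ᵥ z) j = x * z j ∧
      ((g : M₃) *ᵥ z) k = z k := by
  obtain ⟨-, -, -, m, hm, he⟩ := isRef_swap hH hM hij hx
  obtain ⟨-, -, -, m', hm', he'⟩ := isRef_swap hH hM hij (one_ne_zero (α := F))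
  refine ⟨m * m', H.mul_mem hm hm', fun z => ?_⟩
  rw [Units.val_mul, ← mulVec_mulVec, he', he]
  simp only [Pi.neg_apply, Pi.add_apply, Pi.smul_apply, swapA_dot, smul_eq_mul, swapC_apply_fst hij,
    swapC_apply_snd hij, swapC_apply_other hik hjk, inv_one]
  refine ⟨?_, ?_, ?_⟩
  · ring
  · field_simp
    ring
  · ring

theorem fullSub_of_elem {i j k : Fin 3} (hij : i ≠ j) (hik : i ≠ k) (hjk : j ≠ k) {c : F} (hc : c ≠ 0)
    (h : InTr H (Pi.single i 1) (Pi.single j c)) : H = slGL 3 F := by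
  classical
  have hall : ∀ d : F, InTr H (Pi.single i (1 : F) : V₃) (Pi.single j d) := by
    intro d
    by_cases hd : d = 0
    · subst hd; rw [Pi.single_zero]; exact InTr.zero_right _
    obtain ⟨g, hg, hgz⟩ := exists_pair hH hM hik hij (Ne.symm hjk) (x := c / d) (div_ne_zero hc hd)
    have h1 : InTr H ((d / c) • (Pi.single i 1 : V₃)) (Pi.single j c) := by
      refine InTr.conj' hg h (funext fun l => ?_) fun z => ?_
      · rcases eq_three hij hik hjk l with rfl | rfl | rfl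
        · rw [(hgz _).1]; simp
        · rw [(hgz _).2.2]; simp [hij.symm]
        · rw [(hgz _).2.1]; simp [hik.symm]
      · rw [single_dot, single_dot, (hgz z).2.2]
    have h2 := InTr.scale (c := c / d) (d := d / c) (by field_simp) h1
    rwa [smul_smul, div_mul_div_cancel₀ hd, div_self hc, one_smul, ← Pi.single_smul', smul_eq_mul,
      div_mul_cancel₀ _ hc] at h2
  obtain ⟨-, -, -, m, hm, he⟩ := isRef_swap hH hM hjk (one_ne_zero (α := F))
  have hk : ∀ d : F, InTr H (Pi.single i (1 : F) : V₃) (Pi.single k d) := by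
    intro d
    have h1 : InTr H (-(Pi.single i 1 : V₃)) (Pi.single k (-d)) := by
      refine InTr.conj' hm (hall d) ?_ fun z => ?_
      · rw [he, swapA_dot]
        simp [hij.symm, hik.symm]
      · rw [single_dot, single_dot, he]
        simp only [Pi.neg_apply, Pi.add_apply, Pi.smul_apply, swapA_dot, swapC_apply_snd hjk, smul_eq_mul,
          inv_one]
        ring
    have h2 := InTr.scale (c := (-1 : F)) (d := -1) (by ring) h1
    simpa [← Pi.single_smul', Pi.single_neg] using h2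
  have hfull : FullC H (Pi.single i (1 : F) : V₃) := by
    intro a ha
    rw [dotProduct_single, mul_one] at ha
    refine ((hall (a j)).add (hk (a k))).congr rfl (funext fun l => ?_)
    rcases eq_three hij hik hjk l with rfl | rfl | rfl <;> simp [hij, hik, hjk, hij.symm, hik.symm, hjk.symm, ha]
  have hl : ∀ l, (Pi.single l (1 : F) : V₃) ∈ fullSub H := by
    intro l
    by_cases hli : l = i
    · exact hli ▸ hfull
    obtain ⟨-, -, -, m', hm', he'⟩ := isRef_swap hH hM (Ne.symm hli) (one_ne_zero (α := F))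
    have h1 : -((m' : M₃) *ᵥ Pi.single i 1) ∈ fullSub H :=
      neg_mem (show (m' : M₃) *ᵥ Pi.single i 1 ∈ fullSub H from hfull.conj hm')
    rwa [he', neg_neg, swapA_dot, show (Pi.single i (1 : F) : V₃) i = 1 by simp,
      show (Pi.single i (1 : F) : V₃) l = 0 by simp [hli], swapC, mul_zero, add_zero, neg_one_smul, neg_sub,
      one_smul, add_sub_cancel] at h1
  refine eq_SL_of_fullSub hH (top_unique fun x _ => ?_)
  rw [LinearFrame.sum_single x]
  exact Submodule.sum_mem _ fun l _ => Submodule.smul_mem _ _ (hl l)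

theorem eq_of_centre_zero {s : F} (hs : s ≠ 0) (hs3 : s ^ 3 ≠ 1) {v a : V₃} {k : Fin 3} (hv0 : v ≠ 0)
    (hvk : v k = 0) (hak : a k ≠ 0) (h : InTr H v a) : H = slGL 3 F := by
  classical
  obtain ⟨i, hi⟩ : ∃ i, v i ≠ 0 := by
    by_contra h0; push Not at h0; exact hv0 (funext h0)
  have hik : i ≠ k := fun e => hi (e ▸ hvk)
  obtain ⟨j, hij, hkj⟩ := exists_other hik
  have hjk := hkj.symm
  obtain ⟨g₁, hg₁, e₁⟩ := exists_pair hH hM hik hij hkj (x := s⁻¹) (inv_ne_zero hs)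
  obtain ⟨g₂, hg₂, e₂⟩ := exists_pair hH hM hjk (Ne.symm hij) (Ne.symm hik) (x := s⁻¹) (inv_ne_zero hs)
  have hconj : InTr H (s • v) (fun l => if l = k then s ^ 2 * a l else s⁻¹ * a l) := by
    refine InTr.conj' (H.mul_mem hg₂ hg₁) h (funext fun l => ?_) fun z => ?_
    · rw [Units.val_mul, ← mulVec_mulVec]
      rcases eq_three hij hik hjk l with rfl | rfl | rfl
      · rw [(e₂ _).2.2, (e₁ _).1]; simp
      · rw [(e₂ _).1, (e₁ _).2.2]; simp
      · rw [(e₂ _).2.1, (e₁ _).2.1]; simp [hvk]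
    · rw [Units.val_mul, ← mulVec_mulVec, dot_three hij hik hjk, dot_three hij hik hjk a z, if_neg hik,
        if_neg hjk, if_pos rfl, (e₂ _).1, (e₂ _).2.1, (e₂ _).2.2, (e₁ _).1, (e₁ _).2.1, (e₁ _).2.2]
      field_simp
  have h1 := InTr.scale (c := s⁻¹) (d := s) (inv_mul_cancel₀ hs) hconj
  rw [smul_smul, inv_mul_cancel₀ hs, one_smul] at h1
  have h2 : InTr H v (Pi.single k ((1 - s ^ 3) * a k)) := by
    refine (h.sub h1).congr rfl (funext fun l => ?_)
    by_cases hl : l = k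
    · subst hl; simp; ring
    · simp [hl, ← mul_assoc, mul_inv_cancel₀ hs]
  have hc : (1 - s ^ 3) * a k ≠ 0 := mul_ne_zero (sub_ne_zero.mpr (Ne.symm hs3)) hak
  obtain ⟨g₃, hg₃, e₃⟩ := exists_pair hH hM hij hik hjk (x := s⁻¹) (inv_ne_zero hs)
  have h3 : InTr H (fun l => if l = i then s * v l else s⁻¹ * v l) (Pi.single k ((1 - s ^ 3) * a k)) := by
    refine InTr.conj' hg₃ h2 (funext fun l => ?_) fun z => ?_
    · rcases eq_three hij hik hjk l with rfl | rfl | rfl
      · rw [(e₃ _).1]; simp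
      · rw [(e₃ _).2.1]; simp [hij.symm]
      · rw [(e₃ _).2.2]; simp [hik.symm, hvk]
    · rw [single_dot, single_dot, (e₃ z).2.2]
  obtain ⟨g₄, hg₄, e₄⟩ := exists_pair hH hM hik hij hkj (x := s) hs
  have h4 : InTr H (fun l => if l = i then s⁻¹ * v l else v l) (Pi.single k (s⁻¹ * ((1 - s ^ 3) * a k))) := by
    refine InTr.conj' hg₄ h2 (funext fun l => ?_) fun z => ?_
    · rcases eq_three hij hik hjk l with rfl | rfl | rfl
      · rw [(e₄ _).1]; simp
      · rw [(e₄ _).2.2]; simp [hij.symm]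
      · rw [(e₄ _).2.1]; simp [hik.symm, hvk]
    · rw [single_dot, single_dot, (e₄ z).2.1]
      field_simp
  have h5 := InTr.scale (c := s⁻¹) (d := s) (inv_mul_cancel₀ hs) h4
  rw [← Pi.single_smul', smul_eq_mul, ← mul_assoc s, mul_inv_cancel₀ hs, one_mul] at h5
  have h6 : InTr H (((s⁻¹ * s⁻¹ - s) * v i) • (Pi.single i 1 : V₃)) (Pi.single k ((1 - s ^ 3) * a k)) := by
    have h3' : InTr H (-(fun l => if l = i then s * v l else s⁻¹ * v l) : V₃)
        (Pi.single k ((1 - s ^ 3) * a k)) := by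
      simpa using InTr.scale (c := (-1 : F)) (d := -1) (by ring) h3.neg
    refine (InTr.addCentre h5 h3').congr (funext fun l => ?_) rfl
    rcases eq_three hij hik hjk l with rfl | rfl | rfl
    · simp; ring
    · simp [hij.symm]
    · simp [hik.symm, hvk]
  have hne : (s⁻¹ * s⁻¹ - s) * v i ≠ 0 := mul_ne_zero (sub_ne_zero.mpr fun e => hs3 (by
    calc s ^ 3 = s * (s * s) := by ring
      _ = s⁻¹ * s⁻¹ * (s * s) := by rw [e]
      _ = 1 := by field_simp)) hi
  have h7 := InTr.scale (c := ((s⁻¹ * s⁻¹ - s) * v i)⁻¹) (d := (s⁻¹ * s⁻¹ - s) * v i) (inv_mul_cancel₀ hne) h6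
  rw [smul_smul, inv_mul_cancel₀ hne, one_smul, ← Pi.single_smul', smul_eq_mul] at h7
  exact fullSub_of_elem hH hM hik hij hkj (mul_ne_zero hne hc) h7

theorem eq_of_axis_zero {s : F} (hs : s ≠ 0) (hs3 : s ^ 3 ≠ 1) {a : V₃} {k : Fin 3} {c : F} (hc : c ≠ 0)
    (hak : a k = 0) (ha0 : a ≠ 0) (h : InTr H (Pi.single k c) a) : H = slGL 3 F := by
  classical
  obtain ⟨i, hi⟩ : ∃ i, a i ≠ 0 := by
    by_contra h0; push Not at h0; exact ha0 (funext h0)
  have hik : i ≠ k := fun e => hi (e ▸ hak)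
  obtain ⟨j, hij, hkj⟩ := exists_other hik
  have hjk := hkj.symm
  obtain ⟨g₃, hg₃, e₃⟩ := exists_pair hH hM hij hik hjk (x := s⁻¹) (inv_ne_zero hs)
  have h3 : InTr H (Pi.single k c) (fun l => if l = i then s⁻¹ * a l else s * a l) := by
    refine InTr.conj' hg₃ h (funext fun l => ?_) fun z => ?_
    · rcases eq_three hij hik hjk l with rfl | rfl | rfl
      · rw [(e₃ _).1]; simp [hik]
      · rw [(e₃ _).2.1]; simp [hjk]
      · rw [(e₃ _).2.2]
    · rw [dot_three hij hik hjk, dot_three hij hik hjk a z, if_pos rfl, if_neg hij.symm, if_neg hik.symm,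
        (e₃ z).1, (e₃ z).2.1, (e₃ z).2.2, hak]
      field_simp
      ring
  obtain ⟨g₄, hg₄, e₄⟩ := exists_pair hH hM hik hij hkj (x := s) hs
  have h4 : InTr H (Pi.single k (s * c)) (fun l => if l = i then s * a l else a l) := by
    refine InTr.conj' hg₄ h (funext fun l => ?_) fun z => ?_
    · rcases eq_three hij hik hjk l with rfl | rfl | rfl
      · rw [(e₄ _).1]; simp [hik]
      · rw [(e₄ _).2.2]; simp [hjk]
      · rw [(e₄ _).2.1]; simp
    · rw [dot_three hij hik hjk, dot_three hij hik hjk a z, if_pos rfl, if_neg hij.symm, if_neg hik.symm,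
        (e₄ z).1, (e₄ z).2.1, (e₄ z).2.2, hak]
      field_simp
      ring
  have h5 := InTr.scale (c := s⁻¹) (d := s) (inv_mul_cancel₀ hs) h4
  rw [← Pi.single_smul', smul_eq_mul, ← mul_assoc, inv_mul_cancel₀ hs, one_mul] at h5
  have h6 : InTr H (Pi.single k c) (Pi.single i ((s * s - s⁻¹) * a i)) := by
    refine (h5.sub h3).congr rfl (funext fun l => ?_)
    rcases eq_three hij hik hjk l with rfl | rfl | rfl
    · simp; ring
    · simp [hij.symm]
    · simp [hik.symm, hak]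
  have hne : (s * s - s⁻¹) * a i ≠ 0 := mul_ne_zero (sub_ne_zero.mpr fun e => hs3 (by
    calc s ^ 3 = s * s * s := by ring
      _ = s⁻¹ * s := by rw [e]
      _ = 1 := inv_mul_cancel₀ hs)) hi
  have h7 := InTr.scale (c := c⁻¹) (d := c) (inv_mul_cancel₀ hc) h6
  rw [← Pi.single_smul', smul_eq_mul, inv_mul_cancel₀ hc, ← Pi.single_smul', smul_eq_mul] at h7
  exact fullSub_of_elem hH hM hik.symm hkj hij (mul_ne_zero hc hne) h7

theorem eq_of_ref {s : F} (hs : s ≠ 0) (hs3 : s ^ 3 ≠ 1) {v ψ : V₃} (h : IsRef H v ψ)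
    (hfull : ∀ k, v k ≠ 0) : H = slGL 3 F := by
  classical
  -- a zero in the axis
  have hz' : ∀ {v ψ : V₃} {k : Fin 3}, IsRef H v ψ → v k ≠ 0 → ψ k = 0 → H = slGL 3 F := by
    intro v ψ k h hvk hψk
    obtain ⟨i, j, hij, hik, hjk⟩ := exists_two_others k
    obtain ⟨g₁, hg₁, e₁⟩ := exists_pair hH hM hik hij hjk.symm (x := s⁻¹) (inv_ne_zero hs)
    obtain ⟨g₂, hg₂, e₂⟩ := exists_pair hH hM hjk (Ne.symm hij) (Ne.symm hik) (x := s⁻¹) (inv_ne_zero hs)
    have h1 : IsRef H (fun l => if l = k then s⁻¹ ^ 2 * v l else s * v l) (s⁻¹ • ψ) := by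
      refine h.conj' (H.mul_mem hg₂ hg₁) (funext fun l => ?_) fun z => ?_
      · rw [Units.val_mul, ← mulVec_mulVec]
        rcases eq_three hij hik hjk l with rfl | rfl | rfl
        · rw [(e₂ _).2.2, (e₁ _).1]; simp [hik]
        · rw [(e₂ _).1, (e₁ _).2.2]; simp [hjk]
        · rw [(e₂ _).2.1, (e₁ _).2.1]; simp; ring
      · rw [Units.val_mul, ← mulVec_mulVec, dot_three hij hik hjk, dot_three hij hik hjk ψ z,
          (e₂ _).1, (e₂ _).2.1, (e₂ _).2.2, (e₁ _).1, (e₁ _).2.1, (e₁ _).2.2]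
        simp only [Pi.smul_apply, smul_eq_mul, hψk]
        field_simp
        ring
    have h2 := h1.scale (c := s⁻¹) (d := s) (inv_mul_cancel₀ hs)
    rw [smul_smul, mul_inv_cancel₀ hs, one_smul] at h2
    have h3 : InTr H (Pi.single k ((s⁻¹ ^ 3 - 1) * v k)) ψ := by
      refine (h.sameAxis h2).congr (funext fun l => ?_) rfl
      by_cases hl : l = k
      · subst hl; simp; ring
      · simp [hl, ← mul_assoc, inv_mul_cancel₀ hs]
    refine eq_of_axis_zero hH hM hs hs3 (mul_ne_zero (sub_ne_zero.mpr fun e => hs3 ?_) hvk) hψk h.axis_ne h3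
    rw [inv_pow, inv_eq_one] at e
    exact e
  by_cases hψ : ∃ k, ψ k = 0
  · obtain ⟨k, hk⟩ := hψ
    exact hz' h (hfull k) hk
  push Not at hψ
  -- unequal products
  by_cases hπ : ∃ i j, i ≠ j ∧ v i * ψ i ≠ v j * ψ j
  · obtain ⟨i, j, hij, hne⟩ := hπ
    obtain ⟨k, hik, hjk⟩ := exists_other hij
    have hx : ψ i / ψ j ≠ 0 := div_ne_zero (hψ i) (hψ j)
    have hr := isRef_swap hH hM hij hx
    have h1 := h.conjRef hr
    have e0 : ψ ⬝ᵥ swapC i j (ψ i / ψ j) = 0 := by rw [dot_swapC, div_mul_cancel₀ _ (hψ j), sub_self]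
    rw [e0, zero_smul, add_zero] at h1
    have h2 := h1.sameCentre hr
    rw [add_sub_cancel_left] at h2
    refine eq_of_centre_zero hH hM hs hs3 (k := k) hr.centre_ne (swapC_apply_other hik hjk _) ?_ h2
    rw [Pi.smul_apply, smul_eq_mul, swapA_dot]
    refine mul_ne_zero (fun e => hne ?_) (hψ k)
    rw [inv_div, div_mul_eq_mul_div] at e
    linear_combination (-ψ i) * e + div_mul_cancel₀ (ψ j * v j) (hψ i)
  push Not at hπ
  have hd := h.dot
  rw [dot_three (show (0 : Fin 3) ≠ 1 by decide) (show (0 : Fin 3) ≠ 2 by decide) (show (1 : Fin 3) ≠ 2 by decide),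
    mul_comm (ψ 0), mul_comm (ψ 1), mul_comm (ψ 2), ← hπ 0 1 (by decide), ← hπ 0 2 (by decide)] at hd
  set π := v 0 * ψ 0 with hπ0
  have hπne : π ≠ 0 := mul_ne_zero (hfull 0) (hψ 0)
  have h2 : (2 : F) ≠ 0 := fun e => hπne (by linear_combination hd + (-1 - π) * e)
  have hπ1 : v 1 * ψ 1 = π := (hπ 0 1 (by decide)).symm
  have hx : (-2) * v 1 / v 0 ≠ 0 := div_ne_zero (mul_ne_zero (neg_ne_zero.mpr h2) (hfull 1)) (hfull 0)
  have hr := (isRef_swap hH hM (show (0 : Fin 3) ≠ 1 by decide) hx).scale (c := v 0) (d := (v 0)⁻¹)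
    (mul_inv_cancel₀ (hfull 0))
  refine hz' (k := 0) (h.conjRef hr) ?_ ?_
  · have hv0 := hfull 0
    rw [Pi.add_apply, Pi.smul_apply, Pi.smul_apply, dotProduct_smul, dot_swapC, swapC_apply_fst (by decide),
      smul_eq_mul, smul_eq_mul, smul_eq_mul]
    rw [show v 0 * 1 + v 0 * (ψ 0 - -2 * v 1 / v 0 * ψ 1) * v 0 = v 0 * (1 + (π + 2 * π)) by
      have e1 : -2 * v 1 / v 0 * ψ 1 * v 0 = -2 * π := by
        rw [show -2 * v 1 / v 0 * ψ 1 * v 0 = -2 * (v 1 * ψ 1) * (v 0 / v 0) by ring, hπ1, div_self hv0, mul_one]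
      linear_combination (-v 0) * e1 + (v 0) * hπ0.symm]
    rw [show 1 + (π + 2 * π) = -1 by linear_combination hd]
    simpa using hfull 0
  · have hv0 := hfull 0
    have hv1 := hfull 1
    rw [Pi.add_apply, Pi.smul_apply, Pi.smul_apply, smul_dotProduct, swapA_dot, smul_eq_mul, smul_eq_mul,
      smul_eq_mul, show swapA (0 : Fin 3) 1 (-2 * v 1 / v 0) 0 = -1 by simp [swapA]]
    field_simp
    linear_combination (-1 : F) * hd + (3 : F) * hπ0

theorem eq_slGL_of_not_mono_three (hq : 5 ≤ Fintype.card F) {g : GL (Fin 3) F} (hg : g ∈ H)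
    (hgn : ¬ IsMono g) : H = slGL 3 F := by
  classical
  obtain ⟨s, hs0, hs1, -, hs3⟩ := LinearFrame.exists_ne_order_three (F := F) hq
  have hs : s ^ 3 ≠ 1 := fun e => by
    rcases mul_eq_zero.mp (show (s - 1) * (s * s + s + 1) = 0 by linear_combination e) with h | h
    · exact hs1 (sub_eq_zero.mp h)
    · exact hs3 h
  by_contra hne
  have hzero : ∀ i j : Fin 3, i ≠ j → ∀ x : F, x ≠ 0 → ∃ k, ((g : M₃) *ᵥ swapC i j x) k = 0 := by
    intro i j hij x hx
    by_contra hno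
    push Not at hno
    exact hne (eq_of_ref hH hM hs0 hs ((isRef_swap hH hM hij hx).conj' hg rfl (fun z =>
      show (swapA i j x ᵥ* ((g⁻¹ : GL (Fin 3) F) : M₃)) ⬝ᵥ ((g : M₃) *ᵥ z) = _ by
        rw [← dotProduct_mulVec, LinearFrame.inv_mulVec_mulVec])) hno)
  have hpair : ∀ i j : Fin 3, i ≠ j → ∃ k, ((g : M₃) *ᵥ Pi.single i 1) k = 0 ∧
      ((g : M₃) *ᵥ Pi.single j 1) k = 0 := by
    intro i j hij
    choose K hK using hzero i j hij
    obtain ⟨a, -, b, -, hab, e⟩ := Finset.exists_ne_map_eq_of_card_lt_of_maps_to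
      (s := (Finset.univ : Finset Fˣ)) (t := (Finset.univ : Finset (Fin 3))) (f := fun x : Fˣ => K x x.ne_zero)
      (by rw [Finset.card_univ, Finset.card_univ, Fintype.card_fin, Fintype.card_units]; omega)
      (fun x _ => Finset.mem_univ _)
    refine ⟨K a a.ne_zero, ?_⟩
    have h1 := hK a a.ne_zero
    have h2 := hK b b.ne_zero
    simp only [swapC, mulVec_sub, mulVec_smul, Pi.sub_apply, Pi.smul_apply, smul_eq_mul] at h1 h2
    rw [show K (b : F) b.ne_zero = K (a : F) a.ne_zero from e.symm] at h2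
    have h3 : ((g : M₃) *ᵥ Pi.single j 1) (K (a : F) a.ne_zero) = 0 :=
      (mul_eq_zero.mp (show ((b : F) - a) * _ = 0 by linear_combination h1 - h2)).resolve_left
        (sub_ne_zero.mpr fun e' => hab (Units.ext e'.symm))
    rw [h3, mul_zero, sub_zero] at h1
    exact ⟨h1, h3⟩
  apply hgn
  intro l
  obtain ⟨m, n, hlm, hln, hmn⟩ : ∃ m n : Fin 3, l ≠ m ∧ l ≠ n ∧ m ≠ n := by revert l; decide
  obtain ⟨a, ha1, ha2⟩ := hpair l m hlm
  obtain ⟨b, hb1, hb2⟩ := hpair l n hln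
  have hab : a ≠ b := by
    rintro rfl
    obtain ⟨c, hc⟩ := LinearFrame.exists_col_ne g a
    rcases eq_three hlm hln hmn c with rfl | rfl | rfl <;> [exact hc ha1; exact hc ha2; exact hc hb2]
  obtain ⟨o, hao, hbo⟩ := exists_other hab
  refine ⟨o, ((g : M₃) *ᵥ Pi.single l 1) o, funext fun r => ?_⟩
  rcases eq_three hab hao hbo r with rfl | rfl | rfl
  · simp [hao, ha1]
  · simp [hbo, hb1]
  · simp

end

/-- Three lines, at least five field elements. -/
theorem decomposition_lines_three (hq : 5 ≤ Fintype.card F) (D : Fin 3 → Submodule F V₃)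
    (hD : Cfsg.Geo.IsMDecomposition 1 D) :
    Cfsg.Geo.IsMaximalIn (Cfsg.Geo.specialLinear (Fin 3) F)
      (Cfsg.Geo.decompositionStabilizer D ⊓ Cfsg.Geo.specialLinear (Fin 3) F) := by
  classical
  obtain ⟨e, P, hP⟩ := LinearFrame.exists_coords hD
  have hsl : ∀ k : GL (Fin 3) F, P * k * P⁻¹ ∈ slGL 3 F ↔ k ∈ slGL 3 F := fun k => by
    show Matrix.GeneralLinearGroup.det (P * k * P⁻¹) = 1 ↔ Matrix.GeneralLinearGroup.det k = 1
    rw [map_mul, map_mul, map_inv, mul_inv_cancel_comm]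
  refine ⟨lt_of_le_of_ne inf_le_right fun heq => ?_, fun M hKM hMS => ?_⟩
  · exact MaxClass.not_le_decompositionStabilizer hD (fun g hg => (heq.ge hg).1)
  by_cases hMK : M ≤ Cfsg.Geo.decompositionStabilizer D ⊓ slGL 3 F
  · exact Or.inl (le_antisymm hMK hKM)
  right
  obtain ⟨g, hgM, hgK⟩ := SetLike.not_le_iff_exists.mp hMK
  set H : Subgroup (GL (Fin 3) F) := M.comap (MulAut.conj P).toMonoidHom with hHdef
  have hmemH : ∀ k, k ∈ H ↔ P * k * P⁻¹ ∈ M := fun k => Iff.rfl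
  have hHsl : H ≤ slGL 3 F := fun k hk => (hsl k).mp (hMS ((hmemH k).mp hk))
  have hB : ContainsMono H := fun k hk hkb => (hmemH k).mpr (hKM ⟨(hP _).mpr (by
    rw [show P⁻¹ * (P * k * P⁻¹) * P = k by group]
    exact LinearFrame.blockMono_iff_isMono.mpr hkb), (hsl k).mpr hk⟩)
  have hg' : P⁻¹ * g * P ∈ H := (hmemH _).mpr (by rw [show P * (P⁻¹ * g * P) * P⁻¹ = g by group]; exact hgM)
  have hall : H = slGL 3 F := eq_slGL_of_not_mono_three hHsl hB hq hg'
    fun h => hgK ⟨(hP g).mpr (LinearFrame.blockMono_iff_isMono.mpr h), hMS hgM⟩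
  refine le_antisymm hMS fun k hk => ?_
  have h3 : P⁻¹ * k * P ∈ slGL 3 F := (hsl _).mp (by rw [show P * (P⁻¹ * k * P) * P⁻¹ = k by group]; exact hk)
  rw [← hall, hmemH, show P * (P⁻¹ * k * P) * P⁻¹ = k by group] at h3
  exact h3

end Cfsg.Agent.Lib.SLThree78
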