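import Cfsg.Agent.Lib.SLThree78.Frame
import Cfsg.Agent.Lib.GeoTypesSL4.QuadIso
import Cfsg.Agent.Lib.Forms.CharTwoPoints

/-!
The similitudes of a quadratic form in three variables, odd characteristic.
-/

set_option autoImplicit false
set_option linter.unusedSectionVars false

namespace Cfsg.Agent.Lib.SLThree78

open Matrix QuadraticMap
open Cfsg.Agent.Lib.SubfieldMax (InTr)
open Cfsg.Agent.Lib.FormMax.OrthSL (dual dual_dot dual_bijective conds mem_ker_conds eichlerGL eichlerGL_mulVec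
  eichlerGL_mem Q_eichlerGL ker_conds_ne_bot polar_of_isometry)

variable {F : Type*} [Field F] [Fintype F] {Q : QuadraticForm F (Fin 3 → F)} {H : Subgroup (GL (Fin 3) F)}

local notation "V₃" => (Fin 3 → F)
local notation "M₃" => Matrix (Fin 3) (Fin 3) F

theorem exists_sq_sub (h2 : (2 : F) ≠ 0) (t : F) : ∃ a b : F, a ^ 2 - b ^ 2 = t :=
  ⟨(t + 1) / 2, (t - 1) / 2, by field_simp; ring⟩

section

variable (hQ : (QuadraticMap.polarBilin Q).Nondegenerate) (h2 : (2 : F) ≠ 0)
include hQ h2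

theorem exists_triple {e : V₃} (he0 : e ≠ 0) (he : Q e = 0) :
    ∃ f y, Q f = 0 ∧ polar ⇑Q e f = 1 ∧ polar ⇑Q e y = 0 ∧ polar ⇑Q f y = 0 ∧ Q y ≠ 0 ∧
      Submodule.span F ({e, f, y} : Set V₃) = ⊤ := by
  classical
  obtain ⟨f, hf, hef⟩ := Orth.exists_partner hQ he0 he
  obtain ⟨y, hy, hy0⟩ := Submodule.exists_mem_ne_zero_of_ne_bot (ker_conds_ne_bot (Q := Q) ![e, f] (by simp))
  have hey : polar ⇑Q e y = 0 := mem_ker_conds.mp hy 0
  have hfy : polar ⇑Q f y = 0 := mem_ker_conds.mp hy 1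
  have hli : LinearIndependent F ![e, f, y] := by
    rw [Fintype.linearIndependent_iff]
    intro c hc
    rw [Fin.sum_univ_three] at hc
    simp only [Matrix.cons_val_zero, Matrix.cons_val_one, Matrix.cons_val] at hc
    have h0 := congrArg (polar ⇑Q f) hc
    have h1 := congrArg (polar ⇑Q e) hc
    simp only [polar_add_right, polar_smul_right, polar_comm (⇑Q) f e, hef, hfy, hey,
      Orth.polar_self_zero hf, Orth.polar_self_zero he, polar_zero_right, smul_eq_mul] at h0 h1
    simp only [mul_one, mul_zero, add_zero, zero_add] at h0 h1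
    rw [h0, h1, zero_smul, zero_smul, zero_add, zero_add, smul_eq_zero] at hc
    exact fun i => by fin_cases i <;> [exact h0; exact h1; exact hc.resolve_right hy0]
  have hspan : Submodule.span F ({e, f, y} : Set V₃) = ⊤ := by
    rw [← hli.span_eq_top_of_card_eq_finrank (by simp), Matrix.range_cons, Matrix.range_cons, Matrix.range_cons,
      Matrix.range_empty]
    congr 1
    ext z
    simp only [Set.union_empty, Set.mem_union, Set.mem_singleton_iff, Set.mem_insert_iff]
  refine ⟨f, y, hf, hef, hey, hfy, fun hQy => hy0 (hQ.1 y fun t => ?_), hspan⟩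
  have ht : t ∈ Submodule.span F ({e, f, y} : Set V₃) := hspan ▸ Submodule.mem_top
  induction ht using Submodule.span_induction with
  | mem z hz =>
    rcases hz with rfl | rfl | rfl
    · show polar ⇑Q y _ = 0
      rw [polar_comm, hey]
    · show polar ⇑Q y _ = 0
      rw [polar_comm, hfy]
    · exact Orth.polar_self_zero hQy
  | zero => exact map_zero _
  | add a b _ _ ha hb => rw [map_add, ha, hb, add_zero]
  | smul c a _ ha => rw [map_smul, ha, smul_zero]

theorem exists_anisotropic_to_singular {g : GL (Fin 3) F}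
    (hg : g ∉ Cfsg.Geo.quadSimilarityGroup ⇑Q) : ∃ p, Q p ≠ 0 ∧ Q ((g : M₃) *ᵥ p) = 0 := by
  classical
  by_contra hno
  push Not at hno
  have hback : ∀ x, Q ((g : M₃) *ᵥ x) = 0 → Q x = 0 := fun x hx => by
    by_contra h; exact hno x h hx
  have hforw : ∀ x, Q x = 0 → Q ((g : M₃) *ᵥ x) = 0 := by
    let S := {x : V₃ // Q x = 0}
    let φ : S → S := fun x => ⟨((g⁻¹ : GL (Fin 3) F) : M₃) *ᵥ x.1, hback _ (by
      rw [LinearFrame.mulVec_inv_mulVec]; exact x.2)⟩
    have hφ : Function.Injective φ := fun a b e => Subtype.ext (LinearFrame.mulVec_inj g⁻¹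
      (congrArg Subtype.val e))
    intro x hx
    obtain ⟨z, hz⟩ := Finite.surjective_of_injective hφ ⟨x, hx⟩
    rw [show x = (φ z).1 by rw [hz], LinearFrame.mulVec_inv_mulVec]
    exact z.2
  set P : QuadraticForm F V₃ := Q.comp (Matrix.mulVecLin (g : M₃)) with hP
  have hPx : ∀ x, P x = Q ((g : M₃) *ᵥ x) := fun x => rfl
  have hz : ∀ x, P x = 0 ↔ Q x = 0 := fun x => by rw [hPx]; exact ⟨hback x, hforw x⟩
  obtain ⟨e, he0, he⟩ := Orth.exists_singular h2 hQ (by simp)
  obtain ⟨f, y, hf, hef, hey, hfy, hy, hspan⟩ := exists_triple hQ h2 he0 he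
  have hPe : P e = 0 := (hz e).2 he
  have hPf : P f = 0 := (hz f).2 hf
  have key : ∀ u : V₃, Q u = 0 → polar ⇑Q u y = 0 → polar ⇑P u y = 0 := by
    intro u hu huy
    by_contra hne
    refine hy ?_
    have h1 := (hz ((-(P y) / polar ⇑P u y) • u + y)).1 (by
      rw [QuadraticMap.map_add (⇑P), QuadraticMap.map_smul, (hz u).2 hu, smul_zero, polar_smul_left,
        smul_eq_mul, div_mul_cancel₀ _ hne]
      ring)
    rwa [QuadraticMap.map_add (⇑Q), QuadraticMap.map_smul, hu, smul_zero, polar_smul_left, huy, smul_zero,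
      zero_add, add_zero] at h1
  have hPey := key e he hey
  have hPfy := key f hf hfy
  set k := polar ⇑P e f with hk
  have hcomb : ∀ a b c : F, P (a • e + b • f + c • y) = a * b * k + c ^ 2 * P y ∧
      Q (a • e + b • f + c • y) = a * b + c ^ 2 * Q y := by
    intro a b c
    constructor
    · simp only [QuadraticMap.map_add (⇑P), QuadraticMap.map_smul, polar_smul_left, polar_smul_right,
        polar_add_left, hPe, hPf, hPey, hPfy, ← hk, smul_eq_mul]
      ring
    · simp only [QuadraticMap.map_add (⇑Q), QuadraticMap.map_smul, polar_smul_left, polar_smul_right,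
        polar_add_left, he, hf, hey, hfy, hef, smul_eq_mul]
      ring
  have hPy : P y = k * Q y := by
    have h := (hz ((-Q y) • e + (1 : F) • f + (1 : F) • y)).2 (by rw [(hcomb _ _ _).2]; ring)
    rw [(hcomb _ _ _).1] at h
    linear_combination h
  have hk0 : k ≠ 0 := fun e0 => hy ((hz y).1 (by rw [hPy, e0, zero_mul]))
  refine hg ⟨Units.mk0 k hk0, fun x => ?_⟩
  obtain ⟨a, w, hw, rfl⟩ := Submodule.mem_span_insert.mp (hspan ▸ Submodule.mem_top :
    x ∈ Submodule.span F ({e, f, y} : Set V₃))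
  obtain ⟨b, c, rfl⟩ := Submodule.mem_span_pair.mp hw
  rw [← hPx, ← add_assoc, (hcomb a b c).1, (hcomb a b c).2, hPy, Units.val_mk0]
  ring

end

variable (hQ : (QuadraticMap.polarBilin Q).Nondegenerate) (h2 : (2 : F) ≠ 0)
  (hM : Cfsg.Geo.quadSimilarityGroup ⇑Q ⊓ Cfsg.Geo.specialLinear (Fin 3) F ≤ H)
include hQ h2 hM

theorem isRef_reflection {p : V₃} (hp : Q p ≠ 0) : IsRef H p (dual Q (-(Q p)⁻¹ • p)) := by
  have hp0 : p ≠ 0 := fun e => hp (by rw [e, QuadraticMap.map_zero])
  have hd : dual Q (-(Q p)⁻¹ • p) ⬝ᵥ p = -2 := by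
    rw [dual_dot, polar_smul_left, Orth.polar_self_eq, smul_eq_mul]
    field_simp
  refine ⟨hp0, fun e => ?_, hd, ?_⟩
  · rw [e, zero_dotProduct] at hd
    exact h2 (by linear_combination hd)
  set ψ := dual Q (-(Q p)⁻¹ • p)
  let A : M₃ := -(1 + vecMulVec p ψ)
  have hA : ∀ z, A *ᵥ z = -(z + (ψ ⬝ᵥ z) • p) := fun z => by
    simp only [A, neg_mulVec, add_mulVec, one_mulVec, vecMulVec_mulVec, op_smul_eq_smul]
  obtain ⟨g, hgM, -, hgA⟩ := GeoTypesSL4.Quad.exists_iso_of_det (Q := Q) A (by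
    simp only [A, det_neg, Fintype.card_fin]
    rw [vecMulVec_eq Unit, det_one_add_replicateCol_mul_replicateRow, hd]
    ring) (fun x => by
    rw [hA, QuadraticMap.map_neg, QuadraticMap.map_add (⇑Q), QuadraticMap.map_smul, polar_smul_right,
      polar_comm _ x p, dual_dot, polar_smul_left]
    simp only [smul_eq_mul]
    field_simp
    ring)
  exact ⟨g, hM hgM, fun z => by rw [hgA, hA]⟩

theorem eq_SL_of_singular_centre (hH : H ≤ Cfsg.Geo.specialLinear (Fin 3) F) {v ψ : V₃} (hvQ : Q v = 0)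
    (h : IsRef H v ψ) : H = Cfsg.Geo.specialLinear (Fin 3) F := by
  classical
  have hv0 := h.centre_ne
  obtain ⟨w, rfl⟩ := (dual_bijective hQ).2 ψ
  have hwv : polar ⇑Q w v = -2 := by rw [← dual_dot]; exact h.dot
  obtain ⟨f, y, hf, hvf, hvy, hfy, hy, hspan⟩ := exists_triple hQ h2 hv0 hvQ
  -- the Eichler elements fix the centre and move the axis
  have hroot : ∀ l : F, InTr H v (dual Q ((2 * l) • y + (l * polar ⇑Q y w - 2 * l ^ 2 * Q y) • v)) := by
    intro l
    have ha : polar ⇑Q v (l • y) = 0 := by rw [polar_smul_right, hvy, smul_zero]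
    set E := eichlerGL Q v (l • y) hvQ ha
    have hE : E ∈ H := hM (eichlerGL_mem hvQ ha)
    have h' : IsRef H v (dual Q ((E : M₃) *ᵥ w)) := by
      refine h.conj' hE ?_ fun z => ?_
      · rw [eichlerGL_mulVec, Orth.polar_self_zero hvQ, polar_comm _ (l • y) v, ha]
        simp
      · rw [dual_dot, dual_dot, polar_of_isometry fun x => Q_eichlerGL hvQ ha x]
    refine (h.sameCentre h').congr rfl ?_
    rw [← map_sub, eichlerGL_mulVec, polar_comm _ v w, hwv, polar_smul_left, QuadraticMap.map_smul]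
    congr 1
    simp only [smul_eq_mul]
    module
  have hvv : ∀ t : F, InTr H v (dual Q (t • v)) := by
    intro t
    obtain ⟨a, b, hab⟩ := exists_sq_sub h2 (-t / (4 * Q y))
    have hsq : ∀ l : F, InTr H v (dual Q ((-(4 * Q y) * l ^ 2) • v)) := fun l => by
      refine ((hroot l).add (hroot (-l))).congr rfl ?_
      rw [← map_add]
      congr 1
      simp only [mul_neg, neg_mul, neg_sq]
      module
    refine ((hsq a).sub (hsq b)).congr rfl ?_
    rw [← map_sub, ← sub_smul]
    congr 1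
    congr 1
    have h4 : (4 : F) ≠ 0 := by rw [show (4 : F) = 2 * 2 by norm_num]; exact mul_ne_zero h2 h2
    rw [show -(4 * Q y) * a ^ 2 - -(4 * Q y) * b ^ 2 = -(4 * Q y) * (a ^ 2 - b ^ 2) by ring, hab]
    field_simp
  have hvy' : ∀ s : F, InTr H v (dual Q (s • y)) := fun s => by
    refine ((hroot (s / 2)).sub (hvv (s / 2 * polar ⇑Q y w - 2 * (s / 2) ^ 2 * Q y))).congr rfl ?_
    rw [← map_sub, add_sub_cancel_right, mul_div_cancel₀ _ h2]
  have hfull : v ∈ fullSub H := by
    intro a ha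
    obtain ⟨u, rfl⟩ := (dual_bijective hQ).2 a
    rw [dual_dot] at ha
    obtain ⟨c₁, w', hw', rfl⟩ := Submodule.mem_span_insert.mp (hspan ▸ Submodule.mem_top :
      u ∈ Submodule.span F ({v, f, y} : Set V₃))
    obtain ⟨c₂, c₃, rfl⟩ := Submodule.mem_span_pair.mp hw'
    rw [polar_add_left, polar_add_left, polar_smul_left, polar_smul_left, polar_smul_left,
      Orth.polar_self_zero hvQ, polar_comm _ f v, hvf, polar_comm _ y v, hvy] at ha
    simp only [smul_eq_mul, mul_zero, mul_one, zero_add, add_zero] at ha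
    refine ((hvv c₁).add (hvy' c₃)).congr rfl ?_
    rw [ha, zero_smul, zero_add, map_add]
  have hmove : ∀ p, Q p ≠ 0 → ∀ z ∈ fullSub H, polar ⇑Q p z ≠ 0 → p ∈ fullSub H := by
    intro p hp z hz hpz
    obtain ⟨-, -, -, m, hm, he⟩ := isRef_reflection hQ h2 hM hp
    have h1 : (m : M₃) *ᵥ z + z ∈ fullSub H :=
      add_mem (show (m : M₃) *ᵥ z ∈ fullSub H from FullC.conj hz hm) hz
    rw [he, neg_add_rev, add_assoc, neg_add_cancel, add_zero, dual_dot, polar_smul_left, smul_eq_mul,
      ← neg_smul] at h1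
    refine (Submodule.smul_mem_iff _ ?_).mp h1
    simp [hp, hpz]
  have hp1 : v + f ∈ fullSub H := hmove _ (by
    rw [QuadraticMap.map_add (⇑Q), hvQ, hf, hvf]; simp) v hfull (by
    rw [polar_add_left, Orth.polar_self_zero hvQ, polar_comm, hvf]; simp)
  have hfm : f ∈ fullSub H := by simpa using sub_mem hp1 hfull
  have hp2 : f + y ∈ fullSub H := hmove _ (by
    rw [QuadraticMap.map_add (⇑Q), hf, hfy]; simpa using hy) v hfull (by
    rw [polar_add_left, polar_comm _ f v, hvf, polar_comm _ y v, hvy]; simp)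
  have hym : y ∈ fullSub H := by simpa using sub_mem hp2 hfm
  refine eq_SL_of_fullSub hH (top_unique ?_)
  rw [← hspan, Submodule.span_le]
  rintro z (rfl | rfl | rfl)
  exacts [hfull, hfm, hym]

end Cfsg.Agent.Lib.SLThree78

namespace Cfsg.Agent.Lib.SLThree78

open Matrix

variable {F : Type*} [Field F] [Fintype F]

/-- The similitudes of a quadratic form in three variables are maximal, odd order. -/
theorem isMaximalIn_quad_three (hodd : Odd (Fintype.card F)) (Q : (Fin 3 → F) → F)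
    (hQ : Cfsg.Geo.IsNondegenerateQuadraticForm Q) :
    Cfsg.Geo.IsMaximalIn (Cfsg.Geo.specialLinear (Fin 3) F)
      (Cfsg.Geo.quadSimilarityGroup Q ⊓ Cfsg.Geo.specialLinear (Fin 3) F) := by
  have h2 : (2 : F) ≠ 0 := Ring.two_ne_zero fun h => by
    have h' := FiniteField.even_card_of_char_two h
    obtain ⟨k, hk⟩ := hodd; omega
  refine ⟨lt_of_le_of_ne inf_le_right fun heq => ?_, fun H hMH hHS => ?_⟩
  · exact MaxClass.not_le_quadSimilarityGroup (by simp) hQ fun g hg => (heq.ge hg).1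
  by_cases hle : H ≤ Cfsg.Geo.quadSimilarityGroup Q
  · exact Or.inl (le_antisymm (le_inf hle hHS) hMH)
  right
  obtain ⟨g, hgH, hg⟩ := SetLike.not_le_iff_exists.mp hle
  have hnd := Forms.nondegenerate_bundleQuad Q hQ
  have hM : Cfsg.Geo.quadSimilarityGroup ⇑(Forms.bundleQuad Q hQ) ⊓ Cfsg.Geo.specialLinear (Fin 3) F ≤ H := hMH
  obtain ⟨p, hp, hgp⟩ := exists_anisotropic_to_singular hnd h2 (g := g) hg
  have hr := isRef_reflection hnd h2 hM hp
  refine eq_SL_of_singular_centre hnd h2 hM hHS hgp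
    (ψ := FormMax.OrthSL.dual (Forms.bundleQuad Q hQ) (-((Forms.bundleQuad Q hQ) p)⁻¹ • p) ᵥ*
      ((g⁻¹ : GL (Fin 3) F) : Matrix (Fin 3) (Fin 3) F)) (hr.conj' hgH rfl fun z => ?_)
  rw [← dotProduct_mulVec, LinearFrame.inv_mulVec_mulVec]

end Cfsg.Agent.Lib.SLThree78
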