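import Cfsg.Agent.Lib.SLThree78.Core
import Cfsg.Agent.Lib.SubfieldMax.LinearSubfield
import Cfsg.Agent.Lib.SL2.SmallConj

/-!
Subfield subgroups of `SL₃`: the arguments of `SubfieldMax.LinearSubfield` carried to three variables, with
the additional small case of a subfield with two elements.
-/

set_option autoImplicit false
set_option linter.unusedSectionVars false

namespace Cfsg.Agent.Lib.SLThree78

open Matrix Cfsg.Agent.Lib Cfsg.Agent.Lib.SubfieldMax

namespace Two

open Cfsg.Agent.Lib.SL2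

variable {F : Type*} [Field F] [Fintype F]

theorem proj_eq_top_two {K : Subfield F} {r : ℕ} (hr : r.Prime) (hcard : Nat.card F = Nat.card K ^ r)
    (S : Subgroup (SLtwo F)) {γ b₁ b₂ : F} (hγ : γ ≠ 0) (hb₁ : b₁ ≠ 0) (hirr : b₂ / b₁ ∉ K)
    (hl : lower γ ∈ S) (h1 : ∀ k : K, upper ((k : F) * b₁) ∈ S) (h2 : upper b₂ ∈ S)
    (hbig : 4 ≤ Nat.card {b : F // upper b ∈ S}) (hK : Nat.card K = 2) : S.map proj = ⊤ := by
  classical
  obtain ⟨p, hp, hpc⟩ : ∃ p, p.Prime ∧ CharP F p :=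
    ⟨ringChar F, CharP.char_is_prime F _, ringChar.charP F⟩
  haveI : Fact p.Prime := ⟨hp⟩
  obtain ⟨n, -, hn⟩ := FiniteField.card F p
  set H := S.map proj with hH
  have hup : ∀ b, upper b ∈ S → proj (upper b) ∈ H := fun b hb => ⟨_, hb, rfl⟩
  have hb₁S : upper b₁ ∈ S := by simpa using h1 1
  have ha : proj (lower γ) ∈ H := ⟨_, hl, rfl⟩
  have hb : proj (upper b₁) ∈ H := hup _ hb₁S
  -- the upper unipotent part
  have hU : 4 ≤ Nat.card (upperSet H) :=
    hbig.trans (Nat.card_le_card_of_injective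
      (fun b : {b : F // upper b ∈ S} => (⟨b.1, hup _ b.2⟩ : upperSet H))
      fun a b e => Subtype.ext (congrArg (fun x : upperSet H => (x : F)) e))
  have hUH : Nat.card (upperSet H) ∣ Nat.card H := by
    have e : Nat.card (AddSubgroup.toSubgroup (upperSet H)) = Nat.card (upperSet H) := rfl
    rw [← e, ← Subgroup.card_map_of_injective (f := proj.comp (upperHom (F := F))) (fun a b h => by
      exact Multiplicative.toAdd.injective (proj_upper_injective h))]
    refine Subgroup.card_dvd_of_le ?_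
    rintro _ ⟨a, ha', rfl⟩
    exact ha'
  have hUp : ∃ k, Nat.card (upperSet H) = p ^ k := by
    have h := AddSubgroup.card_addSubgroup_dvd_card (upperSet H)
    rw [Nat.card_eq_fintype_card (α := F), hn] at h
    obtain ⟨k, -, hk⟩ := (Nat.dvd_prime_pow hp).mp h
    exact ⟨k, hk⟩
  have hap : proj (lower γ) ^ p = 1 := by
    rw [← map_pow, pow_char_of_tr_two p (by simp [tr]; norm_num), map_one]
  have hbp : proj (upper b₁) ^ p = 1 := by
    rw [← map_pow, pow_char_of_tr_two p (by simp [tr]; norm_num), map_one]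
  have hab : proj (lower γ) * proj (upper b₁) ≠ proj (upper b₁) * proj (lower γ) := by
    rw [← map_mul, ← map_mul]
    intro e
    have hprod : b₁ * γ ≠ 0 := mul_ne_zero hb₁ hγ
    rcases proj_eq_proj_iff.1 e with e | e
    · have h00 := congrArg (fun g : SLtwo F => g 0 0) e
      simp [Matrix.mul_apply, Fin.sum_univ_two] at h00
      exact hprod (by rcases h00 with h | h <;> simp [h])
    · have h00 := congrArg (fun g : SLtwo F => g 0 0) e
      have h10 := congrArg (fun g : SLtwo F => g 1 0) e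
      simp [Matrix.mul_apply, Fin.sum_univ_two] at h00 h10
      have h2 : (2 : F) = 0 :=
        (mul_eq_zero.1 (show (2 : F) * γ = 0 by linear_combination h10)).resolve_right hγ
      exact hprod (by linear_combination h00 - h2)
  rcases dickson p H with h | ⟨A, hA, -, h⟩ | ⟨x, hx, hx1, h⟩ | h | ⟨L, δ, -, h⟩
  · exact absurd (by rw [h, Subgroup.mem_bot] at ha hb; rw [ha, hb]) hab
  · exfalso
    have hdvd : Nat.card H ∣ 2 * Nat.card A := by
      rcases h with ⟨-, h⟩ | ⟨⟨e⟩⟩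
      · rw [h]; exact dvd_mul_left _ _
      · rw [Nat.card_congr e.toEquiv, DihedralGroup.nat_card]
    obtain ⟨k, hk⟩ := hUp
    have hc : Nat.Coprime (p ^ k) (Nat.card A) := (hA.coprime p).symm.pow_left k
    have := Nat.le_of_dvd two_pos (hc.dvd_of_dvd_mul_right (hk ▸ hUH.trans hdvd))
    omega
  · exact absurd (torus_comm hx1 (mem_torus_of_mem_normalizer p hx hx1 (h ha) hap)
      (mem_torus_of_mem_normalizer p hx hx1 (h hb) hbp)) hab
  · have hFr : Fintype.card F = 2 ^ r := by rw [← Nat.card_eq_fintype_card, hcard, hK]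
    have hp2 : p = 2 := by
      have h := dvd_pow_self p n.ne_zero
      rw [← hn, hFr] at h
      exact (Nat.prime_dvd_prime_iff_eq hp Nat.prime_two).mp (hp.dvd_of_dvd_pow h)
    subst hp2
    haveI : CharP F 2 := hpc
    rcases h with ⟨⟨e⟩⟩ | ⟨⟨e⟩⟩ | ⟨⟨e⟩⟩
    · exfalso
      have hA : ∀ x y : alternatingGroup (Fin 4), x * x = 1 → y * y = 1 → x * y = y * x := by decide
      have h1 : (⟨_, ha⟩ : H) * ⟨_, hb⟩ = ⟨_, hb⟩ * ⟨_, ha⟩ := e.injective (by
        rw [map_mul, map_mul]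
        refine hA _ _ ?_ ?_ <;> rw [← map_mul, ← map_one e] <;> congr 1 <;> apply Subtype.ext
        · rw [Subgroup.coe_mul, ← pow_two, hap, Subgroup.coe_one]
        · rw [Subgroup.coe_mul, ← pow_two, hbp, Subgroup.coe_one])
      exact hab (congrArg Subtype.val h1)
    · exfalso
      obtain ⟨s, hs4, hs2⟩ : ∃ s : Equiv.Perm (Fin 4), s ^ 4 = 1 ∧ s * s ≠ 1 := ⟨finRotate 4, by decide, by decide⟩
      obtain ⟨g, hg⟩ := proj_surjective ((e.symm s : H) : PSLtwo F)
      have hg2 : proj g * proj g ≠ 1 := fun h2 => hs2 (e.symm.injective (Subtype.ext (by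
        rw [map_mul, Subgroup.coe_mul, ← hg, h2, map_one, Subgroup.coe_one])))
      have hg4 : proj g ^ 4 = 1 := by rw [hg, ← SubgroupClass.coe_pow, ← map_pow, hs4, map_one, Subgroup.coe_one]
      have h20 : (2 : F) = 0 := CharTwo.two_eq_zero
      have ht : tr g = 2 := by
        rcases (tr_of_pow (fun h1 => hg2 (by rw [h1, one_mul]))).2.2.1 hg4 with ht | ht
        · rw [ht, h20]
        · rw [h20] at ht ⊢
          exact mul_self_eq_zero.mp ht
      exact hg2 (by rw [← pow_two, ← map_pow, pow_char_of_tr_two 2 ht, map_one])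
    · obtain ⟨s, hs5, hs1⟩ : ∃ s : alternatingGroup (Fin 5), s ^ 5 = 1 ∧ s ≠ 1 :=
        ⟨⟨finRotate 5, Equiv.Perm.mem_alternatingGroup.mpr (by decide)⟩, by decide, by decide⟩
      obtain ⟨g, hg⟩ := proj_surjective ((e.symm s : H) : PSLtwo F)
      have hg1 : proj g ≠ 1 := fun h1 => hs1 (e.symm.injective (Subtype.ext (by rw [← hg, h1, map_one, Subgroup.coe_one])))
      have hg5 : proj g ^ 5 = 1 := by rw [hg, ← SubgroupClass.coe_pow, ← map_pow, hs5, map_one, Subgroup.coe_one]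
      have h20 : (2 : F) = 0 := CharTwo.two_eq_zero
      have ht := (tr_of_pow hg1).2.2.2 hg5
      set t := tr g
      have ht' : t * t + t + 1 = 0 := by
        rcases mul_eq_zero.mp ht with h1 | h1
        · linear_combination h1 + h20
        · linear_combination h1 + (t + 1) * h20
      have ht1 : t ≠ 1 := fun h1 => one_ne_zero (α := F) (by rw [h1] at ht'; linear_combination ht' - h20)
      have ht0 : t ≠ 0 := fun h1 => one_ne_zero (α := F) (by rw [h1] at ht'; linear_combination ht')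
      have hord : orderOf (Units.mk0 t ht0) = 3 := orderOf_eq_prime
        (Units.ext (by simp only [Units.val_pow_eq_pow_val, Units.val_mk0, Units.val_one]; linear_combination (t - 1) * ht'))
        (fun h1 => ht1 (by simpa using congrArg Units.val h1))
      have hdvd : 3 ∣ 2 ^ r - 1 := by rw [← hFr, ← Fintype.card_units, ← hord]; exact orderOf_dvd_card
      have hr2 : r = 2 := by
        rcases hr.eq_two_or_odd' with h | ⟨k, rfl⟩
        · exact h
        · exfalso
          have h4 : 4 ^ k % 3 = 1 := by rw [Nat.pow_mod]; norm_num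
          have h5 : 2 ^ (2 * k + 1) % 3 = 2 := by
            rw [pow_succ, pow_mul, Nat.mul_mod, show (2 : ℕ) ^ 2 = 4 by norm_num, h4]
          have h6 := Nat.one_le_two_pow (n := 2 * k + 1)
          obtain ⟨c, hc⟩ := hdvd
          generalize 2 ^ (2 * k + 1) = m at hc h5 h6
          omega
      refine Subgroup.eq_top_of_le_card _ ?_
      rw [card_PSL, hFr, hr2, Nat.card_congr e.toEquiv, nat_card_alternatingGroup, Nat.card_eq_fintype_card,
        Fintype.card_fin]
      decide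
  · have hle : H.map Matrix.ProjectiveSpecialLinearGroup.toPGL ≤
        (glMap L).range.map (MulAut.conj δ).toMonoidHom := by
      rcases h with h | h
      · exact h.le
      · exact h.le.trans (Subgroup.map_mono (slMap_le_glMap L))
    have hγb : ∀ b, upper b ∈ S → γ * b ∈ L := by
      have hf : ∀ b, upper b ∈ S → (2 + γ * b) ^ 2 ∈ L := by
        intro b hb
        have h3 := Cfsg.Agent.S0801.tr_sq_mem hle (g := lower γ * upper b)
          (by rw [map_mul]; exact H.mul_mem ha (hup b hb))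
        convert h3 using 1
        simp [tr, Matrix.mul_apply, Fin.sum_univ_two]; ring
      intro b hb
      by_cases h2 : (2 : F) = 0
      · haveI : CharP F 2 := CharTwo.of_one_ne_zero_of_two_eq_zero one_ne_zero h2
        have h3 := hf b hb
        rw [h2, zero_add] at h3
        haveI : Fintype L := Fintype.ofFinite L
        haveI : CharP L 2 := CharP.subring F 2 L.toSubring
        obtain ⟨y, hy⟩ := FiniteField.isSquare_of_char_two (ringChar.eq L 2) (⟨_, h3⟩ : L)
        have hy' : (γ * b) ^ 2 = (y : F) ^ 2 := by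
          rw [sq (y : F)]; exact congrArg Subtype.val hy
        rw [CharTwo.sq_inj.mp hy']
        exact y.2
      · have hbb : upper (b + b) ∈ S := by rw [← upper_mul]; exact S.mul_mem hb hb
        have h4 : (4 : F) ∈ L := ofNat_mem L 4
        have hsq : (γ * b) ^ 2 ∈ L := by
          rw [show (γ * b) ^ 2 = ((2 + γ * (b + b)) ^ 2 - ((2 + γ * b) ^ 2 + (2 + γ * b) ^ 2) + 4) / 2 by
            field_simp; ring]
          exact div_mem (add_mem (sub_mem (hf _ hbb) (add_mem (hf b hb) (hf b hb))) h4) (ofNat_mem L 2)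
        have h40 : (4 : F) ≠ 0 := by
          rw [show (4 : F) = 2 * 2 by norm_num]; exact mul_ne_zero h2 h2
        rw [show γ * b = ((2 + γ * b) ^ 2 - (γ * b) ^ 2 - 4) / 4 by field_simp; ring]
        exact div_mem (sub_mem (sub_mem (hf b hb) hsq) h4) h4
    have hne0 : γ * b₁ ≠ 0 := mul_ne_zero hγ hb₁
    have hKL : K ≤ L := fun k hk => by
      have e : k = γ * ((⟨k, hk⟩ : K) * b₁) / (γ * b₁) := by field_simp
      rw [e]
      exact div_mem (hγb _ (h1 _)) (hγb _ hb₁S)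
    have hLK : ¬ L ≤ K := fun hle' => hirr (hle' (by
      rw [show b₂ / b₁ = γ * b₂ / (γ * b₁) by field_simp]
      exact div_mem (hγb _ h2) (hγb _ hb₁S)))
    have hL := subfield_eq_top_of_prime_degree K L hr hcard hKL hLK
    haveI : Fintype L := Fintype.ofFinite L
    have hLc : Fintype.card L = Fintype.card F := by
      rw [← Nat.card_eq_fintype_card, ← Nat.card_eq_fintype_card, hL]
      exact Nat.card_congr (Equiv.subtypeUnivEquiv fun x => Subfield.mem_top x)
    refine Subgroup.eq_top_of_le_card _ ?_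
    rw [← Subgroup.card_map_of_injective (K := H)
      (Matrix.ProjectiveSpecialLinearGroup.toPGL_injective (n := Fin 2) (R := F))]
    rcases h with h | h
    · rw [h, Subgroup.card_map_of_injective (MulEquiv.injective _), card_glMap_range, card_PSL, hLc]
      exact Nat.div_le_self _ _
    · rw [h, Subgroup.card_map_of_injective (MulEquiv.injective _),
        Nat.card_congr (rangeSlMapEquiv L).toEquiv, card_PSL, card_PSL, hLc]


theorem proj_eq_top_any {K : Subfield F} {r : ℕ} (hr : r.Prime) (hcard : Nat.card F = Nat.card K ^ r)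
    (S : Subgroup (SLtwo F)) {γ b₁ b₂ : F} (hγ : γ ≠ 0) (hb₁ : b₁ ≠ 0) (hirr : b₂ / b₁ ∉ K)
    (hl : lower γ ∈ S) (h1 : ∀ k : K, upper ((k : F) * b₁) ∈ S) (h2 : upper b₂ ∈ S)
    (hbig : 8 ≤ Nat.card {b : F // upper b ∈ S} ∨
      (4 ≤ Nat.card {b : F // upper b ∈ S} ∧ Nat.card K = 2)) : S.map proj = ⊤ := by
  rcases hbig with h | ⟨h, hK⟩
  · exact proj_eq_top hr hcard S hγ hb₁ hirr hl h1 h2 h
  · exact proj_eq_top_two hr hcard S hγ hb₁ hirr hl h1 h2 h hK

end Two

open Two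

variable {ι : Type} [Fintype ι] [DecidableEq ι] {F : Type*} [Field F] [Finite F] {K : Subfield F}
  {P : GL ι F} {M : Subgroup (GL ι F)}

variable (hn : 3 ≤ Fintype.card ι)
  (hHM : Cfsg.Geo.subfieldSubgroup K P ⊓ Cfsg.Geo.specialLinear ι F ≤ M)

include hn in
omit [Finite F] in
theorem goodL_mul {c d : F} (hc : GoodL K P M c) (hd : GoodL K P M d) : GoodL K P M (c * d) := by
  intro v a hav
  by_cases hv : v = 0
  · rw [hv, ratVec_zero]; exact InTr.zero_left _
  obtain ⟨w, hw0, hw⟩ := exists_dot_perp ![a] (Submodule.span K {v}) (by rw [finrank_span_singleton hv]; omega)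
  have haw : a ⬝ᵥ w = 0 := hw0 0
  obtain ⟨b, hb⟩ := exists_dot_eq (pair_independent hv hw) ![0, 1]
  have hbv : b ⬝ᵥ v = 0 := hb 0
  have hbw : b ⬝ᵥ w = 1 := hb 1
  refine ((hc v b hbv).commAxis (hd w a haw) ?_).congr rfl ?_
  · rw [smul_dotProduct, ratCov_dot_eq_zero hav, smul_zero]
  · rw [smul_dotProduct, ratCov_dot, hbw, smul_smul, smul_eq_mul]
    simp

include hn hHM in
omit [Finite F] in
theorem inTr_axis {c : F} {v a : ι → K} (ha : a ≠ 0) (hav : a ⬝ᵥ v = 0)
    (h : InTr M (ratVec K P v) (c • ratCov K P a)) :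
    ∀ b : ι → K, b ⬝ᵥ v = 0 → InTr M (ratVec K P v) (c • ratCov K P b) := by
  have key : ∀ b : ι → K, b ∉ Submodule.span K {a} → b ⬝ᵥ v = 0 → InTr M (ratVec K P v) (c • ratCov K P b) := by
    intro b hb hbv
    obtain ⟨w, hw⟩ := exists_dot_eq (pair_independent ha hb) ![1, 0]
    have haw : a ⬝ᵥ w = 1 := by rw [dotProduct_comm]; exact hw 0
    have hbw : b ⬝ᵥ w = 0 := by rw [dotProduct_comm]; exact hw 1
    refine (h.commAxis (inTr_rat hHM w b hbw) (ratCov_dot_eq_zero hbv)).congr rfl ?_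
    rw [smul_dotProduct, ratCov_dot, haw, smul_eq_mul]
    simp
  intro b hbv
  by_cases hb : b ∈ Submodule.span K {a}
  · obtain ⟨a', ha'0, ha'⟩ := exists_dot_perp ![v] (Submodule.span K {a})
      (by rw [finrank_span_singleton ha]; omega)
    have ha'v : a' ⬝ᵥ v = 0 := by rw [dotProduct_comm]; exact ha'0 0
    refine ((key (b + a') (fun hs => ha' ?_) (by rw [add_dotProduct, hbv, ha'v, add_zero])).sub
      (key a' ha' ha'v)).congr rfl ?_
    · simpa using Submodule.sub_mem _ hs hb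
    · rw [← smul_sub, ← ratCov_sub, add_sub_cancel_right]
  · exact key b hb hbv

include hn hHM in
omit [Finite F] in
theorem goodL_of_pair {c : F} {v₀ a₀ : ι → K} (hv₀ : v₀ ≠ 0) (ha₀ : a₀ ≠ 0) (h0 : a₀ ⬝ᵥ v₀ = 0)
    (h : InTr M (ratVec K P v₀) (c • ratCov K P a₀)) : GoodL K P M c := by
  have move : ∀ v w : ι → K, v ≠ 0 → w ∉ Submodule.span K {v} →
      (∀ b : ι → K, b ⬝ᵥ v = 0 → InTr M (ratVec K P v) (c • ratCov K P b)) →
      ∀ b : ι → K, b ⬝ᵥ w = 0 → InTr M (ratVec K P w) (c • ratCov K P b) := by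
    intro v w hv hw hvall
    obtain ⟨a, ha0, ha⟩ := exists_dot_perp ![v, w] (⊥ : Submodule K (ι → K)) (by rw [finrank_bot]; omega)
    have hav : a ⬝ᵥ v = 0 := by rw [dotProduct_comm]; exact ha0 0
    have haw : a ⬝ᵥ w = 0 := by rw [dotProduct_comm]; exact ha0 1
    obtain ⟨b, hb⟩ := exists_dot_eq (pair_independent hv hw) ![1, 0]
    have hbv : b ⬝ᵥ v = 1 := hb 0
    have hbw : b ⬝ᵥ w = 0 := hb 1
    refine inTr_axis hn hHM (fun e => ha (by rw [e]; exact zero_mem _)) haw ?_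
    refine ((hvall a hav).commCentre (inTr_rat hHM w b hbw) ?_).congr rfl ?_
    · rw [smul_dotProduct, ratCov_dot_eq_zero haw, smul_zero]
    · rw [ratCov_dot, hbv]
      simp
  have h0all := inTr_axis hn hHM ha₀ h0 h
  intro v a hav
  by_cases hv0 : v = 0
  · rw [hv0, ratVec_zero]; exact InTr.zero_left _
  by_cases hv : v ∈ Submodule.span K {v₀}
  · obtain ⟨w, -, hw⟩ := exists_dot_perp ![(0 : ι → K)] (Submodule.span K {v₀})
      (by rw [finrank_span_singleton hv₀]; omega)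
    refine move w v (fun e => hw (by rw [e]; exact zero_mem _)) (fun hmem => hw ?_)
      (move v₀ w hv₀ hw h0all) a hav
    obtain ⟨s, hs⟩ := Submodule.mem_span_singleton.mp hmem
    obtain ⟨t, ht⟩ := Submodule.mem_span_singleton.mp hv
    have hs0 : s ≠ 0 := fun e => hv0 (by rw [← hs, e, zero_smul])
    exact Submodule.mem_span_singleton.mpr ⟨s⁻¹ * t, by rw [mul_smul, ht, ← hs, inv_smul_smul₀ hs0]⟩
  · exact move v₀ v hv₀ hv h0all a hav

include hn hHM in
theorem goodL_all (r : ℕ) (hr : r.Prime) (hcard : Nat.card F = Nat.card K ^ r) {c : F} (hc : c ∉ K)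
    (hgood : GoodL K P M c) (x : F) : GoodL K P M x := by
  let S : Subalgebra K F :=
    { carrier := {x | GoodL K P M x}
      mul_mem' := fun ha hb => goodL_mul hn ha hb
      one_mem' := by simpa using goodL_coe hHM 1
      add_mem' := fun ha hb => goodL_add ha hb
      zero_mem' := by simpa using goodL_coe hHM 0
      algebraMap_mem' := fun a => goodL_coe hHM a }
  haveI : Module.Finite K F := Module.Finite.of_finite
  have hdim : Module.finrank K F = r := by
    have h := Module.natCard_eq_pow_finrank (K := K) (V := F)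
    rw [hcard] at h
    exact (Nat.pow_right_injective Finite.one_lt_card h).symm
  have h := Subalgebra.isSimpleOrder_of_finrank_prime K F (hdim ▸ hr)
  rcases h.eq_bot_or_eq_top S with e | e
  · exfalso
    have hcS : c ∈ (⊥ : Subalgebra K F) := e ▸ (hgood : c ∈ S)
    obtain ⟨a, ha⟩ := Algebra.mem_bot.mp hcS
    exact hc (ha ▸ a.2)
  · exact (e ▸ Algebra.mem_top : x ∈ S)

include hn hHM in
omit [Finite F] in
theorem exists_goodL_of_annih {x y : ι → F} (hx : ¬ RatPt K P x) (hy : y ≠ 0) (hxy : InTr M x y)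
    {b : ι → K} (hb : b ≠ 0) (hbx : ratCov K P b ⬝ᵥ x = 0) : ∃ c, c ∉ K ∧ GoodL K P M c := by
  obtain ⟨μ, hμ, hμm⟩ : ∃ μ : F, μ ≠ 0 ∧ InTr M x (μ • ratCov K P b) := by
    by_cases hex : ∃ r : ι → K, b ⬝ᵥ r = 0 ∧ y ⬝ᵥ ratVec K P r ≠ 0
    · obtain ⟨r, hbr, hyr⟩ := hex
      exact ⟨_, hyr, hxy.commAxis (inTr_rat hHM r b hbr) hbx⟩
    · push Not at hex
      obtain ⟨r₁, hr₁⟩ := exists_dot_eq (K := K) (u := ![b])
        (linearIndependent_unique_iff.mpr (by simpa using hb)) ![1]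
      have hbr₁ : b ⬝ᵥ r₁ = 1 := by rw [dotProduct_comm]; exact hr₁ 0
      have e : y = (y ⬝ᵥ ratVec K P r₁) • ratCov K P b := eq_of_dot_ratVec (K := K) (P := P) fun u => by
        have h1 := hex (u - (b ⬝ᵥ u) • r₁) (by
          rw [dotProduct_sub, dotProduct_smul, hbr₁, smul_eq_mul, mul_one, sub_self])
        rw [ratVec_sub, ratVec_smul, dotProduct_sub, dotProduct_smul, sub_eq_zero, smul_eq_mul] at h1
        rw [smul_dotProduct, ratCov_dot, h1, smul_eq_mul, mul_comm]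
      refine ⟨y ⬝ᵥ ratVec K P r₁, fun e0 => hy ?_, e ▸ hxy⟩
      rw [e, e0, zero_smul]
  by_contra hno
  push Not at hno
  have hK : ∀ a : ι → K, μ * (ratCov K P a ⬝ᵥ x) ∈ K := by
    intro a
    by_contra hc
    obtain ⟨r, hr0, hr⟩ := exists_dot_perp ![b, a] (⊥ : Submodule K (ι → K)) (by rw [finrank_bot]; omega)
    have hbr : b ⬝ᵥ r = 0 := hr0 0
    have har : a ⬝ᵥ r = 0 := hr0 1
    refine hno _ hc (goodL_of_pair hn hHM (fun e => hr (by rw [e]; exact zero_mem _)) hb hbr ?_)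
    refine (hμm.commCentre (inTr_rat hHM r a har) ?_).congr rfl ?_
    · rw [smul_dotProduct, ratCov_dot_eq_zero hbr, smul_zero]
    · rw [smul_smul, mul_comm]
  refine hx ⟨μ⁻¹, fun i => ⟨μ * (ratCov K P (Pi.single i 1) ⬝ᵥ x), hK _⟩, ?_⟩
  have e1 : ∀ i, ratCov K P (Pi.single i 1) ⬝ᵥ x = (((P⁻¹ : GL ι F) : Matrix ι ι F) *ᵥ x) i := fun i => by
    rw [ratCov, ← dotProduct_mulVec,
      show (fun k => ((Pi.single i (1 : K) : ι → K) k : F)) = Pi.single i 1 by
        funext k; rw [Pi.single_apply, Pi.single_apply]; split_ifs <;> simp,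
      single_dotProduct, one_mul]
  rw [ratVec]
  simp only [e1]
  rw [show (fun i => μ * (((P⁻¹ : GL ι F) : Matrix ι ι F) *ᵥ x) i)
      = μ • (((P⁻¹ : GL ι F) : Matrix ι ι F) *ᵥ x) from rfl,
    mulVec_smul, mulVec_mulVec, Units.mul_inv, one_mulVec, inv_smul_smul₀ hμ]

include hn hHM in
theorem exists_annih_centre (r : ℕ) (hr : r.Prime) (hcard : Nat.card F = Nat.card K ^ r) {x y : ι → F}
    (hy : y ≠ 0) (hxy : InTr M x y) (hfree : ∀ b : ι → K, b ≠ 0 → ratCov K P b ⬝ᵥ x ≠ 0) :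
    ∃ (x' y' : ι → F) (b : ι → K), ¬ RatPt K P x' ∧ y' ≠ 0 ∧ InTr M x' y' ∧ b ≠ 0 ∧ ratCov K P b ⬝ᵥ x' = 0 := by
  classical
  haveI : Fintype F := Fintype.ofFinite F
  obtain ⟨r₀, hr₀⟩ : ∃ r₀ : ι → K, y ⬝ᵥ ratVec K P r₀ ≠ 0 := by
    by_contra hall
    push Not at hall
    exact hy (eq_of_dot_ratVec (K := K) (P := P) fun u => by rw [hall u, zero_dotProduct])
  have hr₀0 : r₀ ≠ 0 := fun e => hr₀ (by rw [e, ratVec_zero, dotProduct_zero])
  set ρ := ratVec K P r₀ with hρ
  obtain ⟨hyx, hTm⟩ := hxy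
  -- the action on the line through `ρ` and `x`
  let rep : SL2.SLtwo F → GL ι F → Prop := fun g m =>
    (m : Matrix ι ι F) *ᵥ ρ = g 0 0 • ρ + g 1 0 • x ∧ (m : Matrix ι ι F) *ᵥ x = g 0 1 • ρ + g 1 1 • x
  let S₀ : Submonoid (SL2.SLtwo F) :=
    { carrier := {g | ∃ m ∈ M, rep g m}
      one_mem' := ⟨1, M.one_mem, by simp, by simp⟩
      mul_mem' := by
        rintro g g' ⟨m, hm, h1, h2⟩ ⟨m', hm', h1', h2'⟩
        refine ⟨m * m', M.mul_mem hm hm', ?_, ?_⟩
        · rw [Units.val_mul, ← mulVec_mulVec, h1', mulVec_add, mulVec_smul, mulVec_smul, h1, h2,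
            SL2.mul_00, SL2.mul_10]
          module
        · rw [Units.val_mul, ← mulVec_mulVec, h2', mulVec_add, mulVec_smul, mulVec_smul, h1, h2,
            SL2.mul_01, SL2.mul_11]
          module }
  let S : Subgroup (SL2.SLtwo F) :=
    { S₀ with
      inv_mem' := fun {a} ha => by
        have hpos : 0 < orderOf a := orderOf_pos a
        have h : a⁻¹ = a ^ (orderOf a - 1) := inv_eq_of_mul_eq_one_right (by
          rw [← pow_succ', Nat.sub_add_cancel hpos, pow_orderOf_eq_one])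
        rw [h]
        exact pow_mem (show a ∈ S₀ from ha) _ }
  have hlow : SL2.lower (y ⬝ᵥ ρ) ∈ S := ⟨_, hTm, by
    rw [FormMax.Tr_mulVec]; simp, by rw [FormMax.Tr_mulVec, hyx]; simp⟩
  have hupp : ∀ b : ι → K, b ⬝ᵥ r₀ = 0 → SL2.upper (ratCov K P b ⬝ᵥ x) ∈ S := fun b hb =>
    ⟨_, hHM (ratTr_mem r₀ b hb), by rw [FormMax.Tr_mulVec, ← hρ, hρ, ratCov_dot_eq_zero hb]; simp, by
      rw [FormMax.Tr_mulVec, ← hρ]; simp [add_comm]⟩
  obtain ⟨b₁, hb₁0, hb₁⟩ := exists_dot_perp ![r₀] (⊥ : Submodule K (ι → K)) (by rw [finrank_bot]; omega)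
  have hb₁r : b₁ ⬝ᵥ r₀ = 0 := by rw [dotProduct_comm]; exact hb₁0 0
  have hb₁ne : b₁ ≠ 0 := fun e => hb₁ (by rw [e]; exact zero_mem _)
  obtain ⟨b₂, hb₂0, hb₂⟩ := exists_dot_perp ![r₀] (Submodule.span K {b₁})
    (by rw [finrank_span_singleton hb₁ne]; omega)
  have hb₂r : b₂ ⬝ᵥ r₀ = 0 := by rw [dotProduct_comm]; exact hb₂0 0
  have hirr : (ratCov K P b₂ ⬝ᵥ x) / (ratCov K P b₁ ⬝ᵥ x) ∉ K := fun hk => by
    set k : K := ⟨_, hk⟩ with hkdef
    have e : (k : F) * (ratCov K P b₁ ⬝ᵥ x) = ratCov K P b₂ ⬝ᵥ x := div_mul_cancel₀ _ (hfree b₁ hb₁ne)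
    by_cases h0 : b₂ - k • b₁ = 0
    · exact hb₂ (Submodule.mem_span_singleton.mpr ⟨k, (sub_eq_zero.mp h0).symm⟩)
    · exact hfree _ h0 (by rw [ratCov_sub, ratCov_smul, sub_dotProduct, smul_dotProduct, smul_eq_mul, e, sub_self])
  have hbig : 8 ≤ Nat.card {b : F // SL2.upper b ∈ S} ∨
      (4 ≤ Nat.card {b : F // SL2.upper b ∈ S} ∧ Nat.card K = 2) := by
    let L : (ι → K) →ₗ[K] K :=
      { toFun := fun b => b ⬝ᵥ r₀
        map_add' := fun u v => add_dotProduct _ _ _
        map_smul' := fun k u => smul_dotProduct _ _ _ }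
    have h1 := L.finrank_range_add_finrank_ker
    have h2 : Module.finrank K (LinearMap.range L) ≤ 1 := (Submodule.finrank_le _).trans (by simp)
    rw [Module.finrank_fintype_fun_eq_card] at h1
    have h3 : Nat.card (LinearMap.ker L) ≤ Nat.card {b : F // SL2.upper b ∈ S} :=
      Nat.card_le_card_of_injective (fun b => ⟨ratCov K P b.1 ⬝ᵥ x, hupp _ b.2⟩) fun a b e => by
        by_contra hne
        refine hfree (a.1 - b.1) (sub_ne_zero.mpr fun e' => hne (Subtype.ext e')) ?_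
        rw [ratCov_sub, sub_dotProduct, sub_eq_zero]
        exact congrArg Subtype.val e
    have h4 := Module.natCard_eq_pow_finrank (K := K) (V := LinearMap.ker L)
    have h5 : Nat.card K ^ 2 ≤ Nat.card K ^ Module.finrank K (LinearMap.ker L) :=
      Nat.pow_le_pow_right Nat.card_pos (by omega)
    have h2K := Finite.one_lt_card (α := K)
    by_cases hK2 : Nat.card K = 2
    · rw [hK2] at h5
      exact Or.inr ⟨by rw [hK2] at h4; omega, hK2⟩
    · have : 3 ^ 2 ≤ Nat.card K ^ 2 := Nat.pow_le_pow_left (by omega) 2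
      exact Or.inl (by omega)
  have hproj := proj_eq_top_any hr hcard S hr₀ (hfree b₁ hb₁ne) hirr hlow
    (fun k => by
      rw [← smul_eq_mul, ← smul_dotProduct, ← ratCov_smul]
      exact hupp _ (by rw [smul_dotProduct, hb₁r, smul_zero]))
    (hupp b₂ hb₂r) hbig
  obtain ⟨c, hc⟩ := exists_dot_eq (K := K) (u := ![r₀]) (linearIndependent_unique_iff.mpr (by simpa using hr₀0)) ![1]
  have hcr : c ⬝ᵥ r₀ = 1 := hc 0
  set μ := -(ratCov K P c ⬝ᵥ x) with hμ
  obtain ⟨s, hs, hse⟩ : SL2.proj (SL2.upper μ) ∈ S.map SL2.proj := hproj ▸ Subgroup.mem_top _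
  obtain ⟨ε, hε, m, hm, hmx⟩ : ∃ ε : F, ε ≠ 0 ∧ ∃ m ∈ M, (m : Matrix ι ι F) *ᵥ x = ε • (μ • ρ + x) := by
    obtain ⟨m, hm, -, h2⟩ := hs
    rcases SL2.proj_eq_proj_iff.1 hse with e | e
    · refine ⟨1, one_ne_zero, m, hm, ?_⟩
      rw [h2, ← e]
      simp
    · refine ⟨-1, by simp, m, hm, ?_⟩
      rw [h2, show s = -SL2.upper μ by rw [e, neg_neg]]
      simp [add_comm]
  have hy' : y ᵥ* ((m⁻¹ : GL ι F) : Matrix ι ι F) ≠ 0 := fun e => hy (by
    have h := congrArg (· ᵥ* (m : Matrix ι ι F)) e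
    simpa [vecMul_vecMul] using h)
  refine ⟨_, _, c, ?_, hy', InTr.conj hm ⟨hyx, hTm⟩, fun e => ?_, ?_⟩
  · rw [hmx]
    rintro ⟨l, u, hlu⟩
    obtain ⟨a, ha0, ha⟩ := exists_dot_perp ![r₀, u] (⊥ : Submodule K (ι → K)) (by rw [finrank_bot]; omega)
    have har : a ⬝ᵥ r₀ = 0 := by rw [dotProduct_comm]; exact ha0 0
    have hau : a ⬝ᵥ u = 0 := by rw [dotProduct_comm]; exact ha0 1
    have h1 := congrArg (fun z => ratCov K P a ⬝ᵥ z) hlu
    simp only [dotProduct_smul, dotProduct_add, hρ, ratCov_dot_eq_zero har, ratCov_dot_eq_zero hau,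
      smul_eq_mul] at h1
    simp only [mul_zero, zero_add] at h1
    exact hfree a (fun e => ha (by rw [e]; exact zero_mem _)) ((mul_eq_zero.mp h1).resolve_left hε)
  · rw [e, zero_dotProduct] at hcr
    exact zero_ne_one hcr
  · rw [hmx, dotProduct_smul, dotProduct_add, dotProduct_smul, hρ, ratCov_dot, hcr, hμ]
    simp

include hn in
/-- The subfield subgroup is maximal. -/
theorem isMaximalIn_subfield_three (r : ℕ) (hr : r.Prime) (hcard : Nat.card F = Nat.card K ^ r) :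
    Cfsg.Geo.IsMaximalIn (Cfsg.Geo.specialLinear ι F)
      (Cfsg.Geo.subfieldSubgroup K P ⊓ Cfsg.Geo.specialLinear ι F) := by
  haveI : Nonempty ι := Fintype.card_pos_iff.mp (by omega)
  refine ⟨lt_of_le_of_ne inf_le_right fun heq => ?_, fun M hHM hMS => ?_⟩
  · obtain ⟨c, hc⟩ : ∃ c, c ∉ K := by
      by_contra hall
      push Not at hall
      have e : Nat.card K = Nat.card F := Nat.card_congr (Equiv.subtypeUnivEquiv hall)
      rw [e] at hcard
      have h2 := hcard.symm.trans (pow_one _).symm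
      exact hr.one_lt.ne' (Nat.pow_right_injective Finite.one_lt_card h2)
    obtain ⟨v, -, hv⟩ := exists_dot_perp ![(0 : ι → K)] (⊥ : Submodule K (ι → K)) (by rw [finrank_bot]; omega)
    have hv0 : v ≠ 0 := fun e => hv (by rw [e]; exact zero_mem _)
    obtain ⟨a, ha0, ha⟩ := exists_dot_perp ![v] (⊥ : Submodule K (ι → K)) (by rw [finrank_bot]; omega)
    have hav : a ⬝ᵥ v = 0 := by rw [dotProduct_comm]; exact ha0 0
    obtain ⟨x, hx⟩ := exists_dot_eq (K := K) (u := ![a])
      (linearIndependent_unique_iff.mpr (by simpa using fun e : a = 0 => ha (by rw [e]; exact zero_mem _))) ![1]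
    obtain ⟨b, hb⟩ := exists_dot_eq (K := K) (u := ![v]) (linearIndependent_unique_iff.mpr (by simpa using hv0)) ![1]
    have hax : a ⬝ᵥ x = 1 := by rw [dotProduct_comm]; exact hx 0
    have hbv : b ⬝ᵥ v = 1 := hb 0
    have hd : (c • ratCov K P a) ⬝ᵥ ratVec K P v = 0 := by
      rw [smul_dotProduct, ratCov_dot_eq_zero hav, smul_zero]
    obtain ⟨l, hl0, hl⟩ := exists_scale_of_mem (K := K) (P := P)
      (heq.ge (FormMax.Tr_mem_SL (ratVec K P v) (c • ratCov K P a) hd)).1
    obtain ⟨v₁, hv₁⟩ := hl v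
    obtain ⟨v₂, hv₂⟩ := hl x
    rw [FormMax.Tr_mulVec, hd, zero_smul, add_zero] at hv₁
    rw [FormMax.Tr_mulVec, smul_dotProduct, ratCov_dot, hax] at hv₂
    have h1 := congrArg (fun z => ratCov K P b ⬝ᵥ z) hv₁
    have h2 := congrArg (fun z => ratCov K P b ⬝ᵥ z) hv₂
    simp only [dotProduct_add, dotProduct_smul, ratCov_dot, hbv, smul_eq_mul] at h1 h2
    push_cast at h1 h2
    simp only [mul_one] at h2
    have hlK : l ∈ K := by
      rw [eq_inv_of_mul_eq_one_left h1.symm]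
      exact K.inv_mem (b ⬝ᵥ v₁).2
    apply hc
    rw [show c = l * ((b ⬝ᵥ v₂ : K) : F) - ((b ⬝ᵥ x : K) : F) by linear_combination h2]
    exact K.sub_mem (K.mul_mem hlK (b ⬝ᵥ v₂).2) (b ⬝ᵥ x).2
  by_cases hM : M ≤ Cfsg.Geo.subfieldSubgroup K P
  · exact Or.inl (le_antisymm (le_inf hM hMS) hHM)
  right
  obtain ⟨g, hgM, hg⟩ := SetLike.not_le_iff_exists.mp hM
  obtain ⟨u, hu⟩ := exists_irrational_image hg
  obtain ⟨a, ha0, ha⟩ := exists_dot_perp ![u] (⊥ : Submodule K (ι → K)) (by rw [finrank_bot]; omega)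
  have hau : a ⬝ᵥ u = 0 := by rw [dotProduct_comm]; exact ha0 0
  have hxy := InTr.conj hgM (inTr_rat hHM u a hau)
  have hy : ratCov K P a ᵥ* ((g⁻¹ : GL ι F) : Matrix ι ι F) ≠ 0 := fun e =>
    ratCov_ne_zero (P := P) (fun e0 : a = 0 => ha (by rw [e0]; exact zero_mem _))
      (by simpa [vecMul_vecMul] using congrArg (· ᵥ* (g : Matrix ι ι F)) e)
  obtain ⟨x', y', b, hx', hy', hxy', hb, hbx'⟩ : ∃ (x' y' : ι → F) (b : ι → K),
      ¬ RatPt K P x' ∧ y' ≠ 0 ∧ InTr M x' y' ∧ b ≠ 0 ∧ ratCov K P b ⬝ᵥ x' = 0 := by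
    by_cases h : ∃ b : ι → K, b ≠ 0 ∧ ratCov K P b ⬝ᵥ ((g : Matrix ι ι F) *ᵥ ratVec K P u) = 0
    · obtain ⟨b, hb, hb'⟩ := h
      exact ⟨_, _, b, hu, hy, hxy, hb, hb'⟩
    · push Not at h
      exact exists_annih_centre hn hHM r hr hcard hy hxy h
  obtain ⟨c, hc, hgood⟩ := exists_goodL_of_annih hn hHM hx' hy' hxy' hb hbx'
  exact eq_SL_of_goodL hMS (goodL_all hn hHM r hr hcard hc hgood)

end Cfsg.Agent.Lib.SLThree78
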