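import Cfsg.Agent.Lib.SLThree78.Core
import Cfsg.Agent.Lib.FormMax.UnitaryInSL

/-!
The similitudes of a unitary form in three variables.
-/

set_option autoImplicit false
set_option linter.unusedSectionVars false

namespace Cfsg.Agent.Lib.SLThree78

open Matrix
open Cfsg.Agent.Lib.SubfieldMax (InTr)
open Cfsg.Agent.Lib.FormMax (Tr Tr_mulVec Tr_mem_SL gl_ext)
open Cfsg.Agent.Lib.FormMax.UnitarySL (u_add_right u_smul_right u_zero_left u_zero_right u_neg_left u_neg_right
  u_sub_left u_sub_right u_symm exists_skew exists_trace_one exists_fill exists_isotropic_in exists_sep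
  exists_dual_left exists_common exists_perp_pair perp_induction dual dual_dot dual_surj dual_add dual_smul
  skew_transvection_mem dual_dot_zero)

variable {F : Type*} [Field F] [Fintype F] {σ : F ≃+* F}
  {f : (Fin 3 → F) → (Fin 3 → F) → F} {H : Subgroup (GL (Fin 3) F)}

local notation "V₃" => (Fin 3 → F)
local notation "M₃" => Matrix (Fin 3) (Fin 3) F

variable (hf : Cfsg.Geo.IsUnitaryForm σ f)
include hf

theorem span_frame {e e' y : V₃} (hee : f e e = 0) (hef : f e' e = 1) (hy : f y e = 0) (he'y : f e' y = 0)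
    (hyy : f y y ≠ 0) (z : V₃) : ∃ a b c : F, z = a • e + b • e' + c • y := by
  have hye' : f y e' = 0 := u_symm hf he'y
  have hli : LinearIndependent F ![e, e', y] := by
    rw [Fintype.linearIndependent_iff]
    intro k hk
    rw [Fin.sum_univ_three] at hk
    simp only [Matrix.cons_val_zero, Matrix.cons_val_one, Matrix.cons_val] at hk
    have h1 := congrArg (fun x => f x e) hk
    have h2 := congrArg (fun x => f x y) hk
    simp only [hf.add_left, hf.smul_left, hee, hef, hy, he'y, u_symm hf hy, u_zero_left hf, mul_zero, mul_one,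
      zero_add, add_zero] at h1 h2
    have h3 : k 2 = 0 := (mul_eq_zero.mp h2).resolve_right hyy
    rw [h1, h3, zero_smul, zero_smul, add_zero, add_zero, smul_eq_zero] at hk
    have he0 : e ≠ 0 := fun h => by rw [h, u_zero_right hf] at hef; exact zero_ne_one hef
    exact fun i => by fin_cases i <;> [exact hk.resolve_right he0; exact h1; exact h3]
  have hspan := hli.span_eq_top_of_card_eq_finrank (by simp)
  obtain ⟨k, hk⟩ := (Submodule.mem_span_range_iff_exists_fun F).mp (hspan ▸ Submodule.mem_top :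
    z ∈ Submodule.span F (Set.range ![e, e', y]))
  exact ⟨k 0, k 1, k 2, by rw [← hk, Fin.sum_univ_three]; rfl⟩

theorem exists_partner_frame {e y : V₃} (he0 : e ≠ 0) (hee : f e e = 0) (hy : f y e = 0) (hyy : f y y ≠ 0) :
    ∃ e', f e' e' = 0 ∧ f e' e = 1 ∧ f e' y = 0 := by
  obtain ⟨d, hd⟩ := (hf.nondegenerate e he0).1
  obtain ⟨d', hd'⟩ : ∃ d', d' = (f d e)⁻¹ • d - ((f d e)⁻¹ * f d y / f y y) • y := ⟨_, rfl⟩
  have h1 : f d' e = 1 := by
    rw [hd', u_sub_left hf, hf.smul_left, hf.smul_left, hy, mul_zero, sub_zero, inv_mul_cancel₀ hd]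
  have h2 : f d' y = 0 := by
    rw [hd', u_sub_left hf, hf.smul_left, hf.smul_left, div_mul_cancel₀ _ hyy, sub_self]
  obtain ⟨t, ht⟩ := exists_fill hf hee (x := d') (by rw [h1]; exact one_ne_zero)
  refine ⟨d' + t • e, ht, ?_, ?_⟩
  · rw [hf.add_left, hf.smul_left, h1, hee, mul_zero, add_zero]
  · rw [hf.add_left, hf.smul_left, h2, u_symm hf hy, mul_zero, add_zero]

theorem InTr.conjIso {g : GL (Fin 3) F} (hg : g ∈ H)
    (hiso : ∀ a b, f ((g : M₃) *ᵥ a) ((g : M₃) *ᵥ b) = f a b) {x w : V₃} (h : InTr H x (dual f w)) :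
    InTr H ((g : M₃) *ᵥ x) (dual f ((g : M₃) *ᵥ w)) := by
  refine (h.conj hg).congr rfl (dotProduct_eq _ _ fun z => ?_)
  rw [← dotProduct_mulVec, dual_dot hf, dual_dot hf]
  conv_rhs => rw [show z = (g : M₃) *ᵥ (((g⁻¹ : GL (Fin 3) F) : M₃) *ᵥ z) by
    rw [mulVec_mulVec, ← Units.val_mul, mul_inv_cancel, Units.val_one, one_mulVec]]
  rw [hiso]

section

variable (hM : Cfsg.Geo.similarityGroup f ⊓ Cfsg.Geo.specialLinear (Fin 3) F ≤ H)
include hM

theorem exists_skewT {z : V₃} (hz : f z z = 0) {c : F} (hc : c + σ c = 0) :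
    ∃ T ∈ H, (∀ y, (T : M₃) *ᵥ y = y + (c * f y z) • z) ∧
      ∀ a b, f ((T : M₃) *ᵥ a) ((T : M₃) *ᵥ b) = f a b := by
  have hc' : σ c + σ (σ c) = 0 := by rw [hf.involutive, add_comm]; exact hc
  have hd : dual f (σ c • z) ⬝ᵥ z = 0 := dual_dot_zero hf (by rw [u_smul_right hf, hz, mul_zero])
  have hTv : ∀ y, (Tr z (dual f (σ c • z)) hd : M₃) *ᵥ y = y + (c * f y z) • z := fun y => by
    rw [Tr_mulVec, dual_dot hf, u_smul_right hf, hf.involutive]
  refine ⟨_, hM (skew_transvection_mem hf hz hc' hd), hTv, fun a b => ?_⟩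
  rw [hTv, hTv, hf.add_left, u_add_right hf, u_add_right hf, hf.smul_left, hf.smul_left,
    u_smul_right hf, u_smul_right hf, hz, map_mul, ← hf.herm]
  linear_combination (f a z * f z b) * hc

theorem inTr_skew {z : V₃} (hz : f z z = 0) {c : F} (hc : c + σ c = 0) : InTr H z (dual f (c • z)) :=
  ⟨_, hM (skew_transvection_mem hf hz hc (dual_dot_zero hf (by rw [u_smul_right hf, hz, mul_zero])))⟩

/-- An element fixing `e` and moving `y`. -/
theorem exists_unipotent {e e' y : V₃} (hee : f e e = 0) (hef : f e' e = 1) (he' : f e' e' = 0)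
    (hy : f y e = 0) (he'y : f e' y = 0) (s : F) :
    ∃ g ∈ H, (∀ a b, f ((g : M₃) *ᵥ a) ((g : M₃) *ᵥ b) = f a b) ∧ (g : M₃) *ᵥ e = e ∧
      (g : M₃) *ᵥ y = y - (σ s * f y y) • e := by
  have hey : f e y = 0 := u_symm hf hy
  obtain ⟨τ, hτ⟩ := exists_trace_one hf
  obtain ⟨r, hr⟩ : ∃ r, r = -(f y y * (s * σ s)) * τ := ⟨_, rfl⟩
  have hrr : r + σ r = -(f y y * (s * σ s)) := by
    rw [hr, map_mul, map_neg, map_mul, map_mul, hf.involutive, ← hf.herm]
    linear_combination (-(f y y * (s * σ s))) * hτ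
  have h1 : dual f e ⬝ᵥ (s • y + r • e) = 0 := by
    rw [dual_dot hf, hf.add_left, hf.smul_left, hf.smul_left, hy, hee, mul_zero, mul_zero, add_zero]
  have h2 : dual f (-s • y) ⬝ᵥ e = 0 := by rw [dual_dot hf, u_smul_right hf, hey, mul_zero]
  set g := Tr (s • y + r • e) (dual f e) h1 * Tr e (dual f (-s • y)) h2 with hg
  have hgz : ∀ z, (g : M₃) *ᵥ z = z + (f z e) • (s • y + r • e) + (-(σ s * f z y)) • e := by
    intro z
    rw [hg, Units.val_mul, ← mulVec_mulVec, Tr_mulVec, Tr_mulVec, dual_dot hf, dual_dot hf, u_smul_right hf,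
      hf.add_left, hf.smul_left, hee, mul_zero, add_zero, map_neg, neg_mul]
    module
  have hiso : ∀ a b, f ((g : M₃) *ᵥ a) ((g : M₃) *ᵥ b) = f a b := by
    intro a b
    rw [hgz, hgz]
    simp only [hf.add_left, u_add_right hf, hf.smul_left, u_smul_right hf, hee, hy, hey, map_neg, map_mul,
      hf.involutive, ← hf.herm]
    linear_combination (f a e * f e b) * hrr
  refine ⟨g, hM ⟨⟨1, fun a b => by rw [hiso, Units.val_one, one_mul]⟩,
    Subgroup.mul_mem _ (Tr_mem_SL _ _ _) (Tr_mem_SL _ _ _)⟩, hiso, ?_, ?_⟩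
  · rw [hgz, hee, hey]
    module
  · rw [hgz, hy]
    module

theorem exists_generic {v w : V₃} (hv0 : v ≠ 0) (hw0 : w ≠ 0) (hR : InTr H v (dual f w))
    (hne : f v v ≠ 0 ∨ ∀ c : F, w ≠ c • v) :
    ∃ x y, x ≠ 0 ∧ f x x = 0 ∧ InTr H x (dual f y) ∧ ∀ c : F, y ≠ c • x := by
  by_cases hvv : f v v = 0
  · exact ⟨v, w, hv0, hvv, hR, hne.resolve_left (fun h => h hvv)⟩
  have hvw : f v w = 0 := by
    obtain ⟨hd, -⟩ := hR
    rwa [dual_dot hf] at hd
  have hwv : f w v = 0 := u_symm hf hvw
  obtain ⟨δ, hδ0, hδ⟩ := exists_skew hf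
  by_cases hww : f w w = 0
  · obtain ⟨e', he', hef, he'v⟩ := exists_partner_frame hf hw0 hww hvw hvv
    obtain ⟨τ, hτ⟩ := exists_trace_one hf
    obtain ⟨x, hx⟩ : ∃ x, x = e' + (-τ) • v + (-(f v v * (τ * σ τ)) * τ) • w := ⟨_, rfl⟩
    have hxw : f x w = 1 := by
      rw [hx, hf.add_left, hf.add_left, hf.smul_left, hf.smul_left, hef, hvw, hww, mul_zero, mul_zero, add_zero,
        add_zero]
    have hxv : f x v = -τ * f v v := by
      rw [hx, hf.add_left, hf.add_left, hf.smul_left, hf.smul_left, he'v, hwv, mul_zero, add_zero, zero_add]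
    have hxx : f x x = 0 := by
      have hwe : f w e' = 1 := by rw [hf.herm, hef, map_one]
      rw [hx]
      simp only [hf.add_left, u_add_right hf, hf.smul_left, u_smul_right hf, he', hww, hwe, hvw, hwv, he'v,
        u_symm hf he'v, hef, map_neg, map_mul, hf.involutive, ← hf.herm]
      linear_combination (-(f v v * (τ * σ τ))) * hτ
    have h' := hR.conjTr (inTr_skew hf hM hxx hδ)
    rw [dual_dot hf, dual_dot hf, hxw, one_smul, u_smul_right hf] at h'
    refine ⟨x + v, δ • x - (δ * f x v) • w, fun e => hvv ?_, ?_, h'.congr rfl ?_, fun c e => ?_⟩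
    · rw [add_eq_zero_iff_eq_neg.mp e, u_neg_left hf, hvw] at hxw
      simp at hxw
    · simp only [hf.add_left, u_add_right hf, hxx, hxv, hf.herm v x, map_neg, map_mul, ← hf.herm]
      linear_combination (-f v v) * hτ
    · rw [sub_eq_add_neg, sub_eq_add_neg, ← neg_smul (δ * f x v) w, dual_add hf, dual_smul hf, dual_smul hf,
        map_neg, map_mul, ← hf.herm, neg_smul]
    · have e1 := congrArg (fun z => f z w) e
      have e2 := congrArg (fun z => f z v) e
      simp only [u_sub_left hf, hf.smul_left, hf.add_left, hxw, hxv, hww, hvw, hwv, mul_zero, sub_zero, add_zero,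
        mul_one] at e1 e2
      rw [← e1] at e2
      exact mul_ne_zero hδ0 hvv (by linear_combination -e2)
  · let φ : V₃ →ₗ[F] F :=
      { toFun := fun z => f z w
        map_add' := fun a b => hf.add_left a b w
        map_smul' := fun c a => hf.smul_left c a w }
    have hker : 2 ≤ Module.finrank F φ.ker := by
      have h1 := φ.finrank_range_add_finrank_ker
      have h2 : Module.finrank F φ.range ≤ 1 := (Submodule.finrank_le _).trans (by simp)
      rw [Module.finrank_fintype_fun_eq_card, Fintype.card_fin] at h1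
      omega
    obtain ⟨z, hzw, hz0, hzz⟩ := exists_isotropic_in hf hker
    change f z w = 0 at hzw
    have hzv : f z v ≠ 0 := by
      intro hzv
      have hli : LinearIndependent F ![v, w, z] := by
        rw [Fintype.linearIndependent_iff]
        intro k hk
        rw [Fin.sum_univ_three] at hk
        simp only [Matrix.cons_val_zero, Matrix.cons_val_one, Matrix.cons_val] at hk
        have h1 := congrArg (fun x => f x v) hk
        have h2 := congrArg (fun x => f x w) hk
        simp only [hf.add_left, hf.smul_left, hwv, hvw, hzv, hzw, u_zero_left hf, mul_zero, add_zero,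
          zero_add] at h1 h2
        have a0 : k 0 = 0 := (mul_eq_zero.mp h1).resolve_right hvv
        have a1 : k 1 = 0 := (mul_eq_zero.mp h2).resolve_right hww
        rw [a0, a1, zero_smul, zero_smul, zero_add, zero_add, smul_eq_zero] at hk
        exact fun i => by fin_cases i <;> [exact a0; exact a1; exact hk.resolve_right hz0]
      obtain ⟨t, ht⟩ := exists_dual_left hf hz0
      obtain ⟨k, hk⟩ := (Submodule.mem_span_range_iff_exists_fun F).mp
        (hli.span_eq_top_of_card_eq_finrank (by simp) ▸ Submodule.mem_top :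
          t ∈ Submodule.span F (Set.range ![v, w, z]))
      rw [Fin.sum_univ_three] at hk
      simp only [Matrix.cons_val_zero, Matrix.cons_val_one, Matrix.cons_val] at hk
      rw [← hk, u_add_right hf, u_add_right hf, u_smul_right hf, u_smul_right hf, u_smul_right hf, hzv, hzw,
        hzz] at ht
      simp at ht
    obtain ⟨T, hT, hTy, hiso⟩ := exists_skewT hf hM hzz hδ
    have hwz : f w z = 0 := u_symm hf hzw
    have hvz : f v z ≠ 0 := fun e => hzv (u_symm hf e)
    have h1 := InTr.conjIso hf hT hiso hR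
    rw [hTy, hTy, hwz, mul_zero, zero_smul, add_zero] at h1
    have hneg : InTr H (-v) (dual f w) := by
      simpa using InTr.scale (c := (-1 : F)) (d := -1) (by ring) hR.neg
    have h2 := InTr.addCentre h1 hneg
    rw [add_neg_cancel_comm] at h2
    have h3 := InTr.scale (c := (δ * f v z)⁻¹) (d := δ * f v z) (inv_mul_cancel₀ (mul_ne_zero hδ0 hvz)) h2
    rw [smul_smul, inv_mul_cancel₀ (mul_ne_zero hδ0 hvz), one_smul] at h3
    refine ⟨z, σ (δ * f v z) • w, hz0, hzz, h3.congr rfl (by rw [dual_smul hf, hf.involutive]), fun c e => ?_⟩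
    have e1 := congrArg (fun t => f t w) e
    simp only [hf.smul_left, hzw, mul_zero] at e1
    exact mul_ne_zero ((map_ne_zero σ).mpr (mul_ne_zero hδ0 hvz)) hww e1

theorem eq_SL_of_generic (hH : H ≤ Cfsg.Geo.specialLinear (Fin 3) F) {e y : V₃} (he0 : e ≠ 0)
    (hee : f e e = 0) (hR : InTr H e (dual f y)) (hy : ∀ c : F, y ≠ c • e) :
    H = Cfsg.Geo.specialLinear (Fin 3) F := by
  obtain ⟨δ, hδ0, hδ⟩ := exists_skew hf
  have hσδ : σ δ = -δ := by linear_combination hδ
  have hey : f e y = 0 := by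
    obtain ⟨hd, -⟩ := hR
    rwa [dual_dot hf] at hd
  have hye : f y e = 0 := u_symm hf hey
  have hyy : f y y ≠ 0 := by
    intro hyy
    obtain ⟨x, hex, hyx⟩ := exists_sep hf hy
    obtain ⟨d, hd⟩ := exists_dual_left hf he0
    have hli : LinearIndependent F ![d, e, y] := by
      rw [Fintype.linearIndependent_iff]
      intro k hk
      rw [Fin.sum_univ_three] at hk
      simp only [Matrix.cons_val_zero, Matrix.cons_val_one, Matrix.cons_val] at hk
      have h1 := congrArg (fun t => f t e) hk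
      simp only [hf.add_left, hf.smul_left, hee, hye, u_zero_left hf, mul_zero, add_zero] at h1
      have a0 : k 0 = 0 := (mul_eq_zero.mp h1).resolve_right fun e' => hd (u_symm hf e')
      rw [a0, zero_smul, zero_add] at hk
      have a2 : k 2 = 0 := by
        by_contra h
        refine hy (-(k 2)⁻¹ * k 1) ?_
        rw [mul_smul, show k 1 • e = -(k 2 • y) from eq_neg_of_add_eq_zero_left hk, smul_neg, neg_smul, neg_neg,
          inv_smul_smul₀ h]
      rw [a2, zero_smul, add_zero, smul_eq_zero] at hk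
      exact fun i => by fin_cases i <;> [exact a0; exact hk.resolve_right he0; exact a2]
    obtain ⟨k, hk⟩ := (Submodule.mem_span_range_iff_exists_fun F).mp
      (hli.span_eq_top_of_card_eq_finrank (by simp) ▸ Submodule.mem_top :
        x ∈ Submodule.span F (Set.range ![d, e, y]))
    rw [Fin.sum_univ_three] at hk
    simp only [Matrix.cons_val_zero, Matrix.cons_val_one, Matrix.cons_val] at hk
    rw [← hk, u_add_right hf, u_add_right hf, u_smul_right hf, u_smul_right hf, u_smul_right hf] at hex hyx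
    rw [hee, hey, mul_zero, add_zero, mul_zero, add_zero, mul_eq_zero] at hex
    rw [hex.resolve_right hd, hye, hyy] at hyx
    simp at hyx
  obtain ⟨e', he', hef, he'y⟩ := exists_partner_frame hf he0 hee hye hyy
  have hee' : f e e' = 1 := by rw [hf.herm, hef, map_one]
  have he'0 : e' ≠ 0 := fun h => by rw [h, u_zero_left hf] at hef; exact zero_ne_one hef
  have hall : ∀ t : F, InTr H e (dual f (t • e)) := by
    intro t
    obtain ⟨g, hg, hiso, hge, hgy⟩ := exists_unipotent hf hM hee hef he' hye he'y (σ (t / f y y))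
    have h1 := InTr.conjIso hf hg hiso hR
    rw [hge, hgy, hf.involutive, div_mul_cancel₀ _ hyy] at h1
    refine (hR.sub h1).congr rfl ?_
    rw [sub_eq_iff_eq_add, ← dual_add hf, add_sub_cancel]
  -- the same at the partner
  have hall' : ∀ t : F, InTr H e' (dual f (t • e')) := by
    intro t
    obtain ⟨x, hx⟩ : ∃ x, x = δ • e' - e := ⟨_, rfl⟩
    have hxx : f x x = 0 := by
      rw [hx]
      simp only [u_sub_left hf, u_sub_right hf, hf.smul_left, u_smul_right hf, he', hee, hef, hee']
      linear_combination (-1 : F) * hδ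
    have hex : f e x = -δ := by
      rw [hx, u_sub_right hf, u_smul_right hf, hee, hee', hσδ]
      ring
    obtain ⟨T, hT, hTy, hiso⟩ := exists_skewT hf hM hxx (c := -δ⁻¹) (by rw [map_neg, map_inv₀, hσδ, inv_neg]; ring)
    have hTe : (T : M₃) *ᵥ e = δ • e' := by
      rw [hTy, hex, show -δ⁻¹ * -δ = 1 by field_simp, one_smul, hx]
      abel
    have h1 := InTr.conjIso hf hT hiso (hall (t / (δ * σ δ)))
    rw [mulVec_smul, hTe, smul_smul] at h1
    have h2 := InTr.scale (c := δ⁻¹) (d := δ) (inv_mul_cancel₀ hδ0) h1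
    rw [smul_smul, inv_mul_cancel₀ hδ0, one_smul] at h2
    refine h2.congr rfl ?_
    conv_lhs => rw [← hf.involutive δ, ← dual_smul hf, smul_smul]
    congr 2
    simp only [hf.involutive, hσδ, map_neg]
    field_simp
  have hy' : ∀ t : F, InTr H e' (dual f (t • y)) := by
    intro t
    refine ((hall' t).commAxis hR (by rw [dual_dot hf]; exact he'y)).congr rfl ?_
    rw [dual_dot hf, u_smul_right hf, hee', mul_one, dual_smul hf]
  have hfull : FullC H e' := by
    intro a ha
    obtain ⟨u, rfl⟩ := dual_surj hf a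
    rw [dual_dot hf] at ha
    obtain ⟨α, β, γ, rfl⟩ := span_frame hf hee hef hye he'y hyy u
    rw [u_add_right hf, u_add_right hf, u_smul_right hf, u_smul_right hf, u_smul_right hf, hef, he', he'y,
      mul_zero, mul_zero, add_zero, add_zero, mul_one, map_eq_zero_iff σ σ.injective] at ha
    refine ((hall' β).add (hy' γ)).congr rfl ?_
    rw [ha, zero_smul, zero_add, dual_add hf]
  have hmove : ∀ z, f z z = 0 → f e' z ≠ 0 → z ∈ fullSub H := by
    intro z hzz hne
    obtain ⟨T, hT, hTy, -⟩ := exists_skewT hf hM hzz hδ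
    have h1 : (T : M₃) *ᵥ e' - e' ∈ fullSub H :=
      sub_mem (show (T : M₃) *ᵥ e' ∈ fullSub H from hfull.conj hT) (show e' ∈ fullSub H from hfull)
    rw [hTy, add_sub_cancel_left] at h1
    exact (Submodule.smul_mem_iff _ (mul_ne_zero hδ0 hne)).mp h1
  have hem : e ∈ fullSub H := hmove e hee (by rw [hef]; exact one_ne_zero)
  obtain ⟨τ, hτ⟩ := exists_trace_one hf
  have hz := hmove (e + y + (-(f y y) * τ) • e')
    (by
      simp only [hf.add_left, u_add_right hf, hf.smul_left, u_smul_right hf, hee, hey, hye, hee', hef, he',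
        he'y, u_symm hf he'y, map_neg, map_mul, ← hf.herm]
      linear_combination (-(f y y)) * hτ)
    (by
      rw [u_add_right hf, u_add_right hf, u_smul_right hf, hef, he'y, he', mul_zero, add_zero, add_zero]
      exact one_ne_zero)
  have hem' : e' ∈ fullSub H := hfull
  have hym : y ∈ fullSub H := by
    rw [show y = (e + y + (-(f y y) * τ) • e') - e - (-(f y y) * τ) • e' by abel]
    exact sub_mem (sub_mem hz hem) (Submodule.smul_mem _ _ hem')
  refine eq_SL_of_fullSub hH (top_unique fun z _ => ?_)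
  obtain ⟨a, b, c, rfl⟩ := span_frame hf hee hef hye he'y hyy z
  exact add_mem (add_mem (Submodule.smul_mem _ _ hem) (Submodule.smul_mem _ _ hem')) (Submodule.smul_mem _ _ hym)

theorem exists_generic_of_not_similarity {g : GL (Fin 3) F} (hgH : g ∈ H)
    (hg : g ∉ Cfsg.Geo.similarityGroup f) :
    ∃ x y, x ≠ 0 ∧ f x x = 0 ∧ InTr H x (dual f y) ∧ ∀ c : F, y ≠ c • x := by
  obtain ⟨δ, hδ0, hδ⟩ := exists_skew hf
  by_contra hno
  have hmul : ∀ u, u ≠ 0 → f u u = 0 → ∃ m : F,
      ∀ x, f ((g : M₃) *ᵥ x) ((g : M₃) *ᵥ u) = m * f x u := by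
    intro u hu0 hu
    have hδ' : σ δ + σ (σ δ) = 0 := by rw [hf.involutive, add_comm]; exact hδ
    obtain ⟨w, hw⟩ := dual_surj hf (dual f (σ δ • u) ᵥ* ((g⁻¹ : GL (Fin 3) F) : M₃))
    have hv0 : (g : M₃) *ᵥ u ≠ 0 := fun e => hu0 (by
      have h2 := congrArg (((g⁻¹ : GL (Fin 3) F) : M₃) *ᵥ ·) e
      simpa [mulVec_mulVec] using h2)
    have key : ∀ x, f ((g : M₃) *ᵥ x) w = δ * f x u := fun x => by
      rw [← dual_dot hf, hw, ← dotProduct_mulVec, mulVec_mulVec, ← Units.val_mul, inv_mul_cancel,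
        Units.val_one, one_mulVec, dual_dot hf, u_smul_right hf, hf.involutive]
    have hR : InTr H ((g : M₃) *ᵥ u) (dual f w) := ((inTr_skew hf hM hu hδ').conj hgH).congr rfl hw.symm
    have hw0 : w ≠ 0 := fun e => by
      obtain ⟨x₀, hx₀⟩ := exists_dual_left hf hu0
      have h2 := key x₀
      rw [e, u_zero_right hf] at h2
      exact mul_ne_zero hδ0 (fun e' => hx₀ (u_symm hf e')) h2.symm
    by_cases hne : f ((g : M₃) *ᵥ u) ((g : M₃) *ᵥ u) ≠ 0 ∨ ∀ c : F, w ≠ c • ((g : M₃) *ᵥ u)
    · exact absurd (exists_generic hf hM hv0 hw0 hR hne) hno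
    push Not at hne
    obtain ⟨-, d, hd'⟩ := hne
    have hd0 : σ d ≠ 0 := (map_ne_zero σ).mpr fun e => hw0 (by rw [hd', e, zero_smul])
    refine ⟨δ / σ d, fun x => ?_⟩
    have h2 := key x
    rw [hd', u_smul_right hf] at h2
    rw [div_mul_eq_mul_div, eq_div_iff hd0]
    linear_combination h2
  choose! m hm using hmul
  have hpair : ∀ a b, a ≠ 0 → f a a = 0 → b ≠ 0 → f b b = 0 → f a b ≠ 0 → m b = σ (m a) := by
    intro a b ha0 ha hb0 hb hab
    have h1 := hm b hb0 hb a
    rw [hf.herm, hm a ha0 ha b, map_mul, ← hf.herm] at h1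
    exact (mul_right_cancel₀ hab h1).symm
  obtain ⟨e, e', he, he', hee', -, -⟩ := exists_perp_pair hf (![] : Fin 0 → V₃) (by simp)
  have he0 : e ≠ 0 := fun h => hee' (by rw [h, u_zero_left hf])
  have he'0 : e' ≠ 0 := fun h => hee' (by rw [h, u_zero_right hf])
  have hconst : ∀ a, a ≠ 0 → f a a = 0 → m a = m e := by
    intro a ha0 ha
    obtain ⟨z, hz, haz, hez⟩ := exists_common hf ha0 ha he0 he
    have hz0 : z ≠ 0 := fun h => haz (by rw [h, u_zero_right hf])
    have h1 := hpair a z ha0 ha hz0 hz haz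
    rw [hpair e z he0 he hz0 hz hez] at h1
    exact (σ.injective h1).symm
  have hall : ∀ x y, f ((g : M₃) *ᵥ x) ((g : M₃) *ᵥ y) = m e * f x y := by
    intro x y
    refine perp_induction hf (![] : Fin 0 → V₃) (exists_perp_pair hf _ (by simp))
      (P := fun y => f ((g : M₃) *ᵥ x) ((g : M₃) *ᵥ y) = m e * f x y)
      (fun a b ha hb => by rw [mulVec_add, u_add_right hf, u_add_right hf, ha, hb, mul_add])
      (fun z hz _ => ?_) (fun i => i.elim0)
    rcases eq_or_ne z 0 with rfl | hz0
    · rw [mulVec_zero, u_zero_right hf, u_zero_right hf, mul_zero]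
    · rw [hm z hz0 hz x, hconst z hz0 hz]
  have hm0 : m e ≠ 0 := by
    intro h0
    obtain ⟨x, hx⟩ := exists_dual_left hf (v := (g : M₃) *ᵥ e) (fun h => he0 (by
      have h2 := congrArg (((g⁻¹ : GL (Fin 3) F) : M₃) *ᵥ ·) h
      simpa [mulVec_mulVec] using h2))
    refine hx ?_
    have h2 := hall e (((g⁻¹ : GL (Fin 3) F) : M₃) *ᵥ x)
    rwa [mulVec_mulVec, ← Units.val_mul, mul_inv_cancel, Units.val_one, one_mulVec, h0, zero_mul] at h2
  exact hg ⟨Units.mk0 _ hm0, fun a b => by rw [Units.val_mk0]; exact hall a b⟩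

end

/-- The similitudes of a unitary form in three variables are maximal. -/
theorem isMaximalIn_unitary_three :
    Cfsg.Geo.IsMaximalIn (Cfsg.Geo.specialLinear (Fin 3) F)
      (Cfsg.Geo.similarityGroup f ⊓ Cfsg.Geo.specialLinear (Fin 3) F) := by
  refine ⟨lt_of_le_of_ne inf_le_right fun heq => ?_, fun H hMH hHS => ?_⟩
  · exact MaxClass.not_le_similarityGroup_unitary (by simp) hf fun g hg => (heq.ge hg).1
  by_cases hle : H ≤ Cfsg.Geo.similarityGroup f
  · exact Or.inl (le_antisymm (le_inf hle hHS) hMH)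
  right
  obtain ⟨g, hgH, hg⟩ := SetLike.not_le_iff_exists.mp hle
  obtain ⟨x, y, hx0, hxx, hR, hy⟩ := exists_generic_of_not_similarity hf hMH hgH hg
  exact eq_SL_of_generic hf hMH hHS hx0 hxx hR hy

end Cfsg.Agent.Lib.SLThree78
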